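import Cfsg.Agent.H1.Cores
import Cfsg.Agent.H32.Sylow
import Mathlib.GroupTheory.PGroup
import Mathlib.GroupTheory.IndexNormal

/-! Fewer than `p²` Sylow `p`-subgroups and trivial `p`-core: the Sylow subgroups have order `p`. -/

set_option autoImplicit false

namespace H32

variable {G : Type*} [Group G] [Finite G] {p : ℕ} [Fact p.Prime]

theorem pCore_eq_bot_of_simple [IsSimpleGroup G] (hS : ¬ IsMulCommutative G) :
    Cfsg.pCore p G = ⊥ := by
  rcases IsSimpleGroup.eq_bot_or_eq_top_of_normal _ (H1.pCore_normal' p G) with h | h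
  · exact h
  · exfalso
    have hp : IsPGroup p G := (h ▸ H1.isPGroup_pCore p G).of_equiv Subgroup.topEquiv
    haveI := hp.center_nontrivial
    rcases IsSimpleGroup.eq_bot_or_eq_top_of_normal (Subgroup.center G) inferInstance with h' | h'
    · exact (Subgroup.nontrivial_iff_ne_bot _).mp inferInstance h'
    · exact hS ⟨⟨fun a b => (Subgroup.mem_center_iff.mp (h' ▸ Subgroup.mem_top b) a)⟩⟩

theorem card_orbit_of_lt_sq (hn : Nat.card (Sylow p G) < p ^ 2) {P Q : Sylow p G} (h : Q ≠ P) :
    Nat.card (MulAction.orbit (P : Subgroup G) Q) = p ∧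
      ((P : Subgroup G) ⊓ Q).relIndex P = p := by
  have hst : MulAction.stabilizer (P : Subgroup G) Q =
      ((P : Subgroup G) ⊓ Q).subgroupOf P := by
    ext ⟨x, hx⟩
    rw [MulAction.mem_stabilizer_iff, Subgroup.mem_subgroupOf]
    show (x • Q = Q) ↔ _
    rw [Sylow.smul_eq_iff_mem_normalizer]
    constructor
    · intro hxn
      have : x ∈ (P : Subgroup G) ⊓ Subgroup.normalizer ((Q : Subgroup G) : Set G) := ⟨hx, hxn⟩
      exact (P.isPGroup'.inf_normalizer_sylow Q).le this
    · exact fun hx => Subgroup.le_normalizer hx.2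
  obtain ⟨k, hk⟩ := P.isPGroup'.card_orbit Q
  have hk' : ((P : Subgroup G) ⊓ Q).relIndex P = p ^ k := by
    rw [Subgroup.relIndex, ← hst, MulAction.index_stabilizer, ← Nat.card_coe_set_eq, hk]
  have hk1 : k = 1 := by
    have h0 : k ≠ 0 := by
      rintro rfl
      rw [pow_zero, Subgroup.relIndex_eq_one, le_inf_iff] at hk'
      exact h (Sylow.ext (P.is_maximal' Q.isPGroup' hk'.2))
    have h2 : k < 2 := by
      refine (Nat.pow_lt_pow_iff_right (Fact.out : p.Prime).one_lt).mp (lt_of_le_of_lt ?_ hn)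
      rw [← hk]
      exact Nat.card_le_card_of_injective Subtype.val Subtype.coe_injective
    omega
  subst hk1
  exact ⟨by rw [hk, pow_one], by rw [hk', pow_one]⟩

theorem card_eq_of_card_sylow_lt_sq (hpG : p ∣ Nat.card G) (hn : Nat.card (Sylow p G) < p ^ 2)
    (hcore : Cfsg.pCore p G = ⊥) (P : Sylow p G) : Nat.card P = p := by
  classical
  have hp : p.Prime := Fact.out
  -- two Sylow subgroups exist
  obtain ⟨Q, hQ⟩ : ∃ Q, Q ≠ P := by
    by_contra h
    push Not at h
    have h1 : (P : Subgroup G) ≤ ⊥ := by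
      rw [← hcore, H1.pCore_eq_iInf_sylow]
      exact le_iInf fun R => by rw [h R]
    exact P.ne_bot_of_dvd_card hpG (le_bot_iff.mp h1)
  have hidx : ∀ {A B : Sylow p G}, B ≠ A → ((A : Subgroup G) ⊓ B).relIndex A = p :=
    fun h => (card_orbit_of_lt_sq hn h).2
  have hcard : ∀ {A B : Sylow p G}, B ≠ A → Nat.card ↥((A : Subgroup G) ⊓ B) * p = Nat.card A := by
    intro A B h
    have := Subgroup.relIndex_mul_relIndex (⊥ : Subgroup G) _ _ bot_le
      (inf_le_left : (A : Subgroup G) ⊓ B ≤ A)
    rwa [hidx h, Subgroup.relIndex_bot_left, Subgroup.relIndex_bot_left] at this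
  -- members of a line meet in the common intersection
  have hline : ∀ {A B : Sylow p G} {D : Subgroup G}, A ≠ B → D ≤ A → D ≤ B →
      Nat.card D * p = Nat.card A → (A : Subgroup G) ⊓ B = D := by
    intro A B D hne hA hB hD
    refine (Subgroup.eq_of_le_of_card_ge (le_inf hA hB) (le_of_eq ?_)).symm
    exact Nat.eq_of_mul_eq_mul_right hp.pos ((hcard hne.symm).trans hD.symm)
  have hsize : ∀ {A B : Sylow p G}, B ≠ A →
      p + 1 ≤ {R : Sylow p G | (A : Subgroup G) ⊓ B ≤ R}.ncard := by
    intro A B h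
    set D := (A : Subgroup G) ⊓ B
    have hnormA : (A : Subgroup G) ≤ Subgroup.normalizer (D : Set G) := by
      have hnil : Group.IsNilpotent (A : Subgroup G) := A.isPGroup'.isNilpotent
      have hco : (D.subgroupOf A).Normal := by
        refine Subgroup.normal_of_index_eq_minFac_card ?_
        have hd : p ∣ Nat.card A := ⟨_, (hcard h).symm.trans (mul_comm _ _)⟩
        obtain ⟨k, hk⟩ := IsPGroup.iff_card.mp A.isPGroup'
        change D.relIndex A = (Nat.card A).minFac
        rw [hidx h, hk]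
        have hk0 : k ≠ 0 := by rintro rfl; rw [hk, pow_zero, Nat.dvd_one] at hd; exact hp.ne_one hd
        rw [Nat.pow_minFac hk0, hp.minFac_eq]
      exact (Subgroup.normal_subgroupOf_iff_le_normalizer inf_le_left).mp hco
    have hsub : insert A (MulAction.orbit (A : Subgroup G) B) ⊆ {R : Sylow p G | D ≤ R} := by
      rintro R (rfl | ⟨⟨a, ha⟩, rfl⟩)
      · show D ≤ _
        exact inf_le_left
      · show D ≤ ((a • B : Sylow p G) : Subgroup G)
        intro d hd
        rw [Sylow.coe_subgroup_smul]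
        have h2 := (Subgroup.mem_normalizer_iff''.mp (hnormA ha) d).mp hd
        refine Subgroup.mem_pointwise_smul_iff_inv_smul_mem.mpr ?_
        have h3 : a⁻¹ * d * a ∈ (B : Subgroup G) := h2.2
        simpa [MulAut.smul_def, mul_assoc] using h3
    refine le_trans (le_of_eq ?_) (Set.ncard_le_ncard hsub (Set.toFinite _))
    rw [Set.ncard_insert_of_notMem ?_ (Set.toFinite _), ← Nat.card_coe_set_eq,
      (card_orbit_of_lt_sq hn h).1]
    rintro ⟨⟨a, ha⟩, hab⟩
    have hab' : a • B = A := hab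
    exact h (by rw [← inv_smul_smul a B, hab', Sylow.smul_eq_iff_mem_normalizer]; exact Subgroup.le_normalizer (inv_mem ha))
  set D := (P : Subgroup G) ⊓ Q with hD
  by_cases hall : ∀ R : Sylow p G, D ≤ R
  · have : D = ⊥ := by
      rw [← le_bot_iff, ← hcore, H1.pCore_eq_iInf_sylow]
      exact le_iInf hall
    have := hcard hQ
    rw [← hD, ‹D = ⊥›, Subgroup.card_bot, one_mul] at this
    exact this.symm
  exfalso
  push Not at hall
  obtain ⟨R, hR⟩ := hall
  let L : Finset (Sylow p G) := (Set.toFinite {X : Sylow p G | D ≤ X}).toFinset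
  have hmem : ∀ X, X ∈ L ↔ D ≤ (X : Subgroup G) := fun X => Set.Finite.mem_toFinset _
  have hLcard : p + 1 ≤ L.card := by
    rw [← Set.ncard_eq_toFinset_card]; exact hsize hQ
  let F : Sylow p G → Finset (Sylow p G) := fun X =>
    ((Set.toFinite {Y : Sylow p G | (R : Subgroup G) ⊓ X ≤ Y}).toFinset).erase R
  have hmemF : ∀ X Y, Y ∈ F X ↔ Y ≠ R ∧ (R : Subgroup G) ⊓ X ≤ Y := fun X Y => by
    simp [F, Finset.mem_erase]
  have hXR : ∀ X ∈ L, X ≠ R := fun X hX he => hR (he ▸ (hmem X).mp hX)
  have hFcard : ∀ X ∈ L, p ≤ (F X).card := by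
    intro X hX
    have hR' : R ∈ (Set.toFinite {Y : Sylow p G | (R : Subgroup G) ⊓ X ≤ Y}).toFinset :=
      (Set.Finite.mem_toFinset _).mpr
        (show (R : Subgroup G) ⊓ X ≤ R from inf_le_left)
    rw [Finset.card_erase_of_mem hR', ← Set.ncard_eq_toFinset_card]
    have := hsize (hXR X hX)
    omega
  have hdisj : (L : Set (Sylow p G)).PairwiseDisjoint F := by
    intro X hX X' hX' hne
    rw [Function.onFun, Finset.disjoint_left]
    intro Y hY hY'
    rw [hmemF] at hY hY'
    -- both lines are the line of `R` and `Y`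
    have hE : (R : Subgroup G) ⊓ X = (R : Subgroup G) ⊓ Y :=
      (hline hY.1.symm inf_le_left hY.2 (hcard (hXR X hX))).symm
    have hE' : (R : Subgroup G) ⊓ X' = (R : Subgroup G) ⊓ Y :=
      (hline hY'.1.symm inf_le_left hY'.2 (hcard (hXR X' hX'))).symm
    set E := (R : Subgroup G) ⊓ X
    have hEX' : E ≤ X' := by rw [hE, ← hE']; exact inf_le_right
    have hcardX : Nat.card D * p = Nat.card X := by
      rw [hcard hQ, Nat.card_congr (P.equiv X).toEquiv]
    have hcardE : Nat.card E * p = Nat.card X := by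
      rw [hcard (hXR X hX), Nat.card_congr (R.equiv X).toEquiv]
    have h1 : (X : Subgroup G) ⊓ X' = D := hline hne ((hmem X).mp hX) ((hmem X').mp hX') hcardX
    have h2 : (X : Subgroup G) ⊓ X' = E := hline hne inf_le_right hEX' hcardE
    exact hR (h1 ▸ h2 ▸ inf_le_left)
  have htot : (L.biUnion F).card < Nat.card (Sylow p G) := by
    rw [← Nat.card_eq_finsetCard]
    refine Finite.card_subtype_lt (p := fun Y => Y ∈ L.biUnion F) (x := R) ?_
    simp only [Finset.mem_biUnion, not_exists, not_and]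
    intro X _ h
    exact ((hmemF X R).mp h).1 rfl
  rw [Finset.card_biUnion hdisj] at htot
  have h3 : (p + 1) * p ≤ ∑ X ∈ L, (F X).card := by
    calc (p + 1) * p ≤ L.card * p := Nat.mul_le_mul_right p hLcard
      _ = ∑ _X ∈ L, p := by rw [Finset.sum_const, smul_eq_mul]
      _ ≤ _ := Finset.sum_le_sum hFcard
  rw [pow_two] at hn
  nlinarith

end H32
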