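import Cfsg.Agent.H32.Sylow
import Cfsg.Agent.H1.CoprimeAction2
import Mathlib.GroupTheory.PGroup
import Mathlib.Data.Nat.Factorization.Basic
import Mathlib.Algebra.IsPrimePow

/-! Sylow numbers and normal subgroups. -/

set_option autoImplicit false

namespace H32

open scoped commutatorElement

variable {G : Type*} [Group G] [Finite G] {p : ℕ} [Fact p.Prime]

/-- `n_p(G) = n_p(N) * n_p(N_G(P ∩ N))`. -/
theorem card_sylow_eq_mul_normalizer_inf (P : Sylow p G) (N : Subgroup G) [N.Normal] :
    Nat.card (Sylow p G) = Nat.card (Sylow p N) *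
      Nat.card (Sylow p (Subgroup.normalizer (((P : Subgroup G) ⊓ N : Subgroup G) : Set G))) := by
  set Q := (P : Subgroup G) ⊓ N with hQ
  set H := Subgroup.normalizer (Q : Set G) with hH
  have hPH : (P : Subgroup G) ≤ H := sylow_le_normalizer_inf P N
  have hNP : Subgroup.normalizer ((P : Subgroup G) : Set G) ≤ H :=
    le_trans (le_inf le_rfl Subgroup.le_normalizer_of_normal) Subgroup.inf_normalizer_le_normalizer_inf
  have h1 : Nat.card (Sylow p N) = H.index := by
    rw [(sylowInf P N).card_eq_index_normalizer]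
    have e : Subgroup.normalizer ((sylowInf P N : Subgroup N) : Set N) = H.subgroupOf N := by
      rw [hH, hQ, Subgroup.subgroupOf_normalizer_eq inf_le_right, coe_sylowInf,
        Subgroup.inf_subgroupOf_right]
    show (Subgroup.normalizer ((sylowInf P N : Subgroup N) : Set N)).index = H.index
    rw [e]
    show H.relIndex N = H.index
    rw [relIndex_normal_eq, frattini_inf P N, Subgroup.relIndex_top_right]
  have h2 : Nat.card (Sylow p H) = (Subgroup.normalizer ((P : Subgroup G) : Set G)).relIndex H := by
    rw [(P.subtype hPH).card_eq_index_normalizer]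
    have e : Subgroup.normalizer ((P.subtype hPH : Subgroup H) : Set H) =
        (Subgroup.normalizer ((P : Subgroup G) : Set G)).subgroupOf H := by
      rw [Sylow.coe_subtype, ← Subgroup.subgroupOf_normalizer_eq hPH]
    show (Subgroup.normalizer ((P.subtype hPH : Subgroup H) : Set H)).index = _
    rw [e]
    rfl
  rw [h1, h2, P.card_eq_index_normalizer, mul_comm, Subgroup.relIndex_mul_index hNP]
  rfl

/-- For a normal `p'`-subgroup `N`: `n_p(G) = n_p(G/N) * |N : N_N(P)|`. -/
theorem card_sylow_eq_mul_quotient (P : Sylow p G) (N : Subgroup G) [N.Normal] :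
    Nat.card (Sylow p G) = Nat.card (Sylow p (G ⧸ N)) *
      (Subgroup.normalizer ((P : Subgroup G) : Set G)).relIndex N := by
  set K := Subgroup.normalizer ((P : Subgroup G) : Set G)
  let f := QuotientGroup.mk' N
  have hf : Function.Surjective f := QuotientGroup.mk'_surjective N
  have e : Nat.card (Sylow p (G ⧸ N)) = (K ⊔ N).index := by
    rw [(P.mapSurjective hf).card_eq_index_normalizer]
    have hmap : Subgroup.normalizer ((P.mapSurjective hf : Subgroup (G ⧸ N)) : Set (G ⧸ N)) = K.map f := by
      rw [Sylow.coe_mapSurjective]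
      refine le_antisymm ?_ (Subgroup.le_normalizer_map f)
      intro q hq
      obtain ⟨g, rfl⟩ := hf q
      have hg : g ∈ Subgroup.normalizer (((P : Subgroup G) ⊔ N : Subgroup G) : Set G) := by
        have : (P : Subgroup G) ⊔ N = ((P : Subgroup G).map f).comap f := by
          rw [Subgroup.comap_map_eq, QuotientGroup.ker_mk']
        rw [this]
        exact Subgroup.le_normalizer_comap f hq
      set M := Subgroup.normalizer (((P : Subgroup G) ⊔ N : Subgroup G) : Set G)
      -- Frattini argument in `P ⊔ N`
      have hPM : (P : Subgroup G) ⊔ N ≤ M := Subgroup.le_normalizer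
      haveI : (((P : Subgroup G) ⊔ N).subgroupOf M).Normal := Subgroup.normal_in_normalizer
      have := Sylow.normalizer_sup_eq_top' (P.subtype (le_sup_left.trans hPM))
        (N := ((P : Subgroup G) ⊔ N).subgroupOf M)
        (by
          rw [Sylow.coe_subtype]
          intro x hx
          exact Subgroup.mem_sup_left (show (x : G) ∈ (P : Subgroup G) from hx))
      have hmem : (⟨g, hg⟩ : M) ∈ Subgroup.normalizer ((P.subtype (le_sup_left.trans hPM) : Subgroup M) : Set M) ⊔
          ((P : Subgroup G) ⊔ N).subgroupOf M := this.ge (Subgroup.mem_top _)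
      rw [Sylow.coe_subtype, ← Subgroup.subgroupOf_normalizer_eq (le_sup_left.trans hPM)] at hmem
      obtain ⟨a, ha, b, hb, hab⟩ := (Subgroup.mem_sup_of_normal_right).mp hmem
      have hab' : (a : G) * b = g := congrArg Subtype.val hab
      have hb' : f (b : G) ∈ K.map f := by
        have : (b : G) ∈ ((P : Subgroup G) ⊔ N) := hb
        refine Subgroup.map_le_iff_le_comap.mpr ?_ (Subgroup.mem_map_of_mem f this)
        refine sup_le (Subgroup.le_normalizer.trans (Subgroup.le_comap_map f K)) ?_
        intro x hx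
        show f x ∈ K.map f
        rw [show f x = 1 from (QuotientGroup.eq_one_iff x).mpr hx]
        exact one_mem _
      rw [← hab', map_mul]
      exact mul_mem (Subgroup.mem_map_of_mem f ha) hb'
    show (Subgroup.normalizer ((P.mapSurjective hf : Subgroup (G ⧸ N)) : Set (G ⧸ N))).index = _
    rw [hmap, Subgroup.index_map, MonoidHom.range_eq_top.mpr hf, Subgroup.index_top, mul_one,
      QuotientGroup.ker_mk']
  rw [e, P.card_eq_index_normalizer, mul_comm, relIndex_normal_eq K N,
    Subgroup.relIndex_mul_index le_sup_left]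
  rfl

/-- Each prime-power part of `|N : C_N(P)|` is congruent to 1 modulo `p`, for a `p'`-group `N`
normalised by the `p`-subgroup `P`. -/
theorem ordProj_relIndex_centralizer_modEq (P N : Subgroup G) (hP : IsPGroup p P)
    (hPN : P ≤ Subgroup.normalizer (N : Set G)) (hN : ¬ p ∣ Nat.card N) (q : ℕ) (hq : q.Prime) :
    q ^ ((Subgroup.centralizer (P : Set G)).relIndex N).factorization q ≡ 1 [MOD p] := by
  haveI := Fact.mk hq
  have hp : p.Prime := Fact.out
  set C := N ⊓ Subgroup.centralizer (P : Set G) with hC
  obtain ⟨R₀⟩ : Nonempty (Sylow q C) := inferInstance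
  set U := (R₀ : Subgroup C).map C.subtype with hU
  have hUC : U ≤ C := Subgroup.map_subtype_le _
  have hPU : P ≤ Subgroup.normalizer (U : Set G) := by
    refine le_trans ?_ (Subgroup.centralizer_le_normalizer _)
    intro x hx
    rw [Subgroup.mem_centralizer_iff]
    intro u hu
    exact (Subgroup.mem_centralizer_iff.mp (hUC hu).2 x hx).symm
  have hcop : (Nat.card P).Coprime (Nat.card N) := by
    obtain ⟨k, hk⟩ := IsPGroup.iff_card.mp hP
    rw [hk]
    exact ((hp.coprime_iff_not_dvd).mpr hN).pow_left k
  obtain ⟨R, hUR, hPR⟩ := H1.exists_invariant_sylow_ge hPN hcop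
    (Or.inl (by haveI := hP.isNilpotent; infer_instance)) q (hUC.trans inf_le_left) (R₀.isPGroup'.map C.subtype) hPU
  set R' := (R : Subgroup N).map N.subtype with hR'
  have hR'N : R' ≤ N := Subgroup.map_subtype_le _
  have hfix : R' ⊓ Subgroup.centralizer (P : Set G) = U := by
    refine (Subgroup.eq_of_le_of_card_ge (le_inf hUR (hUC.trans inf_le_right)) ?_).symm
    have hle : R' ⊓ Subgroup.centralizer (P : Set G) ≤ C :=
      le_inf (inf_le_left.trans hR'N) inf_le_right
    have hqg : IsPGroup q ↥((R' ⊓ Subgroup.centralizer (P : Set G)).subgroupOf C) :=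
      IsPGroup.comap_subtype ((R.isPGroup'.map N.subtype).to_le inf_le_left)
    obtain ⟨S, hS⟩ := hqg.exists_le_sylow
    calc Nat.card ↥(R' ⊓ Subgroup.centralizer (P : Set G))
        = Nat.card ↥((R' ⊓ Subgroup.centralizer (P : Set G)).subgroupOf C) :=
          (Nat.card_congr (Subgroup.subgroupOfEquivOfLe hle).toEquiv).symm
      _ ≤ Nat.card S := Subgroup.card_le_of_le hS
      _ = Nat.card U := by
          rw [hU, Subgroup.card_map_of_injective Subtype.coe_injective, Nat.card_congr (S.equiv R₀).toEquiv]
  -- P acts on R' by conjugation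
  have hcong : Nat.card R' ≡ Nat.card U [MOD p] := by
    let act : MulAction P R' :=
      { smul := fun x r => ⟨(x : G) * r * (x : G)⁻¹, (Subgroup.mem_normalizer_iff.mp (hPR x.2) r).mp r.2⟩
        one_smul := fun r => Subtype.ext (by show (1 : G) * r * (1 : G)⁻¹ = r; simp)
        mul_smul := fun x y r => Subtype.ext (by
          show ((x : G) * y) * r * ((x : G) * y)⁻¹ = (x : G) * ((y : G) * r * (y : G)⁻¹) * (x : G)⁻¹
          group) }
    letI := act
    refine (hP.card_modEq_card_fixedPoints (α := R')).trans (Nat.modEq_iff_dvd.mpr ?_)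
    suffices h : Nat.card (MulAction.fixedPoints P R') = Nat.card U by simp [h]
    rw [← hfix]
    refine Nat.card_congr
      { toFun := fun r => ⟨((r : R') : G), (r : R').2, ?_⟩
        invFun := fun r => ⟨⟨r, r.2.1⟩, ?_⟩
        left_inv := fun r => rfl
        right_inv := fun r => rfl }
    · show ((r : R') : G) ∈ Subgroup.centralizer (P : Set G)
      rw [Subgroup.mem_centralizer_iff]
      intro x hx
      have h : x * ((r : R') : G) * x⁻¹ = ((r : R') : G) := congrArg Subtype.val (r.2 ⟨x, hx⟩)
      exact mul_inv_eq_iff_eq_mul.mp h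
    · intro x
      refine Subtype.ext ?_
      show (x : G) * r * (x : G)⁻¹ = r
      rw [mul_inv_eq_iff_eq_mul]
      exact Subgroup.mem_centralizer_iff.mp r.2.2 x x.2
  have hcR : Nat.card R' = q ^ (Nat.card N).factorization q := by
    rw [hR', Subgroup.card_map_of_injective Subtype.coe_injective, R.card_eq_multiplicity]
  have hcU : Nat.card U = q ^ (Nat.card C).factorization q := by
    rw [hU, Subgroup.card_map_of_injective Subtype.coe_injective, R₀.card_eq_multiplicity]
  have hrel : (Subgroup.centralizer (P : Set G)).relIndex N * Nat.card C = Nat.card N := by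
    rw [← Subgroup.inf_relIndex_right (Subgroup.centralizer (P : Set G)) N, inf_comm, mul_comm,
      ← Subgroup.relIndex_bot_left, Subgroup.relIndex_mul_relIndex _ _ _ bot_le inf_le_left,
      Subgroup.relIndex_bot_left]
  set m := (Subgroup.centralizer (P : Set G)).relIndex N
  have hm0 : m ≠ 0 := fun h => by rw [h, zero_mul] at hrel; exact Nat.card_pos.ne' hrel.symm
  rw [hcR, hcU, ← hrel, Nat.factorization_mul hm0 Nat.card_pos.ne', Finsupp.add_apply, pow_add] at hcong
  refine Nat.ModEq.cancel_right_of_coprime ?_ (hcong.trans (by rw [one_mul]))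
  by_cases hqp : q = p
  · subst q
    rw [Nat.factorization_eq_zero_of_not_dvd (fun h => hN (h.trans (hrel ▸ Dvd.intro_left _ rfl))), pow_zero]
    exact Nat.coprime_one_right p
  · exact ((Nat.coprime_primes hp hq).mpr (Ne.symm hqp)).pow_right _

theorem relIndex_normalizer_eq_centralizer (P : Sylow p G) (N : Subgroup G) [N.Normal]
    (hN : (P : Subgroup G) ⊓ N = ⊥) :
    (Subgroup.normalizer ((P : Subgroup G) : Set G)).relIndex N =
      (Subgroup.centralizer ((P : Subgroup G) : Set G)).relIndex N := by
  rw [← Subgroup.inf_relIndex_right, ← Subgroup.inf_relIndex_right (Subgroup.centralizer _)]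
  congr 1
  refine le_antisymm (le_inf ?_ inf_le_right)
    (le_inf (inf_le_left.trans (Subgroup.centralizer_le_normalizer _)) inf_le_right)
  intro x ⟨hx, hxN⟩
  rw [Subgroup.mem_centralizer_iff]
  intro y hy
  have h : ⁅x, y⁆ ∈ (P : Subgroup G) ⊓ N := by
    refine ⟨?_, ?_⟩
    · show ⁅x, y⁆ ∈ (P : Subgroup G)
      exact Subgroup.mul_mem _ ((Subgroup.mem_normalizer_iff.mp hx y).mp hy) (Subgroup.inv_mem _ hy)
    · rw [commutatorElement_def, mul_assoc, mul_assoc]
      exact mul_mem hxN (by rw [← mul_assoc]; exact Subgroup.Normal.conj_mem inferInstance _ (inv_mem hxN) y)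
  rw [hN, Subgroup.mem_bot, commutatorElement_eq_one_iff_mul_comm] at h
  exact h.symm

/-- Sylow numbers factor into prime powers congruent to 1 mod `p` and simple Sylow numbers. -/
theorem exists_sylow_factorisation.{w} (p : ℕ) [Fact p.Prime] (n : ℕ) :
    ∀ (G : Type w) [Group G] [Finite G], Nat.card G ≤ n →
    ∃ l : List ℕ, l.prod = Nat.card (Sylow p G) ∧
      ∀ m ∈ l, (IsPrimePow m ∧ m % p = 1) ∨
        ∃ (S : Type w) (_ : Group S) (_ : Finite S), IsSimpleGroup S ∧ m = Nat.card (Sylow p S) := by
  induction n with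
  | zero => intro G _ _ h; exact absurd h (by have := Nat.card_pos (α := G); omega)
  | succ n ih =>
    intro G _ _ hG
    by_cases hs : IsSimpleGroup G
    · exact ⟨[Nat.card (Sylow p G)], by simp, fun m hm => Or.inr ⟨G, _, ‹_›, hs, by simpa using hm⟩⟩
    rcases subsingleton_or_nontrivial G with hG1 | hG1
    · refine ⟨[], ?_, by simp⟩
      haveI : Subsingleton (Sylow p G) :=
        ⟨fun a b => Sylow.ext (Subsingleton.elim _ _)⟩
      obtain ⟨P⟩ : Nonempty (Sylow p G) := inferInstance
      simp [Nat.card_unique]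
    obtain ⟨N, hN, hNb, hNt⟩ : ∃ N : Subgroup G, N.Normal ∧ N ≠ ⊥ ∧ N ≠ ⊤ := by
      by_contra h
      push Not at h
      exact hs ⟨fun N hN => or_iff_not_imp_left.mpr (h N hN)⟩
    haveI := hN
    obtain ⟨P⟩ : Nonempty (Sylow p G) := inferInstance
    have hsmall : ∀ (K : Subgroup G), K ≠ ⊤ → Nat.card K ≤ n := fun K hK => by
      have : Nat.card K < Nat.card G := lt_of_le_of_ne (Subgroup.card_le_card_group K)
        (fun h => hK (Subgroup.eq_top_of_card_eq K h))
      omega
    have hquot : ∀ (K : Subgroup G) [K.Normal], K ≠ ⊥ → Nat.card (G ⧸ K) ≤ n := fun K _ hK => by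
      have h := K.card_mul_index
      rw [← Subgroup.index_eq_card K]
      have h1 : 1 < Nat.card K := K.one_lt_card_iff_ne_bot.mpr hK
      have h2 : 0 < K.index := Nat.pos_of_ne_zero Subgroup.index_ne_zero_of_finite
      nlinarith
    by_cases hQ : (P : Subgroup G) ⊓ N = ⊥
    · obtain ⟨l, hl, hl'⟩ := ih (G ⧸ N) (hquot N hNb)
      have hnd : ¬ p ∣ Nat.card N := fun h => by
        apply (sylowInf P N).ne_bot_of_dvd_card h
        rw [coe_sylowInf, Subgroup.subgroupOf_eq_bot, disjoint_iff, hQ]
      set m := (Subgroup.centralizer ((P : Subgroup G) : Set G)).relIndex N with hm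
      have hm0 : m ≠ 0 := Subgroup.index_ne_zero_of_finite
      refine ⟨l ++ (m.primeFactors.toList.map fun q => q ^ m.factorization q), ?_, ?_⟩
      · rw [List.prod_append, hl, Finset.prod_map_toList, card_sylow_eq_mul_quotient P N,
          relIndex_normalizer_eq_centralizer P N hQ]
        congr 1
        exact (Nat.prod_primeFactors_pow_factorization hm0).symm
      · intro k hk
        rcases List.mem_append.mp hk with hk | hk
        · exact hl' k hk
        · obtain ⟨q, hq, rfl⟩ := List.mem_map.mp hk
          rw [Finset.mem_toList, Nat.mem_primeFactors] at hq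
          refine Or.inl ⟨⟨q, m.factorization q, hq.1.prime, hq.1.factorization_pos_of_dvd hm0 hq.2.1, rfl⟩, ?_⟩
          have := ordProj_relIndex_centralizer_modEq (P : Subgroup G) N P.isPGroup'
            Subgroup.le_normalizer_of_normal hnd q hq.1
          rw [Nat.ModEq, Nat.one_mod_eq_one.mpr (Fact.out : p.Prime).ne_one] at this
          exact this
    · by_cases hn : Subgroup.normalizer (((P : Subgroup G) ⊓ N : Subgroup G) : Set G) = ⊤
      · haveI := Subgroup.normalizer_eq_top_iff.mp hn
        obtain ⟨l, hl, hl'⟩ := ih (G ⧸ ((P : Subgroup G) ⊓ N)) (hquot _ hQ)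
        refine ⟨l, ?_, hl'⟩
        rw [hl, card_sylow_eq_mul_quotient P ((P : Subgroup G) ⊓ N),
          Subgroup.relIndex_eq_one.mpr (inf_le_left.trans Subgroup.le_normalizer), mul_one]
      · obtain ⟨l₁, h1, h1'⟩ := ih N (hsmall N hNt)
        obtain ⟨l₂, h2, h2'⟩ := ih _ (hsmall _ hn)
        refine ⟨l₁ ++ l₂, ?_, fun k hk => (List.mem_append.mp hk).elim (h1' k) (h2' k)⟩
        rw [List.prod_append, h1, h2, ← card_sylow_eq_mul_normalizer_inf P N]

end H32
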