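import Cfsg.Agent.H10.UpperSeries

/-!
Alternating normal series and `p`-length: characterisation, subgroups, quotients, extensions.
-/

set_option autoImplicit false
set_option linter.style.haveILetI false

open Cfsg

namespace H32.PSeries

variable {G : Type*} [Group G] {H : Type*} [Group H] {p : ℕ}

/-- A normal series of length `n` whose factors are alternately `p'`-groups and `p`-groups. -/
structure AltSeries (p : ℕ) (K : ℕ → Subgroup G) (n : ℕ) : Prop where
  zero : K 0 = ⊥
  mono : Monotone K
  normal : ∀ i, (K i).Normal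
  even_factor : ∀ i < n, Even i → ((K i).relIndex (K (i + 1))).Coprime p
  odd_factor : ∀ i < n, ¬ Even i → ∃ m : ℕ, (K i).relIndex (K (i + 1)) = p ^ m

theorem relIndex_comap_mk (N : Subgroup G) [N.Normal] (K : Subgroup (G ⧸ N)) :
    N.relIndex (K.comap (QuotientGroup.mk' N)) = Nat.card K := by
  calc N.relIndex (K.comap (QuotientGroup.mk' N))
      = (QuotientGroup.mk' N).ker.relIndex (K.comap (QuotientGroup.mk' N)) := by
        rw [QuotientGroup.ker_mk']
    _ = Nat.card K := by
        rw [Subgroup.relIndex_ker,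
          Subgroup.map_comap_eq_self_of_surjective (QuotientGroup.mk'_surjective N)]

theorem card_map_mk (N : Subgroup G) [N.Normal] (K : Subgroup G) :
    Nat.card (K.map (QuotientGroup.mk' N)) = N.relIndex K := by
  rw [← Subgroup.relIndex_ker, QuotientGroup.ker_mk']

theorem upperPSeries_isAlt [Finite G] [Fact p.Prime] (n : ℕ) :
    AltSeries p (fun i => (upperPSeries p G i).1) n := by
  refine ⟨rfl, fun i j hij => H10.upperPSeries_mono hij, fun i => (upperPSeries p G i).2,
    fun i _ h => ?_, fun i _ h => ?_⟩
  · rw [H10.upperPSeries_succ_of_even h, relIndex_comap_mk]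
    exact H10.pPrimeCore_coprime
  · rw [H10.upperPSeries_succ_of_not_even h, relIndex_comap_mk]
    exact (H10.pCore_isPGroup (G := G ⧸ (upperPSeries p G i).1) (p := p)).exists_card_eq

theorem le_upperPSeries [Finite G] [Fact p.Prime] {K : ℕ → Subgroup G} {n : ℕ}
    (h : AltSeries p K n) : ∀ i ≤ n, K i ≤ (upperPSeries p G i).1 := by
  intro i
  induction i with
  | zero => intro _; rw [h.zero]; exact bot_le
  | succ i ih =>
    intro hi
    set U := (upperPSeries p G i).1 with hU
    haveI := h.normal (i + 1)
    have hn : ((K (i + 1)).map (QuotientGroup.mk' U)).Normal :=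
      (h.normal (i + 1)).map _ (QuotientGroup.mk'_surjective U)
    have hdvd : Nat.card ((K (i + 1)).map (QuotientGroup.mk' U)) ∣ (K i).relIndex (K (i + 1)) := by
      rw [card_map_mk]
      exact Subgroup.relIndex_dvd_of_le_left _ (ih (by omega))
    by_cases he : Even i
    · rw [H10.upperPSeries_succ_of_even he, ← Subgroup.map_le_iff_le_comap]
      exact H10.le_pPrimeCore hn ((h.even_factor i (by omega) he).coprime_dvd_left hdvd)
    · rw [H10.upperPSeries_succ_of_not_even he, ← Subgroup.map_le_iff_le_comap]
      obtain ⟨m, hm⟩ := h.odd_factor i (by omega) he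
      obtain ⟨j, -, hj⟩ := (Nat.dvd_prime_pow Fact.out).mp (hm ▸ hdvd)
      exact H10.le_pCore hn (IsPGroup.of_card hj)

theorem pLengthLE_of_series [Finite G] [Fact p.Prime] {K : ℕ → Subgroup G} {k : ℕ}
    (h : AltSeries p K (2 * k + 1)) (ht : K (2 * k + 1) = ⊤) : PLengthLE p k G :=
  top_le_iff.mp (ht ▸ le_upperPSeries h _ le_rfl)

theorem pLengthLE_mono [Finite G] [Fact p.Prime] {a b : ℕ} (h : PLengthLE p a G) (hab : a ≤ b) :
    PLengthLE p b G :=
  top_le_iff.mp ((Eq.ge h).trans (H10.upperPSeries_mono (by omega)))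

theorem altSeries_comap [Fact p.Prime] {K : ℕ → Subgroup G} {n : ℕ} (h : AltSeries p K n)
    (f : H →* G) (hf : Function.Injective f) : AltSeries p (fun i => (K i).comap f) n := by
  have key : ∀ i, ((K i).comap f).relIndex ((K (i + 1)).comap f) ∣ (K i).relIndex (K (i + 1)) := by
    intro i
    haveI := h.normal i
    rw [Subgroup.relIndex_comap]
    exact H10.relIndex_dvd_relIndex_of_le_right _ (Subgroup.map_comap_le f _)
  refine ⟨?_, fun i j hij => Subgroup.comap_mono (h.mono hij), fun i => (h.normal i).comap f,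
    fun i hi he => (h.even_factor i hi he).coprime_dvd_left (key i), fun i hi he => ?_⟩
  · simp only [h.zero]
    exact (MonoidHom.comap_bot f).trans ((MonoidHom.ker_eq_bot_iff f).mpr hf)
  · obtain ⟨m, hm⟩ := h.odd_factor i hi he
    obtain ⟨j, -, hj⟩ := (Nat.dvd_prime_pow Fact.out).mp (hm ▸ key i)
    exact ⟨j, hj⟩

theorem altSeries_map [Fact p.Prime] {K : ℕ → Subgroup G} {n : ℕ} (h : AltSeries p K n)
    (f : G →* H) (hf : Function.Surjective f) : AltSeries p (fun i => (K i).map f) n := by
  have key : ∀ i, ((K i).map f).relIndex ((K (i + 1)).map f) ∣ (K i).relIndex (K (i + 1)) := by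
    intro i
    haveI := (h.normal i).map f hf
    calc ((K i).map f).relIndex ((K (i + 1)).map f)
        = (((K i).map f).comap f).relIndex (K (i + 1)) := (Subgroup.relIndex_comap _ f _).symm
      _ ∣ (K i).relIndex (K (i + 1)) :=
        Subgroup.relIndex_dvd_of_le_left _ (Subgroup.le_comap_map f _)
  refine ⟨?_, fun i j hij => Subgroup.map_mono (h.mono hij), fun i => (h.normal i).map f hf,
    fun i hi he => (h.even_factor i hi he).coprime_dvd_left (key i), fun i hi he => ?_⟩
  · simp [h.zero]
  · obtain ⟨m, hm⟩ := h.odd_factor i hi he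
    obtain ⟨j, -, hj⟩ := (Nat.dvd_prime_pow Fact.out).mp (hm ▸ key i)
    exact ⟨j, hj⟩

theorem pLengthLE_of_injective [Finite G] [Fact p.Prime] {k : ℕ} (hG : PLengthLE p k G)
    (f : H →* G) (hf : Function.Injective f) : PLengthLE p k H := by
  haveI := Finite.of_injective f hf
  refine pLengthLE_of_series (altSeries_comap (upperPSeries_isAlt (2 * k + 1)) f hf) ?_
  show (upperPSeries p G (2 * k + 1)).1.comap f = ⊤
  rw [hG, Subgroup.comap_top]

theorem pLengthLE_of_surjective [Finite G] [Fact p.Prime] {k : ℕ} (hG : PLengthLE p k G)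
    (f : G →* H) (hf : Function.Surjective f) : PLengthLE p k H := by
  haveI := Finite.of_surjective f hf
  refine pLengthLE_of_series (altSeries_map (upperPSeries_isAlt (2 * k + 1)) f hf) ?_
  show (upperPSeries p G (2 * k + 1)).1.map f = ⊤
  rw [hG, Subgroup.map_top_of_surjective f hf]

theorem pLengthLE_zero_of_coprime [Finite G] [Fact p.Prime] (h : (Nat.card G).Coprime p) :
    PLengthLE p 0 G := by
  refine pLengthLE_of_series (K := fun i => if i = 0 then ⊥ else ⊤)
    ⟨rfl, fun i j hij => ?_, fun i => ?_, fun i hi _ => ?_, fun i hi he => ?_⟩ rfl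
  · by_cases hi : i = 0
    · simp [hi]
    · simp [show j ≠ 0 by omega]
  · by_cases hi : i = 0 <;> simp [hi] <;> infer_instance
  · obtain rfl : i = 0 := by omega
    simpa using h
  · obtain rfl : i = 0 := by omega
    simp at he

theorem pLengthLE_one_of_isPGroup [Finite G] [Fact p.Prime] (h : IsPGroup p G) :
    PLengthLE p 1 G := by
  refine pLengthLE_of_series (K := fun i => if i ≤ 1 then ⊥ else ⊤)
    ⟨rfl, fun i j hij => ?_, fun i => ?_, fun i hi he => ?_, fun i hi he => ?_⟩ rfl
  · by_cases hj : j ≤ 1
    · simp [hj, le_trans hij hj]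
    · simp [hj]
  · by_cases hi : i ≤ 1 <;> simp [hi] <;> infer_instance
  · rcases (show i = 0 ∨ i = 1 ∨ i = 2 by omega) with rfl | rfl | rfl <;> simp at he ⊢
  · rcases (show i = 0 ∨ i = 1 ∨ i = 2 by omega) with rfl | rfl | rfl <;> simp at he ⊢
    exact h.exists_card_eq

/-- `p`-length is subadditive on extensions. -/
theorem pLengthLE_add [Finite G] [Fact p.Prime] (N : Subgroup G) [hN : N.Normal] {a b : ℕ}
    (ha : PLengthLE p a N) (hb : PLengthLE p b (G ⧸ N)) : PLengthLE p (a + b) G := by
  set A : ℕ → Subgroup G := fun i => (upperPSeries p N i).1.map N.subtype with hA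
  set B : ℕ → Subgroup G := fun i => (upperPSeries p (G ⧸ N) i).1.comap (QuotientGroup.mk' N)
    with hB
  have hchar : ∀ i, ((upperPSeries p N i).1).Characteristic := by
    intro i
    rw [Subgroup.characteristic_iff_map_le]
    intro φ
    exact le_upperPSeries (altSeries_map (upperPSeries_isAlt i) φ.toMonoidHom φ.surjective) i le_rfl
  have hAn : ∀ i, (A i).Normal := fun i => by
    haveI := hchar i
    exact ConjAct.normal_of_characteristic_of_normal
  have hAtop : A (2 * a + 1) = N := by
    simp only [hA]
    rw [show (upperPSeries p N (2 * a + 1)).1 = ⊤ from ha, ← MonoidHom.range_eq_map,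
      Subgroup.range_subtype]
  have hBzero : B 0 = N := by
    simp only [hB]
    rw [show (upperPSeries p (G ⧸ N) 0).1 = ⊥ from rfl, MonoidHom.comap_bot, QuotientGroup.ker_mk']
  have hBge : ∀ i, N ≤ B i := fun i => hBzero ▸ Subgroup.comap_mono (H10.upperPSeries_mono (Nat.zero_le i))
  have hAle : ∀ i, A i ≤ N := fun i => Subgroup.map_subtype_le _
  have hAr : ∀ i, (A i).relIndex (A (i + 1)) =
      (upperPSeries p N i).1.relIndex (upperPSeries p N (i + 1)).1 := fun i =>
    Subgroup.relIndex_map_map_of_injective _ _ N.subtype_injective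
  have hBr : ∀ i, (B i).relIndex (B (i + 1)) =
      (upperPSeries p (G ⧸ N) i).1.relIndex (upperPSeries p (G ⧸ N) (i + 1)).1 := fun i => by
    simp only [hB]
    rw [Subgroup.relIndex_comap,
      Subgroup.map_comap_eq_self_of_surjective (QuotientGroup.mk'_surjective N)]
  have SA := upperPSeries_isAlt (G := N) (p := p) (2 * a + 1)
  have SB := upperPSeries_isAlt (G := G ⧸ N) (p := p) (2 * b + 1)
  refine pLengthLE_of_series (K := fun i => if i ≤ 2 * a then A i else B (i - 2 * a))
    ⟨?_, ?_, ?_, ?_, ?_⟩ ?_
  · simp [hA, show (upperPSeries p N 0).1 = ⊥ from rfl]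
  · intro i j hij
    by_cases hj : j ≤ 2 * a
    · simp only [hj, le_trans hij hj, if_true]
      exact Subgroup.map_mono (H10.upperPSeries_mono hij)
    · by_cases hi : i ≤ 2 * a
      · simp only [hi, hj, if_true, if_false]
        exact (hAle i).trans (hBge _)
      · simp only [hi, hj, if_false]
        exact Subgroup.comap_mono (H10.upperPSeries_mono (by omega))
  · intro i
    by_cases hi : i ≤ 2 * a
    · simp only [hi, if_true]; exact hAn i
    · simp only [hi, if_false]; exact (upperPSeries p (G ⧸ N) (i - 2 * a)).2.comap _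
  · intro i hi he
    by_cases h1 : i + 1 ≤ 2 * a
    · simp only [h1, show i ≤ 2 * a by omega, if_true, hAr]
      exact SA.even_factor i (by omega) he
    · by_cases h2 : i ≤ 2 * a
      · obtain rfl : i = 2 * a := by omega
        simp only [le_refl, if_true, h1, if_false, show 2 * a + 1 - 2 * a = 1 by omega]
        have h3 := Subgroup.relIndex_mul_relIndex (A (2 * a)) N (B 1) (hAle _) (hBge 1)
        rw [← h3]
        refine Nat.Coprime.mul_left ?_ ?_
        · have h4 := SA.even_factor (2 * a) (by omega) (even_two_mul a)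
          rw [← hAr, hAtop] at h4
          exact h4
        · have h4 := SB.even_factor 0 (by omega) Even.zero
          rw [← hBr, hBzero] at h4
          exact h4
      · simp only [h1, h2, if_false, show i + 1 - 2 * a = (i - 2 * a) + 1 by omega, hBr]
        exact SB.even_factor _ (by omega) (by
          rw [Nat.even_sub (by omega)]; simp [he])
  · intro i hi he
    by_cases h1 : i + 1 ≤ 2 * a
    · simp only [h1, show i ≤ 2 * a by omega, if_true, hAr]
      exact SA.odd_factor i (by omega) he
    · by_cases h2 : i ≤ 2 * a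
      · exact absurd ((show i = 2 * a by omega) ▸ even_two_mul a) he
      · simp only [h1, h2, if_false, show i + 1 - 2 * a = (i - 2 * a) + 1 by omega, hBr]
        exact SB.odd_factor _ (by omega) (by
          rw [Nat.even_sub (by omega)]; simp [he])
  · have hidx : ¬ (2 * (a + b) + 1 ≤ 2 * a) := by omega
    simp only [hidx, if_false, show 2 * (a + b) + 1 - 2 * a = 2 * b + 1 by omega, hB]
    rw [show (upperPSeries p (G ⧸ N) (2 * b + 1)).1 = ⊤ from hb, Subgroup.comap_top]

/-- If `O_{p'} = 1`, the quotient by `O_p` has smaller `p`-length. -/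
theorem pLengthLE_quotient_pCore [Finite G] [Fact p.Prime] [(pCore p G).Normal] {k : ℕ}
    (h : pPrimeCore p G = ⊥) (hG : PLengthLE p (k + 1) G) :
    PLengthLE p k (G ⧸ pCore p G) := by
  have h1 : (upperPSeries p G 1).1 = ⊥ := by
    have hs := upperPSeries_isAlt (G := G) (p := p) 1
    have hc := hs.even_factor 0 (by omega) Even.zero
    rw [hs.zero, Subgroup.relIndex_bot_left] at hc
    exact le_bot_iff.mp ((H10.le_pPrimeCore (upperPSeries p G (0 + 1)).2 hc).trans h.le)
  have h2 : (upperPSeries p G 2).1 ≤ pCore p G := by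
    have hs := upperPSeries_isAlt (G := G) (p := p) 2
    obtain ⟨m, hm⟩ := hs.odd_factor 1 (by omega) (by simp)
    rw [show ((upperPSeries p G 1).1) = ⊥ from h1, Subgroup.relIndex_bot_left] at hm
    exact H10.le_pCore (upperPSeries p G (1 + 1)).2 (IsPGroup.of_card hm)
  have hs := altSeries_map (upperPSeries_isAlt (G := G) (p := p) (2 * (k + 1) + 1))
    (QuotientGroup.mk' (pCore p G)) (QuotientGroup.mk'_surjective _)
  refine pLengthLE_of_series
    (K := fun i => (upperPSeries p G (i + 2)).1.map (QuotientGroup.mk' (pCore p G)))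
    ⟨?_, fun i j hij => hs.mono (by omega), fun i => hs.normal _, fun i hi he => ?_,
      fun i hi he => ?_⟩ ?_
  · exact (Subgroup.map_eq_bot_iff _).mpr (h2.trans (QuotientGroup.ker_mk' _).ge)
  · exact hs.even_factor (i + 2) (by omega) (he.add even_two)
  · exact hs.odd_factor (i + 2) (by omega) (fun hc => he (by
      simpa [Nat.even_add] using hc))
  · show (upperPSeries p G (2 * k + 1 + 2)).1.map _ = ⊤
    rw [show 2 * k + 1 + 2 = 2 * (k + 1) + 1 by ring, hG,
      Subgroup.map_top_of_surjective _ (QuotientGroup.mk'_surjective _)]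

end H32.PSeries
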