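import Cfsg.Agent.H11.HallHigmanCore
import Cfsg.Agent.H11.HallHigmanInvariant
import Cfsg.Agent.H10.PSolvableDual
import Cfsg.Agent.H10.PStability
import Cfsg.Agent.H10.StableNormal
import Cfsg.Agent.H10.QuadGroup
import Cfsg.Agent.H1.Cores

/-!
Hall–Higman Theorem B applied to the Frattini section of `O_p(G)`: outside the exceptional case a
`p`-element of order `p ^ n` modulo `O_p(G)` has a free orbit sum on that section.
-/

set_option autoImplicit false
set_option linter.style.haveILetI false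

namespace H32.HHS

open Cfsg

variable {p : ℕ} [Fact p.Prime]

/-- If `p ^ n - 1` is a power of two for an odd prime `p`, then `p = 2 ^ k + 1`. -/
theorem exists_fermat (hp : p ≠ 2) {n m : ℕ} (hn : 1 ≤ n) (h : p ^ n - 1 = 2 ^ m) :
    ∃ k : ℕ, p = 2 ^ k + 1 := by
  have hp3 : 3 ≤ p := by
    have := (Fact.out : p.Prime).two_le
    omega
  have hd : p - 1 ∣ 2 ^ m := by
    rw [← h]
    simpa using Nat.sub_dvd_pow_sub_pow p 1 n
  obtain ⟨k, -, hk⟩ := (Nat.dvd_prime_pow Nat.prime_two).mp hd
  exact ⟨k, by omega⟩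

/-- Theorem B of Hall–Higman for a faithful representation of a `p`-soluble group with `O_p = 1`,
outside the exceptional case. -/
theorem sub_one_pow_ne_zero {K : Type*} [Field K] [CharP K p] [IsAlgClosed K] {d : ℕ}
    {H : Type*} [Group H] [Finite H] (hp : p ≠ 2) (hsol : IsPSolvable p H)
    (hO : pCore p H = ⊥)
    (hnf : (¬ ∃ k : ℕ, p = 2 ^ k + 1) ∨ ∀ S : Sylow 2 H, IsMulCommutative (S : Subgroup H))
    (ρ : H →* Module.End K (Fin d → K)) (hρ : Function.Injective ρ) (x : H) (n : ℕ) (hn : 1 ≤ n)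
    (hx : x ^ p ^ n = 1) (hx1 : x ^ p ^ (n - 1) ≠ 1) :
    (ρ x - 1) ^ (p ^ n - 1) ≠ 0 := by
  have hco := H10.pPrimeCore_coprime (G := H) (p := p)
  set R := pPrimeCore p H with hR
  set b := x ^ p ^ (n - 1) with hb
  haveI hRn : R.Normal := H1.pPrimeCore_normal' p H
  have hnb : b ∉ Subgroup.centralizer (R : Set H) := by
    intro h
    have hbR := H10.centralizer_pPrimeCore_le hsol hO h
    have hbp : b ^ p = 1 := by
      rw [hb, ← pow_mul, ← pow_succ, Nat.sub_add_cancel hn, hx]
    have h1 : (⟨b, hbR⟩ : R) = 1 := by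
      rw [← orderOf_eq_one_iff]
      exact Nat.eq_one_of_dvd_coprimes hco (orderOf_dvd_natCard _)
        (orderOf_dvd_of_pow_eq_one (Subtype.ext hbp))
    exact hx1 (congrArg Subtype.val h1)
  obtain ⟨q, hq, hqp, Q, -, hQq, hxQ, hbQ⟩ := H11.exists_invariant_qgroup_of R hco hx
    (by rw [Subgroup.normalizer_eq_top]; trivial) hnb
  haveI := Fact.mk hq
  have hd : H11.HB.Data p q n ρ Q x := by
    refine ⟨hQq, fun g hg => (Subgroup.mem_normalizer_iff.mp hxQ g).mp hg, hn, hx, ?_⟩
    by_contra hcon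
    push Not at hcon
    apply hbQ
    rw [Subgroup.mem_centralizer_iff]
    intro g hg
    exact (hρ (hcon g hg)).symm
  rcases H11.HB.hall_higman_b p q hq hqp _ (Fin d → K) H ρ Q x n (Nat.lt_succ_self _) hd with
    h | ⟨n₀, m, h1, -, h3, h4, ⟨g, hg, g', hg', hne⟩, -⟩
  · exact h
  · exfalso
    have hq2 : q = 2 := by
      by_contra hq2
      have e1 : Odd (q ^ m) := (hq.odd_of_ne_two hq2).pow
      rw [← h4] at e1
      have e2 : Odd (p ^ n₀) := ((Fact.out : p.Prime).odd_of_ne_two hp).pow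
      obtain ⟨a, ha⟩ := e1
      obtain ⟨c, hc⟩ := e2
      omega
    subst hq2
    rcases hnf with hnf | hab
    · exact hnf (exists_fermat hp h1 h4)
    · obtain ⟨S, hS⟩ := hQq.exists_le_sylow
      haveI := hab S
      exact hne (congrArg ρ (congrArg Subtype.val
        ((inferInstance : IsMulCommutative (S : Subgroup H)).is_comm.comm ⟨g, hS hg⟩ ⟨g', hS hg'⟩)))

/-- The representation on an elementary abelian normal subgroup, with its orbit sums. -/
theorem exists_rep_sum {G : Type*} [Group G] [Finite G] (V : Subgroup G) [V.Normal]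
    (hV : IsElementaryAbelian p V) :
    ∃ (n : ℕ) (ρ : (G ⧸ Subgroup.centralizer (V : Set G)) →*
        Module.End (AlgebraicClosure (ZMod p)) (Fin n → AlgebraicClosure (ZMod p))),
      Function.Injective ρ ∧ ∀ (a : G) (k : ℕ),
        (∑ i ∈ Finset.range k, ρ (a : G ⧸ Subgroup.centralizer (V : Set G)) ^ i) ≠ 0 →
          ∃ v ∈ V, (v * a) ^ k ≠ a ^ k := by
  letI : CommGroup V := { (inferInstance : Group V) with mul_comm := hV.1.is_comm.comm }
  haveI : Module (ZMod p) (Additive V) :=
    AddCommGroup.zmodModule (fun x => by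
      apply Additive.toMul.injective
      exact Subtype.ext (by simpa using hV.2 _ (Additive.toMul x).2))
  let f : G → Additive V →+ Additive V := fun g =>
    MonoidHom.toAdditive (MulAut.conjNormal g : MulAut V).toMonoidHom
  have hf : ∀ (g : G) (x : Additive V), ((Additive.toMul (f g x) : V) : G) =
      g * (Additive.toMul x : V) * g⁻¹ := fun g x => rfl
  let lin : G →* Module.End (ZMod p) (Additive V) :=
    { toFun := fun g => (f g).toZModLinearMap p
      map_one' := LinearMap.ext fun x => Additive.toMul.injective (Subtype.ext (by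
        show ((Additive.toMul (f 1 x) : V) : G) = _
        rw [hf]; simp))
      map_mul' := fun g h => LinearMap.ext fun x => Additive.toMul.injective (Subtype.ext (by
        show ((Additive.toMul (f (g * h) x) : V) : G) = ((Additive.toMul (f g (f h x)) : V) : G)
        rw [hf, hf, hf]; group)) }
  obtain ⟨n, e, he⟩ := H10.exists_end_embedding (p := p) (Additive V)
  have hker : ∀ g, lin g = 1 ↔ g ∈ Subgroup.centralizer (V : Set G) := by
    intro g
    rw [Subgroup.mem_centralizer_iff]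
    refine ⟨fun h v hv => ?_, fun h => LinearMap.ext fun x => Additive.toMul.injective (Subtype.ext ?_)⟩
    · have h1 := congrArg (fun L : Module.End (ZMod p) (Additive V) =>
        ((Additive.toMul (L (Additive.ofMul ⟨v, hv⟩)) : V) : G)) h
      have h2 : g * v * g⁻¹ = v := h1
      exact (mul_inv_eq_iff_eq_mul.mp h2).symm
    · show g * _ * g⁻¹ = _
      rw [← h _ (Additive.toMul x).2, mul_inv_cancel_right]
      rfl
  refine ⟨n, ((e : _ →* _).comp (QuotientGroup.lift _ lin fun g hg =>
    MonoidHom.mem_ker.mpr ((hker g).mpr hg))), ?_, ?_⟩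
  · refine he.comp ?_
    rw [← MonoidHom.ker_eq_bot_iff, eq_bot_iff]
    intro x hx
    obtain ⟨g, rfl⟩ := QuotientGroup.mk'_surjective _ x
    exact Subgroup.mem_bot.mpr ((QuotientGroup.eq_one_iff g).mpr ((hker g).mp hx))
  · intro a k h
    change (∑ i ∈ Finset.range k, e (lin a) ^ i) ≠ 0 at h
    rw [← Finset.sum_congr rfl (fun i _ => map_pow e (lin a) i), ← map_sum] at h
    by_contra hcon
    push Not at hcon
    apply h
    convert map_zero e
    refine LinearMap.ext fun x => ?_
    have key : ∀ j : ℕ, ((Additive.toMul x : V) * a) ^ j =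
        ((Additive.toMul ((∑ i ∈ Finset.range j, lin a ^ i) x) : V) : G) * a ^ j := by
      intro j
      induction j with
      | zero => simp
      | succ j ih =>
        rw [pow_succ, ih, Finset.sum_range_succ, LinearMap.add_apply, toMul_add, Subgroup.coe_mul,
          ← map_pow lin]
        show _ = ((Additive.toMul ((∑ i ∈ Finset.range j, lin a ^ i) x) : V) : G) *
          ((Additive.toMul (f (a ^ j) x) : V) : G) * a ^ (j + 1)
        rw [hf, pow_succ]
        group
    have h1 := key k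
    rw [hcon _ (Additive.toMul x).2] at h1
    apply Additive.toMul.injective
    apply Subtype.ext
    exact mul_eq_right.mp h1.symm

section Frattini

variable {G : Type*} [Group G] [Finite G]
variable [((frattini ↥(pCore p G)).map (pCore p G).subtype).Normal]

/-- The main consequence of Theorem B on the Frattini section of `O_p(G)`. -/
theorem exists_pow_ne (hp : p ≠ 2) (hs : IsPSolvable p G) (hO : pPrimeCore p G = ⊥)
    (hnf : (¬ ∃ k : ℕ, p = 2 ^ k + 1) ∨ ∀ S : Sylow 2 G, IsMulCommutative (S : Subgroup G))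
    (x : G) (n : ℕ) (hn : 1 ≤ n) (hx : x ^ p ^ n ∈ pCore p G)
    (hx1 : x ^ p ^ (n - 1) ∉ pCore p G) :
    ∃ v ∈ (pCore p G).map (QuotientGroup.mk' ((frattini ↥(pCore p G)).map (pCore p G).subtype)),
      (v * QuotientGroup.mk' ((frattini ↥(pCore p G)).map (pCore p G).subtype) x) ^ p ^ n ≠
        QuotientGroup.mk' ((frattini ↥(pCore p G)).map (pCore p G).subtype) x ^ p ^ n := by
  classical
  have hcU := H10.centralizer_pCore_le hs hO
  set U := pCore p G with hU
  set Φ := (frattini U).map U.subtype with hΦ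
  set π := QuotientGroup.mk' Φ
  set V := U.map π with hV
  haveI : V.Normal := (inferInstance : U.Normal).map π (QuotientGroup.mk'_surjective _)
  have hVe : IsElementaryAbelian p V := H10.elementaryAbelian_pCore_section
  obtain ⟨d, ρ, hinj, hsum⟩ := exists_rep_sum V hVe
  set C := Subgroup.centralizer (V : Set (G ⧸ Φ))
  set θ : G →* (G ⧸ Φ) ⧸ C := (QuotientGroup.mk' C).comp π with hθdef
  have hθ : Function.Surjective θ :=
    (QuotientGroup.mk'_surjective C).comp (QuotientGroup.mk'_surjective _)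
  have hkerp : IsPGroup p θ.ker := by
    have : θ.ker = sectionKernel U Φ := by
      rw [hθdef, ← MonoidHom.comap_ker, QuotientGroup.ker_mk']; rfl
    rw [this]
    exact H10.isPGroup_sectionKernel_frattini hcU
  have hkerU : θ.ker ≤ U := H10.le_pCore inferInstance hkerp
  have hUker : U ≤ θ.ker := by
    intro y hy
    rw [MonoidHom.mem_ker]
    refine (QuotientGroup.eq_one_iff _).mpr ?_
    rw [Subgroup.mem_centralizer_iff]
    intro v hv
    exact congrArg Subtype.val (hVe.1.is_comm.comm ⟨v, hv⟩ ⟨π y, Subgroup.mem_map_of_mem π hy⟩)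
  have hOH : pCore p ((G ⧸ Φ) ⧸ C) = ⊥ := by
    set Y := (pCore p ((G ⧸ Φ) ⧸ C)).comap θ
    haveI : Y.Normal := Subgroup.Normal.comap inferInstance θ
    have hYp : IsPGroup p Y := H10.pCore_isPGroup.comap_of_ker_isPGroup θ hkerp
    rw [eq_bot_iff]
    intro h hh
    obtain ⟨y, rfl⟩ := hθ h
    exact Subgroup.mem_bot.mpr (MonoidHom.mem_ker.mp (hUker (H10.le_pCore inferInstance hYp hh)))
  have hsH : IsPSolvable p ((G ⧸ Φ) ⧸ C) := H10.isPSolvable_of_surjective hs θ hθ
  have hnfH : (¬ ∃ k : ℕ, p = 2 ^ k + 1) ∨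
      ∀ S : Sylow 2 ((G ⧸ Φ) ⧸ C), IsMulCommutative (S : Subgroup ((G ⧸ Φ) ⧸ C)) := by
    refine hnf.imp id fun h S => ?_
    obtain ⟨S₀⟩ : Nonempty (Sylow 2 G) := inferInstance
    obtain ⟨c, hc⟩ := MulAction.exists_smul_eq ((G ⧸ Φ) ⧸ C) (S₀.mapSurjective hθ) S
    refine ⟨⟨fun a b => Subtype.ext ?_⟩⟩
    obtain ⟨a, ha⟩ := a
    obtain ⟨b, hb⟩ := b
    rw [← hc] at ha hb
    obtain ⟨a', ⟨a₀, ha₀, rfl⟩, rfl⟩ := ha
    obtain ⟨b', ⟨b₀, hb₀, rfl⟩, rfl⟩ := hb
    have hcm : a₀ * b₀ = b₀ * a₀ := congrArg Subtype.val ((h S₀).is_comm.comm ⟨a₀, ha₀⟩ ⟨b₀, hb₀⟩)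
    exact ((Commute.map hcm θ).map (MulDistribMulAction.toMonoidEnd _ _ (MulAut.conj c))).eq
  have h1 : θ x ^ p ^ n = 1 := by
    rw [← map_pow]; exact MonoidHom.mem_ker.mp (hUker hx)
  have h2 : θ x ^ p ^ (n - 1) ≠ 1 := fun h => by
    rw [← map_pow] at h; exact hx1 (hkerU (MonoidHom.mem_ker.mpr h))
  have h3 := sub_one_pow_ne_zero hp hsH hOH hnfH ρ hinj (θ x) n hn h1 h2
  rw [← H11.HB.geom_sum_eq_sub_one_pow (K := AlgebraicClosure (ZMod p))] at h3
  exact hsum (π x) _ h3

end Frattini

end H32.HHS
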