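import Cfsg.Agent.S0143
import Cfsg.Agent.H32.Sylow
import Mathlib.GroupTheory.Solvable
import Mathlib.GroupTheory.Nilpotent
import Mathlib.GroupTheory.SpecificGroups.Cyclic

/-! A finite group with an abelian subgroup of prime-power index is not a non-abelian simple group. -/

set_option autoImplicit false

namespace H32

universe u

theorem isSolvable_of_abelian_two_power_index (n : ℕ) : ∀ (G : Type u) [Group G] [Finite G],
    Nat.card G ≤ n → ∀ A : Subgroup G, IsMulCommutative A → ∀ k : ℕ, A.index = 2 ^ k →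
    Group.IsSolvable G := by
  induction n with
  | zero => intro G _ _ h; exact absurd h (by have := Nat.card_pos (α := G); omega)
  | succ n ih =>
    intro G _ _ hcard A hA k hk
    haveI : Fact (Nat.Prime 2) := ⟨Nat.prime_two⟩
    rcases subsingleton_or_nontrivial G with h | h
    · infer_instance
    by_cases hs : IsSimpleGroup G
    · haveI := hs
      by_cases hb : A = ⊥
      · rw [hb, Subgroup.index_bot] at hk
        haveI := (IsPGroup.of_card (G := G) (n := k) hk).isNilpotent
        infer_instance
      obtain ⟨a, haA, ha⟩ := A.bot_or_exists_ne_one.resolve_left hb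
      have hle : A ≤ Subgroup.centralizer ({a} : Set G) := fun y hy => by
        rw [Subgroup.mem_centralizer_singleton_iff]
        exact congrArg Subtype.val (hA.is_comm.comm (⟨y, hy⟩ : A) ⟨a, haA⟩)
      obtain ⟨j, -, hj⟩ := (Nat.dvd_prime_pow Nat.prime_two).mp (hk ▸ Subgroup.index_dvd_of_le hle)
      have hp := Cfsg.Agent.S0143.result 2 j Nat.prime_two a ha hj
      haveI := Fact.mk hp
      haveI : IsCyclic G := isCyclic_of_prime_card rfl
      exact Group.isSolvable_of_comm fun x y => IsMulCommutative.is_comm.comm x y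
    obtain ⟨N, hN, hNb, hNt⟩ : ∃ N : Subgroup G, N.Normal ∧ N ≠ ⊥ ∧ N ≠ ⊤ := by
      by_contra h'
      push Not at h'
      exact hs ⟨fun N hN => or_iff_not_imp_left.mpr (h' N hN)⟩
    rw [Group.isSolvable_iff_subgroup_quotient N]
    have hNlt : Nat.card N < Nat.card G := lt_of_le_of_ne (Subgroup.card_le_card_group N)
      (fun h => hNt (Subgroup.eq_top_of_card_eq N h))
    constructor
    · obtain ⟨j, -, hj⟩ := (Nat.dvd_prime_pow Nat.prime_two).mp (show (A.subgroupOf N).index ∣ 2 ^ k by
        show A.relIndex N ∣ _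
        rw [relIndex_normal_eq, ← hk]
        exact ⟨_, (Subgroup.relIndex_mul_index (le_sup_left : A ≤ A ⊔ N)).symm⟩)
      refine ih N (by omega) (A.subgroupOf N) ⟨⟨fun x y => ?_⟩⟩ j hj
      have h' := congrArg Subtype.val
        (hA.is_comm.comm (⟨((x : N) : G), x.2⟩ : A) ⟨((y : N) : G), y.2⟩)
      exact Subtype.ext (Subtype.ext h')
    · obtain ⟨j, -, hj⟩ := (Nat.dvd_prime_pow Nat.prime_two).mp
        (hk ▸ Subgroup.index_map_dvd A (QuotientGroup.mk'_surjective N))
      refine ih (G ⧸ N) ?_ (A.map (QuotientGroup.mk' N)) ⟨⟨?_⟩⟩ j hj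
      · have h1 := N.card_mul_index
        have h2 : 1 < Nat.card N := N.one_lt_card_iff_ne_bot.mpr hNb
        have h3 : 0 < N.index := Nat.pos_of_ne_zero Subgroup.index_ne_zero_of_finite
        rw [← Subgroup.index_eq_card N]
        nlinarith
      · rintro ⟨_, x, hx, rfl⟩ ⟨_, y, hy, rfl⟩
        refine Subtype.ext ?_
        show QuotientGroup.mk' N x * QuotientGroup.mk' N y = QuotientGroup.mk' N y * QuotientGroup.mk' N x
        rw [← map_mul, ← map_mul]
        exact congrArg _ (congrArg Subtype.val (hA.is_comm.comm (⟨x, hx⟩ : A) ⟨y, hy⟩))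

end H32
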