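import Cfsg.Prelude.Def_LocalStructure
import Mathlib.GroupTheory.SpecificGroups.Alternating.Simple
import Mathlib.GroupTheory.Nilpotent

/-! The alternating groups are not `p`-closed. -/

set_option autoImplicit false

namespace H32

theorem pClosed_of_mulEquiv {A B : Type*} [Group A] [Group B] [Finite A] {p : ℕ} [Fact p.Prime]
    (e : A ≃* B) (h : Cfsg.IsPClosed p B) : Cfsg.IsPClosed p A := by
  intro P
  haveI : Finite B := Finite.of_equiv A e.toEquiv
  have hidx : ¬ p ∣ ((P : Subgroup A).map e.toMonoidHom).index := by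
    rw [Subgroup.index_map_of_bijective e.bijective]
    exact P.not_dvd_index
  have h1 := h ((P.isPGroup'.map e.toMonoidHom).toSylow hidx)
  have h2 : (((P : Subgroup A).map e.toMonoidHom).comap e.toMonoidHom).Normal := h1.comap e.toMonoidHom
  rwa [Subgroup.comap_map_eq_self_of_injective e.injective] at h2

theorem alternating_not_pClosed (m p : ℕ) [Fact p.Prime] (hm : 4 ≤ m) (hp : 3 ≤ p) (hpm : p ≤ m) :
    ¬ Cfsg.IsPClosed p (alternatingGroup (Fin m)) := by
  intro hc
  have hp' : p.Prime := Fact.out
  obtain ⟨P⟩ : Nonempty (Sylow p (alternatingGroup (Fin m))) := inferInstance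
  haveI := hc P
  have hdvd : p ∣ Nat.card (alternatingGroup (Fin m)) := by
    haveI : Nontrivial (Fin m) := Fin.nontrivial_iff_two_le.mpr (by omega)
    have h : p ∣ 2 * Nat.card (alternatingGroup (Fin m)) := by
      rw [two_mul_nat_card_alternatingGroup, Nat.card_perm, Nat.card_fin]
      exact Nat.dvd_factorial hp'.pos hpm
    rcases (Nat.Prime.dvd_mul hp').mp h with h | h
    · exact absurd (Nat.le_of_dvd (by norm_num) h) (by omega)
    · exact h
  have hP : (P : Subgroup (alternatingGroup (Fin m))) ≠ ⊥ := P.ne_bot_of_dvd_card hdvd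
  obtain rfl | h5 := eq_or_lt_of_le hm
  · have hp3 : p = 3 := by
      interval_cases p
      · rfl
      · exact absurd hp' (by decide)
    subst hp3
    let a : alternatingGroup (Fin 4) := ⟨Equiv.swap 0 1 * Equiv.swap 0 2, by rw [Equiv.Perm.mem_alternatingGroup]; decide⟩
    let b : alternatingGroup (Fin 4) := ⟨Equiv.swap 0 1 * Equiv.swap 0 3, by rw [Equiv.Perm.mem_alternatingGroup]; decide⟩
    have hmem : ∀ x : alternatingGroup (Fin 4), x ^ 3 = 1 → x ∈ (P : Subgroup (alternatingGroup (Fin 4))) := by
      intro x hx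
      have hxp : IsPGroup 3 (Subgroup.zpowers x) := by
        rintro ⟨_, k, rfl⟩
        refine ⟨1, Subtype.ext ?_⟩
        show (x ^ k) ^ 3 ^ 1 = 1
        rw [pow_one, ← zpow_natCast, ← zpow_mul, mul_comm, zpow_mul, zpow_natCast, hx, one_zpow]
      exact (P.is_maximal' (hxp.to_sup_of_normal_right P.isPGroup') le_sup_right).le
        (Subgroup.mem_sup_left (Subgroup.mem_zpowers x))
    have ha : a ^ 3 = 1 := by decide
    have hb : b ^ 3 = 1 := by decide
    obtain ⟨k, hk⟩ := P.isPGroup' ⟨a * b, Subgroup.mul_mem _ (hmem a ha) (hmem b hb)⟩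
    have h1 : (a * b) ^ 3 ^ k = 1 := congrArg Subtype.val hk
    have h2 : (a * b) ^ 2 = 1 := by decide
    have h3 : a * b = 1 := by
      have hco : Nat.Coprime (3 ^ k) 2 := Nat.Coprime.pow_left _ (by decide)
      have := pow_gcd_eq_one.mpr ⟨h1, h2⟩
      rwa [Nat.Coprime.gcd_eq_one hco, pow_one] at this
    exact absurd h3 (by decide)
  · haveI : IsSimpleGroup (alternatingGroup (Fin m)) := alternatingGroup.isSimpleGroup (by simp; omega)
    rcases IsSimpleGroup.eq_bot_or_eq_top_of_normal _ (hc P) with h | h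
    · exact hP h
    · have hpg : IsPGroup p (alternatingGroup (Fin m)) := (h ▸ P.isPGroup').of_equiv Subgroup.topEquiv
      haveI : Nontrivial (alternatingGroup (Fin m)) := alternatingGroup.nontrivial_of_three_le_card (by simp; omega)
      haveI := hpg.center_nontrivial
      exact (Subgroup.nontrivial_iff_ne_bot (Subgroup.center (alternatingGroup (Fin m)))).mp inferInstance
        (alternatingGroup.center_eq_bot (by rw [Nat.card_fin]; exact hm))

end H32
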