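import Cfsg.Agent.H35.ConjPSubgroups
import Cfsg.Agent.H1.Cores
import Cfsg.Agent.S0201
import Cfsg.Agent.S0205

/-!
Excluding the non-abelian Sylow group of exponent `p` when equal order `p`-subgroups and equal order
`2`-subgroups are conjugate.
-/

set_option autoImplicit false

namespace H32.ConjExtraspecial

open Subgroup

/-- In a non-abelian group of order `p ^ 3` commutators are central and the centre has order `p`. -/
theorem cube_structure {p : ℕ} [hp : Fact p.Prime] {R : Type*} [Group R] [Finite R]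
    (hc : Nat.card R = p ^ 3) (hna : ¬ IsMulCommutative R) :
    Nat.card (center R) = p ∧ ∀ a b : R, a * b * a⁻¹ * b⁻¹ ∈ center R := by
  have hR : IsPGroup p R := IsPGroup.of_card hc
  haveI : Nontrivial R := Finite.one_lt_card_iff_nontrivial.1 (hc ▸ Nat.one_lt_pow (by norm_num) hp.out.one_lt)
  haveI := hR.center_nontrivial
  obtain ⟨k, hk, hkc⟩ := (Nat.dvd_prime_pow hp.out).1 (hc ▸ card_subgroup_dvd_card (center R))
  have hk0 : k ≠ 0 := fun h0 => by
    rw [h0, pow_zero] at hkc
    exact absurd hkc (Finite.one_lt_card_iff_nontrivial.2 (inferInstance : Nontrivial (center R))).ne'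
  have hq : Nat.card (R ⧸ center R) = p ^ (3 - k) := by
    refine Nat.eq_of_mul_eq_mul_right (Nat.card_pos (α := center R)) ?_
    rw [← Subgroup.card_eq_card_quotient_mul_card_subgroup, hc, hkc, ← pow_add]
    congr 1
    omega
  have hncyc : ¬ IsCyclic (R ⧸ center R) := fun h => hna ⟨⟨fun a b => by
    exact commutative_of_cyclic_center_quotient (QuotientGroup.mk' (center R))
      (by rw [QuotientGroup.ker_mk']) a b⟩⟩
  have hk1 : k = 1 := by
    by_contra hne
    refine hncyc ?_
    rcases (show k = 2 ∨ k = 3 by omega) with rfl | rfl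
    · exact isCyclic_of_prime_card (p := p) (by simpa using hq)
    · haveI : Subsingleton (R ⧸ center R) := (Nat.card_eq_one_iff_unique.1 (by simpa using hq)).1
      infer_instance
  subst hk1
  refine ⟨by simpa using hkc, fun a b => ?_⟩
  rw [← QuotientGroup.eq_one_iff]
  have hcomm : ∀ u v : R ⧸ center R, u * v = v * u := by
    intro u v
    exact (IsPGroup.isMulCommutative_of_card_eq_prime_sq (p := p) (by simpa using hq)).is_comm.comm u v
  simp only [QuotientGroup.mk_mul, QuotientGroup.mk_inv]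
  rw [hcomm (a : R ⧸ center R) b]
  group

/-- A solvable normal subgroup cannot contain `P` and all elements of order `p` be conjugate up to
powers, unless `P` is abelian. -/
theorem commutative_of_le_solvable {G : Type*} [Group G] [Finite G] {p : ℕ} [Fact p.Prime]
    (hc : ∀ u v : G, orderOf u = p → orderOf v = p → ∃ g : G, g * u * g⁻¹ ∈ zpowers v ∧ zpowers v ≤ (zpowers u).map (MulAut.conj g).toMonoidHom)
    (P : Subgroup G) (hexp : ∀ x ∈ P, x ^ p = 1) :
    ∀ M : Subgroup G, M.Normal → Group.IsSolvable ↥M → P ≤ M → IsMulCommutative P := by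
  intro M
  induction hn : Nat.card M using Nat.strong_induction_on generalizing M with
  | _ n ih =>
  subst hn
  intro hM hs hPM
  haveI := hM
  haveI := hs
  haveI hDn : (⁅M, M⁆ : Subgroup G).Normal := commutator_normal M M
  by_cases hM1 : M = ⊥
  · subst hM1
    exact ⟨⟨fun a b => Subtype.ext (by
      show (a : G) * b = b * a
      rw [show (a : G) = 1 from mem_bot.1 (hPM a.2), show (b : G) = 1 from mem_bot.1 (hPM b.2)])⟩⟩
  haveI : Nontrivial M := (Subgroup.nontrivial_iff_ne_bot _).2 hM1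
  have hlt : ⁅M, M⁆ < M := by
    refine lt_of_le_of_ne (Subgroup.commutator_le_self _) fun h' => ?_
    have h2 : commutator ↥M = ⊤ := by
      apply Subgroup.map_injective M.subtype_injective
      rw [Subgroup.map_subtype_commutator, h', ← MonoidHom.range_eq_map, Subgroup.range_subtype]
    exact (IsSolvable.commutator_lt_top_of_nontrivial ↥M).ne h2
  by_cases hx : ∀ x ∈ P, x ∈ ⁅M, M⁆ → x = 1
  · refine ⟨⟨fun a b => Subtype.ext ?_⟩⟩
    have h1 := hx _ (P.mul_mem (P.mul_mem (P.mul_mem a.2 b.2) (P.inv_mem a.2)) (P.inv_mem b.2))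
      (commutator_mem_commutator (hPM a.2) (hPM b.2))
    calc (a : G) * b = (a * b * (a : G)⁻¹ * (b : G)⁻¹) * (b * a) := by group
      _ = b * a := by rw [h1, one_mul]
  push Not at hx
  obtain ⟨u, huP, huD, hu1⟩ := hx
  refine ih (Nat.card ↥⁅M, M⁆) ?_ _ rfl hDn ?_ (fun v hv => ?_)
  · refine lt_of_le_of_ne (Subgroup.card_le_of_le hlt.le) fun h => hlt.ne ?_
    exact Subgroup.eq_of_le_of_card_ge hlt.le h.ge
  · exact solvable_of_solvable_injective (Subgroup.inclusion_injective hlt.le)
  · by_cases hv1 : v = 1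
    · rw [hv1]; exact one_mem _
    obtain ⟨g, -, hg⟩ := hc u v (orderOf_eq_prime (hexp u huP) hu1) (orderOf_eq_prime (hexp v hv) hv1)
    obtain ⟨w, hw, rfl⟩ := hg (mem_zpowers v)
    exact hDn.conj_mem w (zpowers_le.2 huD hw) g

theorem false_of_nonabelian {G : Type*} [Group G] [Finite G] {p : ℕ} [hp : Fact p.Prime] (hp2 : p ≠ 2)
    (hC : ∀ H K : Subgroup G, IsPGroup p H → IsPGroup p K → Nat.card H = Nat.card K →
      ∃ g : G, K = H.map (MulAut.conj g).toMonoidHom)
    (hC2 : ∀ H K : Subgroup G, IsPGroup 2 H → IsPGroup 2 K → Nat.card H = Nat.card K →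
      ∃ g : G, K = H.map (MulAut.conj g).toMonoidHom)
    (P : Sylow p G) (hna : ¬ IsMulCommutative P) (hcard : Nat.card P = p ^ 3)
    (hexp : ∀ x ∈ (P : Subgroup G), x ^ p = 1) : False := by
  classical
  have hpodd : Odd p := hp.out.odd_of_ne_two hp2
  -- a commutator in the centre of `P`
  obtain ⟨-, hPc⟩ := cube_structure hcard hna
  obtain ⟨a, l, hal⟩ : ∃ a l : P, a * l ≠ l * a := by
    by_contra h
    push Not at h
    exact hna ⟨⟨h⟩⟩
  set zP : P := l⁻¹ * (a * l * a⁻¹) with hzP
  have hzc : zP ∈ center P := by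
    have := hPc l⁻¹ a
    rwa [inv_inv, show l⁻¹ * a * l * a⁻¹ = zP by rw [hzP]; group] at this
  have hz1P : zP ≠ 1 := fun h => hal (by
    calc a * l = l * (l⁻¹ * (a * l * a⁻¹)) * a := by group
      _ = l * zP * a := by rw [hzP]
      _ = l * a := by rw [h, mul_one])
  set z : G := (zP : G) with hzdef
  set L : G := (l : G) with hLdef
  have hzl : Commute z L := by
    show (zP : G) * (l : G) = (l : G) * (zP : G)
    exact_mod_cast (mem_center_iff.1 hzc l).symm
  have hza : (a : G) * z * (a : G)⁻¹ = z := by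
    have : (a : G) * (zP : G) = (zP : G) * (a : G) := by exact_mod_cast mem_center_iff.1 hzc a
    rw [hzdef, this]; group
  have hla : (a : G) * L * (a : G)⁻¹ = L * z := by
    show (a : G) * (l : G) * (a : G)⁻¹ = (l : G) * ((l : G)⁻¹ * ((a : G) * l * (a : G)⁻¹))
    group
  have hz1 : z ≠ 1 := fun h => hz1P (Subtype.ext h)
  have hl1 : L ≠ 1 := fun h => hal (by rw [show l = 1 from Subtype.ext h]; simp)
  have hzo : orderOf z = p := orderOf_eq_prime (hexp _ zP.2) hz1
  have hlo : orderOf L = p := orderOf_eq_prime (hexp _ l.2) hl1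
  have hLz : z ∉ zpowers L := by
    intro h
    obtain ⟨i, hi⟩ := mem_zpowers_iff.1 h
    have hdd : ¬ (p : ℤ) ∣ i := fun hd => hz1 (by
      rw [← hi]; exact orderOf_dvd_iff_zpow_eq_one.1 (hlo.symm ▸ hd))
    have : L ∈ zpowers z := by
      rw [← hi]
      have heq : zpowers (L ^ i) = zpowers L := by
        refine eq_of_le_of_card_ge (zpowers_le.2 (mem_zpowers_iff.2 ⟨i, rfl⟩)) ?_
        rw [Nat.card_zpowers, Nat.card_zpowers, hi, hzo, hlo]
      rw [heq]; exact mem_zpowers L
    obtain ⟨k, hk⟩ := mem_zpowers_iff.1 this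
    apply hal
    have hl' : l ∈ center P := by
      have : l = zP ^ k := Subtype.ext (by rw [Subgroup.coe_zpow]; exact hk.symm)
      rw [this]; exact zpow_mem hzc k
    exact mem_center_iff.1 hl' a
  -- a Sylow subgroup in the centraliser of `L`
  have hconj : ∀ u v : G, orderOf u = p → orderOf v = p → ∃ g : G, g * u * g⁻¹ ∈ zpowers v ∧
      zpowers v ≤ (zpowers u).map (MulAut.conj g).toMonoidHom := by
    intro u v hu hv
    obtain ⟨g, hg⟩ := hC (zpowers u) (zpowers v) (IsPGroup.of_card (n := 1) (by rw [Nat.card_zpowers, hu, pow_one]))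
      (IsPGroup.of_card (n := 1) (by rw [Nat.card_zpowers, hv, pow_one]))
      (by rw [Nat.card_zpowers, Nat.card_zpowers, hu, hv])
    exact ⟨g, hg ▸ ⟨u, mem_zpowers u, rfl⟩, hg.le⟩
  obtain ⟨g, -, hg⟩ := hconj z L hzo hlo
  have hg3 : (P : Subgroup G).map (MulAut.conj g).toMonoidHom ≤ centralizer ({L} : Set G) := by
    rintro _ ⟨x, hx, rfl⟩
    obtain ⟨u, hu, huL⟩ := hg (mem_zpowers L)
    obtain ⟨k, rfl⟩ := mem_zpowers_iff.1 hu
    rw [mem_centralizer_singleton_iff, ← huL, ← map_mul, ← map_mul]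
    have hcx : Commute x z := by
      show x * (zP : G) = (zP : G) * x
      exact congrArg Subtype.val (mem_center_iff.1 hzc ⟨x, hx⟩)
    rw [(hcx.zpow_right k).eq]
  set V : Subgroup G := zpowers z ⊔ zpowers L with hV
  have hVC : V ≤ centralizer ({L} : Set G) := by
    rw [hV, sup_le_iff, zpowers_le, zpowers_le, mem_centralizer_singleton_iff, mem_centralizer_singleton_iff]
    exact ⟨hzl.eq, rfl⟩
  have hVP : V ≤ (P : Subgroup G) := sup_le (zpowers_le.2 zP.2) (zpowers_le.2 l.2)
  obtain ⟨R, hR⟩ := ((P.isPGroup'.to_le hVP).of_injective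
    ((subgroupOfEquivOfLe hVC).toMonoidHom) (subgroupOfEquivOfLe hVC).injective).exists_le_sylow
  set R' : Subgroup G := (R : Subgroup (centralizer ({L} : Set G))).map (centralizer ({L} : Set G)).subtype
  have hR'card : Nat.card R' = p ^ 3 := by
    obtain ⟨T, hT⟩ := (R.isPGroup'.map (centralizer ({L} : Set G)).subtype).exists_le_sylow
    refine le_antisymm ((Subgroup.card_le_of_le hT).trans (by rw [T.card_eq_multiplicity, ← P.card_eq_multiplicity, hcard])) ?_
    rw [card_map_of_injective (centralizer ({L} : Set G)).subtype_injective, R.card_eq_multiplicity]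
    have hd : p ^ 3 ∣ Nat.card ↥(centralizer ({L} : Set G)) := by
      have := Subgroup.card_dvd_of_le hg3
      rwa [card_map_of_injective (MulAut.conj g).injective, hcard] at this
    exact Nat.pow_le_pow_right hp.out.pos ((hp.out.pow_dvd_iff_le_factorization Nat.card_pos.ne').1 hd)
  have hR'p : IsPGroup p R' := IsPGroup.of_card hR'card
  obtain ⟨T, hT⟩ := hR'p.exists_le_sylow
  have hTR : (T : Subgroup G) = R' := (eq_of_le_of_card_ge hT (by
    rw [T.card_eq_multiplicity, ← P.card_eq_multiplicity, hcard, hR'card])).symm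
  obtain ⟨f, hf⟩ := hC (P : Subgroup G) R' P.isPGroup' hR'p (by rw [hcard, hR'card])
  have hR'na : ¬ IsMulCommutative R' := by
    intro h
    apply hna
    refine ⟨⟨fun x y => Subtype.ext ((MulAut.conj f).injective ?_)⟩⟩
    have hx : MulAut.conj f (x : G) ∈ R' := hf ▸ ⟨x, x.2, rfl⟩
    have hy : MulAut.conj f (y : G) ∈ R' := hf ▸ ⟨y, y.2, rfl⟩
    simp only [Subgroup.coe_mul, map_mul]
    exact congrArg Subtype.val (h.is_comm.comm ⟨_, hx⟩ ⟨_, hy⟩)
  obtain ⟨hZc, hRc⟩ := cube_structure hR'card hR'na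
  have hmem : ∀ v ∈ V, v ∈ R' := fun v hv => ⟨⟨v, hVC hv⟩, hR (by simpa [Subgroup.mem_subgroupOf] using hv), rfl⟩
  set lR : R' := ⟨L, hmem L (mem_sup_right (mem_zpowers L))⟩
  set zR : R' := ⟨z, hmem z (mem_sup_left (mem_zpowers z))⟩
  have hlc : lR ∈ center R' := mem_center_iff.2 fun w => Subtype.ext (by
    obtain ⟨⟨w', hw'⟩, -, e⟩ := w.2
    show (w : G) * L = L * (w : G)
    rw [← e]; exact mem_centralizer_singleton_iff.1 hw')
  have hcz : zpowers lR = center R' := by
    refine eq_of_le_of_card_ge (zpowers_le.2 hlc) ?_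
    rw [hZc, Nat.card_zpowers, ← Subgroup.orderOf_coe]
    exact hlo.ge
  obtain ⟨r, hr⟩ : ∃ r : R', r * zR * r⁻¹ * zR⁻¹ ≠ 1 := by
    by_contra h
    push Not at h
    apply hLz
    have : zR ∈ zpowers lR := hcz ▸ mem_center_iff.2 fun r => by
      have h1 := h r
      rwa [mul_inv_eq_one, mul_inv_eq_iff_eq_mul] at h1
    obtain ⟨i, hi⟩ := mem_zpowers_iff.1 this
    exact mem_zpowers_iff.2 ⟨i, congrArg Subtype.val hi⟩
  obtain ⟨j, hj⟩ := mem_zpowers_iff.1 (hcz.symm ▸ hRc r zR : r * zR * r⁻¹ * zR⁻¹ ∈ zpowers lR)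
  have hjp : ((j : ℤ) : ZMod p) ≠ 0 := fun h => hr (by
    rw [← hj]
    refine orderOf_dvd_iff_zpow_eq_one.1 ?_
    rw [← Subgroup.orderOf_coe, show orderOf (lR : G) = p from hlo]
    exact (ZMod.intCast_zmod_eq_zero_iff_dvd j p).1 h)
  have hrz : (r : G) * z * (r : G)⁻¹ = z * L ^ j := by
    have h1 : lR ^ j * zR = r * zR * r⁻¹ := by rw [hj]; group
    have h2 : L ^ j * z = (r : G) * z * (r : G)⁻¹ := congrArg Subtype.val h1
    rw [← h2, (hzl.zpow_right j).eq]
  have hrl : (r : G) * L * (r : G)⁻¹ = L := by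
    have : (r : G) * L = L * (r : G) := congrArg Subtype.val (mem_center_iff.1 hlc r)
    rw [this]; group
  have hrk : ∀ k : ℕ, (r : G) ^ k * z * ((r : G) ^ k)⁻¹ = z * L ^ (j * k) ∧
      (r : G) ^ k * L * ((r : G) ^ k)⁻¹ = L := by
    intro k
    induction k with
    | zero => simp
    | succ k ihk =>
      constructor
      · calc (r : G) ^ (k + 1) * z * ((r : G) ^ (k + 1))⁻¹
            = (r : G) ^ k * ((r : G) * z * (r : G)⁻¹) * ((r : G) ^ k)⁻¹ := by rw [pow_succ]; group
          _ = ((r : G) ^ k * z * ((r : G) ^ k)⁻¹) * ((r : G) ^ k * L * ((r : G) ^ k)⁻¹) ^ j := by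
              rw [hrz, conj_zpow]; group
          _ = z * L ^ (j * (k + 1 : ℕ)) := by
              rw [ihk.1, ihk.2, mul_assoc, ← zpow_add]; push_cast; ring_nf
      · calc (r : G) ^ (k + 1) * L * ((r : G) ^ (k + 1))⁻¹
            = (r : G) ^ k * ((r : G) * L * (r : G)⁻¹) * ((r : G) ^ k)⁻¹ := by rw [pow_succ]; group
          _ = L := by rw [hrl, ihk.2]
  set y : G := (r : G) ^ (-((j : ℤ) : ZMod p)⁻¹).val
  have hyz : y * z * y⁻¹ = z * L⁻¹ := by
    rw [(hrk _).1, ← zpow_neg_one L]
    congr 1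
    rw [zpow_eq_zpow_iff_modEq, hlo, ← ZMod.intCast_eq_intCast_iff]
    push_cast
    rw [ZMod.natCast_val, ZMod.cast_id, mul_neg, mul_inv_cancel₀ hjp]
  have hyl : y * L * y⁻¹ = L := (hrk _).2
  -- the Weyl element
  set w : G := (a : G) * y * (a : G) with hw
  have hwz : w * z * w⁻¹ = L⁻¹ := by
    calc w * z * w⁻¹ = (a : G) * (y * ((a : G) * z * (a : G)⁻¹) * y⁻¹) * (a : G)⁻¹ := by rw [hw]; group
      _ = ((a : G) * z * (a : G)⁻¹) * ((a : G) * L * (a : G)⁻¹)⁻¹ := by
          conv_lhs => rw [hza, hyz]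
          group
      _ = L⁻¹ := by rw [hza, hla]; group
  have hwl : w * L * w⁻¹ = z := by
    calc w * L * w⁻¹ = (a : G) * (y * ((a : G) * L * (a : G)⁻¹) * y⁻¹) * (a : G)⁻¹ := by rw [hw]; group
      _ = (a : G) * ((y * L * y⁻¹) * (y * z * y⁻¹)) * (a : G)⁻¹ := by rw [hla]; group
      _ = (a : G) * z * (a : G)⁻¹ := by
          rw [hyl, hyz, show L * (z * L⁻¹) = z by rw [← mul_assoc, ← hzl.eq, mul_inv_cancel_right]]
      _ = z := hza
  have hw2 : (w * w) * z * (w * w)⁻¹ = z⁻¹ := by
    calc (w * w) * z * (w * w)⁻¹ = w * (w * z * w⁻¹) * w⁻¹ := by group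
      _ = (w * L * w⁻¹)⁻¹ := by rw [hwz]; group
      _ = z⁻¹ := by rw [hwl]
  have hw4 : Commute ((w * w) * (w * w)) z := by
    have : (w * w) * (w * w) * z * ((w * w) * (w * w))⁻¹ = z := by
      calc (w * w) * (w * w) * z * ((w * w) * (w * w))⁻¹
          = (w * w) * ((w * w) * z * (w * w)⁻¹) * (w * w)⁻¹ := by group
        _ = ((w * w) * z * (w * w)⁻¹)⁻¹ := by
            conv_lhs => rw [hw2]
            simp only [mul_inv_rev, inv_inv, mul_assoc]
        _ = z := by rw [hw2, inv_inv]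
    exact mul_inv_eq_iff_eq_mul.1 this
  obtain ⟨s, m, hmo, hm⟩ := Nat.exists_eq_two_pow_mul_odd (orderOf_pos w).ne'
  set e : G := w ^ m with he
  have he2 : e * e * z * (e * e)⁻¹ = z⁻¹ := by
    obtain ⟨i, rfl⟩ := hmo
    have : e * e = (w * w) * ((w * w) * (w * w)) ^ i := by
      rw [he, show (w * w) * (w * w) = w ^ 4 by simp only [pow_succ, pow_zero, one_mul, mul_assoc], ← pow_mul, ← pow_two w, ← pow_add, ← pow_add]
      congr 1
      ring
    rw [this]
    calc (w * w) * ((w * w) * (w * w)) ^ i * z * ((w * w) * ((w * w) * (w * w)) ^ i)⁻¹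
        = (w * w) * (((w * w) * (w * w)) ^ i * z * (((w * w) * (w * w)) ^ i)⁻¹) * (w * w)⁻¹ := by group
      _ = (w * w) * z * (w * w)⁻¹ := by rw [(hw4.pow_left i).eq, mul_inv_cancel_right]
      _ = z⁻¹ := hw2
  have heo : e ^ 2 ^ s = 1 := by
    rw [he, ← pow_mul, mul_comm, ← hm, pow_orderOf_eq_one]
  have hzz : z⁻¹ ≠ z := by
    intro h
    have h2 : z ^ 2 = 1 := by
      rw [pow_two]; nth_rewrite 1 [← h]; simp
    have := orderOf_dvd_of_pow_eq_one h2
    rw [hzo, Nat.prime_dvd_prime_iff_eq hp.out Nat.prime_two] at this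
    exact hp2 this
  have hee : e * e ≠ 1 := fun h => hzz (by rw [← he2, h]; simp)
  haveI : Fact (Nat.Prime 2) := ⟨Nat.prime_two⟩
  obtain ⟨k, -, hk⟩ := (Nat.dvd_prime_pow Nat.prime_two).1 (orderOf_dvd_of_pow_eq_one heo)
  obtain ⟨S, hS⟩ := (IsPGroup.of_card (p := 2) (n := k) (by rw [Nat.card_zpowers, hk]) :
    IsPGroup 2 (zpowers e)).exists_le_sylow
  have heS : e ∈ (S : Subgroup G) := hS (mem_zpowers e)
  -- a normal subgroup of odd order containing `z`
  obtain ⟨N, hNn, hNo, hzN⟩ : ∃ N : Subgroup G, N.Normal ∧ Odd (Nat.card N) ∧ z ∈ N := by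
    rcases H35.sylow_types_of_conj hC2 S.isPGroup' with hcyc | ⟨-, ⟨q8⟩⟩ | ⟨h2, -⟩
    · have h2d : 2 ∣ Nat.card G := by
        refine Dvd.dvd.trans ?_ (orderOf_dvd_natCard e)
        rw [hk]
        refine dvd_pow_self 2 fun h0 => hee ?_
        rw [h0, pow_zero, orderOf_eq_one_iff] at hk
        rw [hk, mul_one]
      have hmin : (Nat.card G).minFac = 2 := (Nat.minFac_eq_two_iff _).2 h2d
      have hK := IsCyclic.isComplement' hmin hcyc
      refine ⟨_, MonoidHom.normal_ker (MonoidHom.transferSylow S (IsCyclic.normalizer_le_centralizer hmin hcyc)), ?_, ?_⟩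
      · rw [← hK.index_eq_card]
        exact (Nat.odd_iff.2 (Nat.two_dvd_ne_zero.1 S.not_dvd_index))
      · have hd1 := orderOf_map_dvd (MonoidHom.transferSylow S (IsCyclic.normalizer_le_centralizer hmin hcyc)) z
        obtain ⟨i, hi⟩ := IsPGroup.iff_orderOf.1 S.isPGroup'
          (MonoidHom.transferSylow S (IsCyclic.normalizer_le_centralizer hmin hcyc) z)
        rw [hzo, hi] at hd1
        have hco : Nat.Coprime (2 ^ i) p := ((Nat.coprime_primes Nat.prime_two hp.out).2 (Ne.symm hp2)).pow_left i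
        rw [MonoidHom.mem_ker, ← orderOf_eq_one_iff, hi]
        exact hco.eq_one_of_dvd hd1
    · set O : Subgroup G := Cfsg.pPrimeCore 2 G with hO
      haveI hOn : O.Normal := H1.pPrimeCore_normal' 2 G
      have hOo : Odd (Nat.card O) := Nat.coprime_two_right.1 (H1.card_pPrimeCore_coprime 2 G)
      refine ⟨O, hOn, hOo, ?_⟩
      set q := QuotientGroup.mk' O with hq
      have hqs : Function.Surjective q := QuotientGroup.mk'_surjective O
      set S' := S.mapSurjective hqs with hS'
      set φ : (S : Subgroup G) →* (S' : Subgroup (G ⧸ O)) := q.subgroupMap (S : Subgroup G) with hφ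
      have hφb : Function.Bijective φ := by
        refine ⟨(injective_iff_map_eq_one _).2 fun x hx => ?_, q.subgroupMap_surjective _⟩
        have hxO : (x : G) ∈ O := (QuotientGroup.eq_one_iff _).1 (congrArg Subtype.val hx)
        obtain ⟨i, hi⟩ := IsPGroup.iff_orderOf.1 S.isPGroup' x
        have hd := Subgroup.orderOf_dvd_natCard O hxO
        rw [Subgroup.orderOf_coe, hi] at hd
        rw [← orderOf_eq_one_iff, hi]
        exact Nat.Coprime.eq_one_of_dvd ((Nat.coprime_two_left.2 hOo).pow_left i) hd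
      set ψ := (MulEquiv.ofBijective φ hφb).symm.trans q8 with hψ
      have hcen := Cfsg.Agent.S0201.result S' 0 ψ (fun N hN hodd => by
        have : N ≤ Cfsg.pPrimeCore 2 (G ⧸ O) := H1.le_pPrimeCore (Nat.coprime_two_right.2 hodd)
        have hb : Cfsg.pPrimeCore 2 (G ⧸ O) = ⊥ := H1.pPrimeCore_quotient_pPrimeCore 2
        exact le_bot_iff.1 (hb ▸ this))
      obtain ⟨⟨c, hcc⟩, hco⟩ := exists_prime_orderOf_dvd_card' (G := center (G ⧸ O)) 2 (dvd_of_eq hcen.symm)
      rw [← Subgroup.orderOf_coe] at hco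
      simp only at hco
      have hcS : c ∈ (S' : Subgroup (G ⧸ O)) :=
        IsPGroup.le_sylow_of_normal (IsPGroup.of_card (p := 2) (n := 1) (by rw [pow_one]; exact hcen) :
          IsPGroup 2 (center (G ⧸ O))) S' hcc
      have huniq : ∀ u v : QuaternionGroup 2, u * u = 1 → u ≠ 1 → v * v = 1 → v ≠ 1 → u = v := by decide
      have h4 : ∀ u : QuaternionGroup 2, (u * u) * (u * u) = 1 := by decide
      let eS : (S : Subgroup G) := ⟨e, heS⟩
      have he1 : eS * eS ≠ 1 := fun h => hee (congrArg Subtype.val h)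
      have hce : ψ ⟨c, hcS⟩ = ψ (φ (eS * eS)) := by
        refine huniq _ _ ?_ ?_ ?_ ?_
        · rw [← map_mul]
          convert map_one ψ
          exact Subtype.ext (show c * c = 1 by rw [← pow_two]; exact hco ▸ pow_orderOf_eq_one c)
        · intro h
          have := congrArg Subtype.val (ψ.injective (h.trans (map_one ψ).symm))
          simp only [OneMemClass.coe_one] at this
          rw [this, orderOf_one] at hco
          omega
        · rw [← map_mul, ← map_mul]
          have : (eS * eS) * (eS * eS) = 1 := q8.injective (by rw [map_mul, map_mul, map_one]; exact h4 _)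
          rw [this, map_one, map_one]
        · intro h
          exact he1 (hφb.1 ((ψ.injective (h.trans (map_one ψ).symm)).trans (map_one φ).symm))
      have hcc' : q (e * e) ∈ center (G ⧸ O) := by
        have hcq : c = q (e * e) := congrArg Subtype.val (ψ.injective hce)
        rw [← hcq]
        exact hcc
      have hinv : q z⁻¹ = q z := by
        rw [← he2, map_mul, map_mul, map_inv, mul_inv_eq_iff_eq_mul]
        exact (mem_center_iff.1 hcc' (q z)).symm
      have hz2 : z * z ∈ O := by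
        rw [hq, QuotientGroup.mk'_apply, QuotientGroup.mk'_apply, QuotientGroup.eq, inv_inv] at hinv
        exact hinv
      obtain ⟨i, hi⟩ := hpodd
      have : z = (z * z) ^ (i + 1) := by
        rw [← pow_two, ← pow_mul, show 2 * (i + 1) = p + 1 by omega, pow_succ, ← hzo, pow_orderOf_eq_one, one_mul]
      rw [this]
      exact pow_mem hz2 _
    · exact absurd (by rw [← pow_two]; exact h2 e heS) hee
  haveI := hNn
  refine hna (commutative_of_le_solvable hconj (P : Subgroup G) hexp N hNn (Cfsg.Agent.S0205.result hNo) ?_)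
  intro v hv
  by_cases hv1 : v = 1
  · rw [hv1]; exact one_mem _
  obtain ⟨g', -, hg'⟩ := hconj z v hzo (orderOf_eq_prime (hexp v hv) hv1)
  obtain ⟨x, hx, rfl⟩ := hg' (mem_zpowers v)
  exact hNn.conj_mem x (zpowers_le.2 hzN hx) g'

end H32.ConjExtraspecial
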