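import Mathlib.GroupTheory.Nilpotent
import Mathlib.GroupTheory.Index
import Mathlib.GroupTheory.OrderOfElement
import Mathlib.Tactic

/-!
An abelian subgroup of largest order acting on a subgroup of class two: set-up and elementary
facts (helper32).
-/

set_option autoImplicit false

namespace Cfsg.Agent.H32.Cubic

open Subgroup
open scoped commutatorElement

variable {G : Type*} [Group G]

/-- The situation: `A` abelian of largest order, acting on `C`, with `B` central in `C`. -/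
structure Setup (A Q C B W : Subgroup G) : Prop where
  nil : Group.IsNilpotent G
  odd : ∀ g : G, g * g = 1 → g = 1
  comm : ∀ a ∈ A, ∀ b ∈ A, a * b = b * a
  AC : ∀ a ∈ A, ∀ c ∈ C, a * c * a⁻¹ ∈ C
  AB : ∀ a ∈ A, ∀ b ∈ B, a * b * a⁻¹ ∈ B
  BC : B ≤ C
  cen : ∀ b ∈ B, ∀ c ∈ C, c * b = b * c
  CC : ∀ u ∈ C, ∀ v ∈ C, ⁅u, v⁆ ∈ B
  hP : ∀ a ∈ A, ∀ u ∈ C, ∀ v ∈ C, ⁅a, ⁅u, v⁆⁆ ∈ A
  hQ : ∀ a ∈ A, a ∈ Q → ∀ c ∈ C, ⁅a, c⁆ ∈ B
  hmax : ∀ E : Subgroup G, (∀ x ∈ E, ∀ y ∈ E, x * y = y * x) → Nat.card E ≤ Nat.card A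
  hmax' : ∀ E : Subgroup G, (∀ x ∈ E, ∀ y ∈ E, x * y = y * x) → ¬ E ≤ Q →
    Nat.card A ≤ Nat.card E → A ⊓ W ≤ E → E ⊓ C ≤ A
  hW : ∀ w ∈ A, w ∈ W → ∀ x ∈ C, (∀ s ∈ A ⊓ C, ⁅x, s⁆ ∈ A) → ⁅w, x⁆ ∈ A

/-- `x ∈ C` whose commutators with `A ∩ C` lie in `A`. -/
def Good (A C : Subgroup G) (x : G) : Prop := x ∈ C ∧ ∀ s ∈ A ⊓ C, ⁅x, s⁆ ∈ A

/-- The subgroup generated by `[A,c]` and `A ∩ C`. -/
def tSub (A C : Subgroup G) (c : G) : Subgroup G :=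
  closure ((fun a => ⁅a, c⁆) '' (A : Set G) ∪ (A ⊓ C : Subgroup G))

/-- The subgroup generated by `[A,Y]` and `A ∩ C`. -/
def kSub (A C Y : Subgroup G) : Subgroup G :=
  closure ({x | ∃ a ∈ A, ∃ y ∈ Y, ⁅a, y⁆ = x} ∪ (A ⊓ C : Subgroup G))

/-- The elements `u` of `C` all of whose commutators `[s,u]`, `s ∈ S`, lie in the core of `N` under `C`. -/
def pre (S : Set G) (C N : Subgroup G) : Subgroup G where
  carrier := {u | u ∈ C ∧ ∀ s ∈ S, ∀ v ∈ C, v * ⁅s, u⁆ * v⁻¹ ∈ N}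
  one_mem' := ⟨C.one_mem, fun s _ v _ => by simp⟩
  mul_mem' := fun {x y} hx hy => ⟨C.mul_mem hx.1 hy.1, fun s hs v hv => by
    rw [show v * ⁅s, x * y⁆ * v⁻¹ = (v * ⁅s, x⁆ * v⁻¹) * ((v * x) * ⁅s, y⁆ * (v * x)⁻¹) by
      simp only [commutatorElement_def]; group]
    exact N.mul_mem (hx.2 s hs v hv) (hy.2 s hs _ (C.mul_mem hv hx.1))⟩
  inv_mem' := fun {x} hx => ⟨C.inv_mem hx.1, fun s hs v hv => by
    rw [show v * ⁅s, x⁻¹⁆ * v⁻¹ = ((v * x⁻¹) * ⁅s, x⁆ * (v * x⁻¹)⁻¹)⁻¹ by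
      simp only [commutatorElement_def]; group]
    exact N.inv_mem (hx.2 s hs _ (C.mul_mem hv (C.inv_mem hx.1)))⟩

/-- The elements `a` of `A` with `[a,c] ∈ A ∩ C`. -/
def hSub (A C : Subgroup G) (c : G) : Subgroup G where
  carrier := {a | a ∈ A ∧ ∀ b ∈ A, b * ⁅a, c⁆ * b⁻¹ ∈ A ⊓ C}
  one_mem' := ⟨A.one_mem, fun b _ => by simp⟩
  mul_mem' := fun {x y} hx hy => ⟨A.mul_mem hx.1 hy.1, fun b hb => by
    rw [show b * ⁅x * y, c⁆ * b⁻¹ = ((b * x) * ⁅y, c⁆ * (b * x)⁻¹) * (b * ⁅x, c⁆ * b⁻¹) by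
      simp only [commutatorElement_def]; group]
    exact (A ⊓ C).mul_mem (hy.2 _ (A.mul_mem hb hx.1)) (hx.2 b hb)⟩
  inv_mem' := fun {x} hx => ⟨A.inv_mem hx.1, fun b hb => by
    rw [show b * ⁅x⁻¹, c⁆ * b⁻¹ = ((b * x⁻¹) * ⁅x, c⁆ * (b * x⁻¹)⁻¹)⁻¹ by
      simp only [commutatorElement_def]; group]
    exact (A ⊓ C).inv_mem (hx.2 _ (A.mul_mem hb (A.inv_mem hx.1)))⟩

theorem commute_closure {S : Set G} (h : ∀ x ∈ S, ∀ y ∈ S, x * y = y * x) :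
    ∀ x ∈ closure S, ∀ y ∈ closure S, x * y = y * x := by
  have h1 : closure S ≤ centralizer S := (closure_le _).mpr fun x hx =>
    mem_centralizer_iff.mpr fun y hy => h y hy x hx
  have h2 : closure S ≤ centralizer (closure S : Set G) := by
    rw [centralizer_closure]
    exact h1
  intro x hx y hy
  exact (mem_centralizer_iff.mp (h2 hx) y hy).symm

theorem tSub_le_iff {A C : Subgroup G} {c : G} {D : Subgroup G} :
    tSub A C c ≤ D ↔ (∀ a ∈ A, ⁅a, c⁆ ∈ D) ∧ A ⊓ C ≤ D := by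
  constructor
  · intro h
    exact ⟨fun a ha => h (subset_closure (Or.inl ⟨a, ha, rfl⟩)),
      fun s hs => h (subset_closure (Or.inr hs))⟩
  · rintro ⟨h1, h2⟩
    refine (closure_le _).mpr ?_
    rintro x (⟨a, ha, rfl⟩ | hx)
    · exact h1 a ha
    · exact h2 hx

theorem kSub_le_iff {A C Y : Subgroup G} {D : Subgroup G} :
    kSub A C Y ≤ D ↔ (∀ a ∈ A, ∀ y ∈ Y, ⁅a, y⁆ ∈ D) ∧ A ⊓ C ≤ D := by
  constructor
  · intro h
    exact ⟨fun a ha y hy => h (subset_closure (Or.inl ⟨a, ha, y, hy, rfl⟩)),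
      fun s hs => h (subset_closure (Or.inr hs))⟩
  · rintro ⟨h1, h2⟩
    refine (closure_le _).mpr ?_
    rintro x (⟨a, ha, y, hy, rfl⟩ | hx)
    · exact h1 a ha y hy
    · exact h2 hx

theorem br_mem_tSub {A C : Subgroup G} {c a : G} (ha : a ∈ A) : ⁅a, c⁆ ∈ tSub A C c :=
  subset_closure (Or.inl ⟨a, ha, rfl⟩)

theorem soc_le_tSub {A C : Subgroup G} {c : G} : A ⊓ C ≤ tSub A C c :=
  fun _ hs => subset_closure (Or.inr hs)

theorem br_mem_kSub {A C Y : Subgroup G} {a y : G} (ha : a ∈ A) (hy : y ∈ Y) : ⁅a, y⁆ ∈ kSub A C Y :=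
  subset_closure (Or.inl ⟨a, ha, y, hy, rfl⟩)

theorem soc_le_kSub {A C Y : Subgroup G} : A ⊓ C ≤ kSub A C Y :=
  fun _ hs => subset_closure (Or.inr hs)

theorem br_mul_left (a b c : G) : ⁅a * b, c⁆ = a * ⁅b, c⁆ * a⁻¹ * ⁅a, c⁆ := by
  simp only [commutatorElement_def]; group

theorem br_mul_right (a u v : G) : ⁅a, u * v⁆ = ⁅a, u⁆ * (u * ⁅a, v⁆ * u⁻¹) := by
  simp only [commutatorElement_def]; group

theorem conj_eq_br_mul (a u : G) : a * u * a⁻¹ = ⁅a, u⁆ * u := by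
  simp only [commutatorElement_def]; group

theorem br_eq_one {a b : G} (h : a * b = b * a) : ⁅a, b⁆ = 1 :=
  commutatorElement_eq_one_iff_mul_comm.mpr h

/-- Square roots in a subgroup of a finite group without involutions. -/
theorem mem_of_sq_mem [Finite G] (hodd : ∀ g : G, g * g = 1 → g = 1) {H : Subgroup G} {g : G}
    (h : g * g ∈ H) : g ∈ H := by
  have hpos : 0 < orderOf g := orderOf_pos g
  rcases Nat.even_or_odd (orderOf g) with ⟨m, hm⟩ | ⟨m, hm⟩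
  · exfalso
    have h1 : g ^ m * g ^ m = 1 := by rw [← pow_add, ← hm, pow_orderOf_eq_one]
    have h2 := orderOf_dvd_of_pow_eq_one (hodd _ h1)
    have h3 := Nat.le_of_dvd (by omega) h2
    omega
  · have h1 : (g * g) ^ (m + 1) = g := by
      rw [← pow_two, ← pow_mul, show 2 * (m + 1) = orderOf g + 1 by omega, pow_succ,
        pow_orderOf_eq_one, one_mul]
    rw [← h1]
    exact H.pow_mem h _

/-- A subgroup from a set closed under products. -/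
def ofMulClosed [Finite G] (S : Set G) (h1 : (1 : G) ∈ S) (h2 : ∀ x ∈ S, ∀ y ∈ S, x * y ∈ S) :
    Subgroup G where
  carrier := S
  one_mem' := h1
  mul_mem' := fun {x y} hx hy => h2 x hx y hy
  inv_mem' := fun {x} hx => by
    have hpw : ∀ n : ℕ, x ^ n ∈ S := fun n => by
      induction n with
      | zero => simpa using h1
      | succ n ih => rw [pow_succ]; exact h2 _ ih _ hx
    have hpos : 0 < orderOf x := orderOf_pos x
    have he : x ^ (orderOf x - 1) = x⁻¹ := by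
      rw [eq_inv_iff_mul_eq_one, ← pow_succ, show orderOf x - 1 + 1 = orderOf x by omega,
        pow_orderOf_eq_one]
    exact he ▸ hpw _

/-- Coset representatives, with `1` for the subgroup itself. -/
theorem exists_rep (H : Subgroup G) : ∃ ρ : G → G, (∀ g, (ρ g)⁻¹ * g ∈ H) ∧
    (∀ g g', g⁻¹ * g' ∈ H → ρ g = ρ g') ∧ ∀ g ∈ H, ρ g = 1 := by
  classical
  refine ⟨fun g => if g ∈ H then 1 else ((g : G ⧸ H)).out, fun g => ?_, fun g g' h => ?_,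
    fun g hg => if_pos hg⟩
  · by_cases hg : g ∈ H
    · simp [hg]
    · simp only [if_neg hg]
      exact QuotientGroup.eq.mp (QuotientGroup.out_eq' (g : G ⧸ H))
  · have hiff : g ∈ H ↔ g' ∈ H :=
      ⟨fun hg => by simpa using H.mul_mem hg h, fun hg' => by
        have := H.mul_mem hg' (H.inv_mem h)
        simpa [mul_assoc] using this⟩
    by_cases hg : g ∈ H
    · simp [hg, hiff.mp hg]
    · simp only [if_neg hg, if_neg (fun h' => hg (hiff.mpr h'))]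
      rw [QuotientGroup.eq.mpr h]

/-- A set with pairwise inequivalent members counts against the relative index. -/
theorem relIndex_le_of_separated [Finite G] {H K L M : Subgroup G} (f : G → G)
    (hf : ∀ a ∈ K, f a ∈ L) (hsep : ∀ a ∈ K, ∀ b ∈ K, (f a)⁻¹ * f b ∈ M → a⁻¹ * b ∈ H) :
    H.relIndex K ≤ M.relIndex L := by
  let F : ↥K ⧸ H.subgroupOf K → ↥L ⧸ M.subgroupOf L := fun x =>
    ((⟨f (x.out : G), hf _ x.out.2⟩ : L) : ↥L ⧸ M.subgroupOf L)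
  refine Nat.card_le_card_of_injective F fun x y hxy => ?_
  have h1 := QuotientGroup.eq.mp hxy
  rw [Subgroup.mem_subgroupOf] at h1
  have h2 := hsep _ x.out.2 _ y.out.2 (by simpa using h1)
  rw [← QuotientGroup.out_eq' x, ← QuotientGroup.out_eq' y]
  exact QuotientGroup.eq.mpr (by simpa [Subgroup.mem_subgroupOf] using h2)

variable {A Q C B W : Subgroup G}

theorem mem_hSub (h : Setup A Q C B W) {c a : G} :
    a ∈ hSub A C c ↔ a ∈ A ∧ ⁅a, c⁆ ∈ A ⊓ C := by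
  refine ⟨fun ha => ⟨ha.1, by simpa using ha.2 1 A.one_mem⟩, fun ha => ⟨ha.1, fun b hb => ?_⟩⟩
  rw [h.comm b hb _ ha.2.1, mul_inv_cancel_right]
  exact ha.2

namespace Setup

variable (h : Setup A Q C B W)
include h

theorem brC {a c : G} (ha : a ∈ A) (hc : c ∈ C) : ⁅a, c⁆ ∈ C := by
  rw [commutatorElement_def]
  exact C.mul_mem (h.AC a ha c hc) (C.inv_mem hc)

theorem brB {a b : G} (ha : a ∈ A) (hb : b ∈ B) : ⁅a, b⁆ ∈ B := by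
  rw [commutatorElement_def]
  exact B.mul_mem (h.AB a ha b hb) (B.inv_mem hb)

theorem conjB {b v : G} (hb : b ∈ B) (hv : v ∈ C) : v * b * v⁻¹ = b := by
  rw [h.cen b hb v hv, mul_inv_cancel_right]

theorem conj_mem_of_le {N : Subgroup G} (hBN : B ≤ N) {x v : G} (hx : x ∈ N) (hxC : x ∈ C)
    (hv : v ∈ C) : v * x * v⁻¹ ∈ N := by
  rw [conj_eq_br_mul]
  exact N.mul_mem (hBN (h.CC v hv x hxC)) hx

theorem mem_pre_A {N : Subgroup G} (hBN : B ≤ N) {u : G} (hu : u ∈ C)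
    (h' : ∀ a ∈ A, ⁅a, u⁆ ∈ N) : u ∈ pre (A : Set G) C N :=
  ⟨hu, fun a ha _ hv => h.conj_mem_of_le hBN (h' a ha) (h.brC ha hu) hv⟩

theorem cbr_mul_right {u v w : G} (hu : u ∈ C) (hv : v ∈ C) (hw : w ∈ C) :
    ⁅u, v * w⁆ = ⁅u, v⁆ * ⁅u, w⁆ := by
  rw [br_mul_right, h.conjB (h.CC u hu w hw) hv]

theorem cbr_mul_left {u v w : G} (hu : u ∈ C) (hv : v ∈ C) (hw : w ∈ C) :
    ⁅u * v, w⁆ = ⁅u, w⁆ * ⁅v, w⁆ := by
  rw [br_mul_left, h.conjB (h.CC v hv w hw) hu,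
    h.cen _ (h.CC u hu w hw) _ (h.BC (h.CC v hv w hw))]

theorem cbr_B {u b : G} (hu : u ∈ C) (hb : b ∈ B) : ⁅u, b⁆ = 1 := br_eq_one (h.cen b hb u hu)

theorem cbr_inv_right {u v : G} (hu : u ∈ C) (hv : v ∈ C) : ⁅u, v⁻¹⁆ = ⁅u, v⁆⁻¹ :=
  eq_inv_of_mul_eq_one_right (by
    rw [← h.cbr_mul_right hu hv (C.inv_mem hv), mul_inv_cancel, commutatorElement_one_right])

theorem cbr_inv_left {u v : G} (hu : u ∈ C) (hv : v ∈ C) : ⁅u⁻¹, v⁆ = ⁅u, v⁆⁻¹ :=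
  eq_inv_of_mul_eq_one_right (by
    rw [← h.cbr_mul_left hu (C.inv_mem hu) hv, mul_inv_cancel, commutatorElement_one_left])

theorem cbr_conj_right {u v w : G} (hu : u ∈ C) (hv : v ∈ C) (hw : w ∈ C) :
    ⁅u, v * w * v⁻¹⁆ = ⁅u, w⁆ := by
  rw [conj_eq_br_mul, h.cbr_mul_right hu (h.BC (h.CC v hv w hw)) hw, h.cbr_B hu (h.CC v hv w hw),
    one_mul]

theorem fix_soc {a s : G} (ha : a ∈ A) (hs : s ∈ A ⊓ C) : ⁅a, s⁆ = 1 :=
  br_eq_one (h.comm a ha s hs.1)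

theorem shift {a u v : G} (ha : a ∈ A) (hu : u ∈ C) (hv : v ∈ C) :
    ⁅⁅a, u⁆, v⁆ = ⁅a, ⁅u, v⁆⁆ * (a * ⁅u, ⁅a⁻¹, v⁆⁆ * a⁻¹) := by
  have hw : ⁅a⁻¹, v⁆ ∈ C := h.brC (A.inv_mem ha) hv
  have hx : a * u * a⁻¹ ∈ C := h.AC a ha u hu
  have h1 : ⁅⁅a, u⁆, v⁆ = ⁅a * u * a⁻¹, v⁆ * ⁅u, v⁆⁻¹ := by
    rw [show ⁅a, u⁆ = (a * u * a⁻¹) * u⁻¹ by rw [commutatorElement_def], h.cbr_mul_left hx
      (C.inv_mem hu) hv, h.cbr_inv_left hu hv]
  have h2 : ⁅a * u * a⁻¹, v⁆ = a * ⁅u, ⁅a⁻¹, v⁆ * v⁆ * a⁻¹ := by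
    simp only [commutatorElement_def]; group
  have h3 : ⁅u, ⁅a⁻¹, v⁆ * v⁆ = ⁅u, ⁅a⁻¹, v⁆⁆ * ⁅u, v⁆ := h.cbr_mul_right hu hw hv
  have hc1 : a * ⁅u, ⁅a⁻¹, v⁆⁆ * a⁻¹ ∈ C := h.BC (h.AB a ha _ (h.CC u hu _ hw))
  have h4 : a * ⁅u, v⁆ * a⁻¹ = ⁅a, ⁅u, v⁆⁆ * ⁅u, v⁆ := conj_eq_br_mul _ _
  have h5 := h.cen _ (h.brB ha (h.CC u hu v hv)) _ hc1
  rw [h1, h2, h3, show a * (⁅u, ⁅a⁻¹, v⁆⁆ * ⁅u, v⁆) * a⁻¹ =
    (a * ⁅u, ⁅a⁻¹, v⁆⁆ * a⁻¹) * (a * ⁅u, v⁆ * a⁻¹) by group, h4, ← mul_assoc, h5,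
    mul_inv_cancel_right]

theorem shiftA {a u v : G} (ha : a ∈ A) (hu : u ∈ C) (hv : v ∈ C) :
    ⁅⁅a, u⁆, v⁆ * ⁅u, ⁅a⁻¹, v⁆⁆⁻¹ ∈ A := by
  have hw : ⁅a⁻¹, v⁆ ∈ C := h.brC (A.inv_mem ha) hv
  rw [h.shift ha hu hv, conj_eq_br_mul a ⁅u, ⁅a⁻¹, v⁆⁆, ← mul_assoc, mul_inv_cancel_right]
  exact A.mul_mem (h.hP a ha u hu v hv) (h.hP a ha u hu _ hw)

theorem sym {a b c : G} (ha : a ∈ A) (hb : b ∈ A) :
    ⁅a, ⁅b, c⁆⁆ = ⁅b, ⁅a, c⁆⁆ * ⁅⁅a, c⁆, ⁅b, c⁆⁆ := by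
  have h1 : a * ⁅b, c⁆ * a⁻¹ * ⁅a, c⁆ = b * ⁅a, c⁆ * b⁻¹ * ⁅b, c⁆ := by
    rw [← br_mul_left, ← br_mul_left, h.comm a ha b hb]
  have h2 : a * ⁅b, c⁆ * a⁻¹ = b * ⁅a, c⁆ * b⁻¹ * ⁅b, c⁆ * ⁅a, c⁆⁻¹ := eq_mul_inv_of_mul_eq h1
  rw [commutatorElement_def a ⁅b, c⁆, h2]
  simp only [commutatorElement_def]; group

omit h in
theorem conj_eq_br_mul_left {a b c : G} : a * ⁅b, c⁆ * a⁻¹ = ⁅a * b, c⁆ * ⁅a, c⁆⁻¹ :=
  eq_mul_inv_of_mul_eq (br_mul_left a b c).symm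

theorem tSub_le {c : G} (hc : c ∈ C) : tSub A C c ≤ C :=
  tSub_le_iff.mpr ⟨fun _ ha => h.brC ha hc, inf_le_right⟩

theorem kSub_le {Y : Subgroup G} (hY : Y ≤ C) : kSub A C Y ≤ C :=
  kSub_le_iff.mpr ⟨fun _ ha _ hy => h.brC ha (hY hy), inf_le_right⟩

theorem tSub_conj {c a t : G} (ha : a ∈ A) (ht : t ∈ tSub A C c) :
    a * t * a⁻¹ ∈ tSub A C c := by
  have h1 : tSub A C c ≤ (tSub A C c).comap (MulAut.conj a).toMonoidHom := by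
    refine tSub_le_iff.mpr ⟨fun b hb => ?_, fun s hs => ?_⟩
    · show a * ⁅b, c⁆ * a⁻¹ ∈ tSub A C c
      rw [conj_eq_br_mul_left]
      exact (tSub A C c).mul_mem (br_mem_tSub (A.mul_mem ha hb)) ((tSub A C c).inv_mem (br_mem_tSub ha))
    · show a * s * a⁻¹ ∈ tSub A C c
      rw [h.comm a ha s hs.1, mul_inv_cancel_right]
      exact soc_le_tSub hs
  exact h1 ht

theorem kSub_tSub_le {c : G} : kSub A C (tSub A C c) ≤ tSub A C c :=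
  kSub_le_iff.mpr ⟨fun a ha y hy => by
    rw [commutatorElement_def]
    exact (tSub A C c).mul_mem (h.tSub_conj ha hy) ((tSub A C c).inv_mem hy), soc_le_tSub⟩

theorem tSub_br_le {c b : G} (hb : b ∈ A) : tSub A C ⁅b, c⁆ ≤ tSub A C c :=
  tSub_le_iff.mpr ⟨fun _ ha => h.kSub_tSub_le (br_mem_kSub ha (br_mem_tSub hb)), soc_le_tSub⟩

theorem good_br {a c : G} (ha : a ∈ A) (hc : c ∈ C) : Good A C ⁅a, c⁆ :=
  ⟨h.brC ha hc, fun s hs => by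
    rw [h.shift ha hc hs.2, h.fix_soc (A.inv_mem ha) hs, commutatorElement_one_right, mul_one,
      mul_inv_cancel, mul_one]
    exact h.hP a ha c hc s hs.2⟩

theorem soc_comm {c : G} (hc : Good A C c) {t s : G} (ht : t ∈ tSub A C c) (hs : s ∈ A ⊓ C) :
    t * s = s * t := by
  have hle : tSub A C c ≤ centralizer ({s} : Set G) := by
    refine tSub_le_iff.mpr ⟨fun a ha => ?_, fun x hx => ?_⟩
    · rw [mem_centralizer_singleton_iff]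
      refine commutatorElement_eq_one_iff_mul_comm.mp ?_
      rw [h.shift ha hc.1 hs.2, h.fix_soc (A.inv_mem ha) hs, commutatorElement_one_right, mul_one,
        mul_inv_cancel, mul_one]
      exact br_eq_one (h.comm a ha _ (hc.2 s hs))
    · rw [mem_centralizer_singleton_iff]
      exact h.comm x hx.1 s hs.1
  exact mem_centralizer_singleton_iff.mp (hle ht)

theorem descent {Y : Subgroup G} (hle : Y ≤ kSub A C Y) : Y ≤ A ⊓ C := by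
  have key : ∀ n : ℕ, Y ≤ Subgroup.lowerCentralSeries (⊤ : Subgroup G) n ⊔ (A ⊓ C) := by
    intro n
    induction n with
    | zero => rw [Subgroup.lowerCentralSeries_zero, top_sup_eq]; exact le_top
    | succ n ih =>
      refine hle.trans (kSub_le_iff.mpr ⟨fun a ha y hy => ?_, le_sup_right⟩)
      obtain ⟨g, hg, s, hs, rfl⟩ := mem_sup_of_normal_left.mp (ih hy)
      have he : ⁅a, g * s⁆ = ⁅a, g⁆ := by
        rw [br_mul_right, h.fix_soc ha hs, mul_one, mul_inv_cancel, mul_one]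
      rw [he]
      refine mem_sup_left ?_
      rw [Subgroup.lowerCentralSeries_succ, ← commutatorElement_inv g a]
      exact Subgroup.inv_mem _ (commutator_mem_commutator hg (mem_top a))
  obtain ⟨n, hn⟩ := Subgroup.nilpotent_iff_lowerCentralSeries.mp h.nil
  have h1 := key n
  rwa [hn, bot_sup_eq] at h1

theorem card_le_relIndex [Finite G] {c : G} :
    (hSub A C c).relIndex A ≤ (A ⊓ C).relIndex (tSub A C c) := by
  refine relIndex_le_of_separated (fun a => ⁅a, c⁆⁻¹)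
    (fun a ha => (tSub A C c).inv_mem (br_mem_tSub ha)) fun a ha b hb hab => ?_
  rw [inv_inv] at hab
  -- `[a,c] [b,c]⁻¹` lies in the socle
  refine (mem_hSub h).mpr ⟨A.mul_mem (A.inv_mem ha) hb, ?_⟩
  have hk : b = a * (a⁻¹ * b) := by group
  rw [hk, br_mul_left, mul_inv_rev, mul_inv_cancel_left] at hab
  have h2 : a * ⁅a⁻¹ * b, c⁆ * a⁻¹ ∈ A ⊓ C := by
    simpa [mul_assoc] using (A ⊓ C).inv_mem hab
  have h3 : ⁅a⁻¹ * b, c⁆ = a⁻¹ * (a * ⁅a⁻¹ * b, c⁆ * a⁻¹) * a := by group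
  rw [h3, mul_assoc, ← h.comm a ha _ h2.1, inv_mul_cancel_left]
  exact h2

omit h in
theorem card_mul_relIndex_le [Finite G] {H Y : Subgroup G} (hH : H ≤ A) (hY : Y ≤ C) :
    Nat.card H * (A ⊓ C).relIndex Y ≤ Nat.card ↥(H ⊔ Y) := by
  rw [show (A ⊓ C).relIndex Y = Nat.card (↥Y ⧸ (A ⊓ C).subgroupOf Y) from rfl, ← Nat.card_prod]
  refine Nat.card_le_card_of_injective (fun x => ⟨(x.1 : G) * ((x.2.out : Y) : G)⁻¹,
    (H ⊔ Y).mul_mem (mem_sup_left x.1.2) ((H ⊔ Y).inv_mem (mem_sup_right x.2.out.2))⟩) ?_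
  rintro ⟨⟨a, ha⟩, x⟩ ⟨⟨b, hb⟩, y⟩ e
  have e' : a * ((x.out : Y) : G)⁻¹ = b * ((y.out : Y) : G)⁻¹ := congrArg Subtype.val e
  have e2 : ((x.out : Y) : G)⁻¹ * ((y.out : Y) : G) = a⁻¹ * b := by
    have := congrArg (fun z => a⁻¹ * z * ((y.out : Y) : G)) e'
    simpa [mul_assoc] using this
  have hxy : x = y := by
    rw [← QuotientGroup.out_eq' x, ← QuotientGroup.out_eq' y]
    refine QuotientGroup.eq.mpr ?_
    rw [mem_subgroupOf]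
    refine ⟨?_, C.mul_mem (C.inv_mem (hY x.out.2)) (hY y.out.2)⟩
    show ((x.out : Y) : G)⁻¹ * ((y.out : Y) : G) ∈ A
    rw [e2]
    exact A.mul_mem (A.inv_mem (hH ha)) (hH hb)
  subst hxy
  have hab : a = b := mul_right_cancel e'
  subst hab
  rfl

theorem step_one [Finite G] {h0 c t : G} (hc : Good A C c) (h0A : h0 ∈ A) (htA : t ∈ A) (htQ : t ∉ Q)
    (ht : ⁅t, ⁅h0, c⁆⁆ ∈ A ⊓ C) : ∀ a ∈ A, ⁅a, ⁅h0, c⁆⁆ ∈ A ⊓ C := by
  suffices key : ∀ n : ℕ, ∀ x c h0 : G, Nat.card (tSub A C x) = n → Good A C c → h0 ∈ A →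
      x = ⁅h0, c⁆ → ⁅t, x⁆ ∈ A ⊓ C → ∀ a ∈ A, ⁅a, x⁆ ∈ A ⊓ C from key _ _ c h0 rfl hc h0A rfl ht
  intro n
  induction n using Nat.strong_induction_on with
  | _ n ih =>
  intro x c h0 hn hc h0A hx ht
  have hxg : Good A C x := hx ▸ h.good_br h0A hc.1
  by_contra hgoal
  have hfix : ∀ k ∈ hSub A C x, ∀ b ∈ A, ⁅k, ⁅b, x⁆⁆ = 1 := by
    intro k hk b hb
    obtain ⟨hkA, hk2⟩ := (mem_hSub h).mp hk
    rw [h.sym hkA hb, h.fix_soc hb hk2, one_mul]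
    exact br_eq_one (h.soc_comm hxg (br_mem_tSub hb) hk2).symm
  have htH : t ∈ hSub A C x := (mem_hSub h).mpr ⟨htA, ht⟩
  have hf : ∀ a ∈ A, ∀ b ∈ A, ⁅a, ⁅b, x⁆⁆ ∈ A ⊓ C := by
    intro a ha b hb
    refine ih _ ?_ _ x b rfl hxg hb rfl (by rw [hfix t htH b hb]; exact one_mem _) a ha
    refine hn ▸ lt_of_le_of_ne (card_le_of_le (h.tSub_br_le hb)) fun e => ?_
    have e' : tSub A C ⁅b, x⁆ = tSub A C x := eq_of_le_of_card_ge (h.tSub_br_le hb) e.ge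
    refine hgoal fun a ha => (h.descent (Y := tSub A C x) ?_) (br_mem_tSub ha)
    calc tSub A C x = tSub A C ⁅b, x⁆ := e'.symm
      _ ≤ kSub A C (tSub A C x) :=
        tSub_le_iff.mpr ⟨fun _ ha => br_mem_kSub ha (br_mem_tSub hb), soc_le_kSub⟩
  -- `S(a,b) = 1`
  have hS : ∀ a ∈ A, ∀ b ∈ A, ⁅⁅a, x⁆, ⁅b, x⁆⁆ = ⁅x, ⁅a, ⁅b, x⁆⁆⁆⁻¹ := by
    intro a ha b hb
    have hbC := h.brC hb hxg.1
    have hπ : ⁅x, ⁅b, x⁆⁆ ∈ A := by
      have h1 := hf h0⁻¹ (A.inv_mem h0A) b hb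
      have h2 : ⁅c, ⁅h0⁻¹, ⁅b, x⁆⁆⁆ ∈ A := hc.2 _ h1
      rw [show ⁅x, ⁅b, x⁆⁆ = ⁅⁅h0, c⁆, ⁅b, x⁆⁆ by rw [hx], h.shift h0A hc.1 hbC, h.comm h0 h0A _ h2,
        mul_inv_cancel_right]
      exact A.mul_mem (h.hP h0 h0A c hc.1 _ hbC) h2
    have h1 : ⁅a⁻¹, ⁅b, x⁆⁆ = ⁅a, ⁅b, x⁆⁆⁻¹ := by
      have hc' := h.comm a⁻¹ (A.inv_mem ha) _ ((A ⊓ C).inv_mem (hf a ha b hb)).1
      rw [show ⁅a⁻¹, ⁅b, x⁆⁆ = a⁻¹ * ⁅a, ⁅b, x⁆⁆⁻¹ * a by simp only [commutatorElement_def]; group,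
        hc', inv_mul_cancel_right]
    have hpsi : ⁅x, ⁅a, ⁅b, x⁆⁆⁆ ∈ A := hxg.2 _ (hf a ha b hb)
    rw [h.shift ha hxg.1 hbC, br_eq_one (h.comm a ha _ hπ), one_mul, h1,
      h.cbr_inv_right hxg.1 (hf a ha b hb).2, h.comm a ha _ (A.inv_mem hpsi), mul_inv_cancel_right]
  have habel : ∀ a ∈ A, ∀ b ∈ A, ⁅a, x⁆ * ⁅b, x⁆ = ⁅b, x⁆ * ⁅a, x⁆ := by
    intro a ha b hb
    refine commutatorElement_eq_one_iff_mul_comm.mp ?_
    have haC := h.brC ha hxg.1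
    have hbC := h.brC hb hxg.1
    have h1 := hS a ha b hb
    have h2 := hS b hb a ha
    rw [← commutatorElement_inv] at h2
    have h3 : ⁅x, ⁅a, ⁅b, x⁆⁆⁆ = ⁅x, ⁅b, ⁅a, x⁆⁆⁆ := by
      rw [h.sym ha hb, h.cbr_mul_right hxg.1 (hf b hb a ha).2 (h.BC (h.CC _ haC _ hbC)),
        h.cbr_B hxg.1 (h.CC _ haC _ hbC), mul_one]
    refine h.odd _ ?_
    rw [h3, ← h2] at h1
    exact mul_eq_one_iff_eq_inv.mpr h1
  set E := hSub A C x ⊔ tSub A C x with hE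
  have hEc : ∀ u ∈ E, ∀ v ∈ E, u * v = v * u := by
    have hEeq : E = closure ((hSub A C x : Set G) ∪ ((fun a => ⁅a, x⁆) '' (A : Set G) ∪ (A ⊓ C : Subgroup G))) := by
      rw [Subgroup.closure_union, Subgroup.closure_eq]
      rfl
    rw [hEeq]
    refine commute_closure ?_
    have key : ∀ u ∈ (hSub A C x : Set G),
        ∀ v ∈ (fun a => ⁅a, x⁆) '' (A : Set G) ∪ ((A ⊓ C : Subgroup G) : Set G), u * v = v * u := by
      rintro u hu v (⟨b, hb, rfl⟩ | hv)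
      · exact commutatorElement_eq_one_iff_mul_comm.mp (hfix u hu b hb)
      · exact h.comm u hu.1 v hv.1
    rintro u (hu | hu) v (hv | hv)
    · exact h.comm u hu.1 v hv.1
    · exact key u hu v hv
    · exact (key v hv u hu).symm
    · rcases hu with ⟨a, ha, rfl⟩ | hu
      · rcases hv with ⟨b, hb, rfl⟩ | hv
        · exact habel a ha b hb
        · exact h.soc_comm hxg (br_mem_tSub ha) hv
      · rcases hv with ⟨b, hb, rfl⟩ | hv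
        · exact (h.soc_comm hxg (br_mem_tSub hb) hu).symm
        · exact h.comm u hu.1 v hv.1
  have hcard : Nat.card A ≤ Nat.card E := by
    refine le_trans ?_ (card_mul_relIndex_le (fun _ hk => hk.1) (h.tSub_le hxg.1))
    refine le_trans (le_of_eq ?_) (Nat.mul_le_mul_left _ h.card_le_relIndex)
    rw [← relIndex_bot_left (hSub A C x), relIndex_mul_relIndex ⊥ (hSub A C x) A bot_le (fun _ hk => hk.1),
      relIndex_bot_left]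
  have hEQ : ¬ E ≤ Q := fun hle => htQ (hle (mem_sup_left htH))
  have hAW : A ⊓ W ≤ E := fun w hw => mem_sup_left ((mem_hSub h).mpr
    ⟨hw.1, h.hW w hw.1 hw.2 x hxg.1 hxg.2, h.brC hw.1 hxg.1⟩)
  refine hgoal fun a ha => ⟨h.hmax' E hEc hEQ hcard hAW
    ⟨mem_sup_right (br_mem_tSub ha), h.brC ha hxg.1⟩, h.brC ha hxg.1⟩

end Setup

end Cfsg.Agent.H32.Cubic
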