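import Cfsg.Agent.H32.CubicKill

/-!
An abelian subgroup of largest order acting on a subgroup of class two: the second commutator
subgroup is central in the first, and the rules for commutation (helper32).
-/

set_option autoImplicit false

namespace Cfsg.Agent.H32.Cubic

open Subgroup
open scoped commutatorElement

variable {G : Type*} [Group G] {A Q C B W : Subgroup G}

/-- `q` moves `c` to `[c,[r,c]]` up to the socle. -/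
def Rel (A C : Subgroup G) (c q r : G) : Prop :=
  q ∈ A ∧ r ∈ A ∧ ⁅q, c⁆ * ⁅c, ⁅r, c⁆⁆⁻¹ ∈ A ⊓ C

namespace Setup

variable (h : Setup A Q C B W)
include h

theorem pi_B {c a : G} (hc : c ∈ C) (ha : a ∈ A) : ⁅c, ⁅a, c⁆⁆ ∈ B := h.CC c hc _ (h.brC ha hc)

theorem psi_sym {c a b : G} (hc : c ∈ C) (ha : a ∈ A) (hb : b ∈ A) :
    ⁅c, ⁅a, ⁅b, c⁆⁆⁆ = ⁅c, ⁅b, ⁅a, c⁆⁆⁆ := by
  have hS := h.CC _ (h.brC ha hc) _ (h.brC hb hc)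
  rw [h.sym ha hb, h.cbr_mul_right hc (h.brC hb (h.brC ha hc)) (h.BC hS), h.cbr_B hc hS, mul_one]

omit h in
theorem br_mem_T2 {c a b : G} (ha : a ∈ A) (hb : b ∈ A) :
    ⁅a, ⁅b, c⁆⁆ ∈ kSub A C (tSub A C c) := br_mem_kSub ha (br_mem_tSub hb)

theorem br_pi_mem {c a b : G} (hc : c ∈ C) (ha : a ∈ A) (hb : b ∈ A) :
    ⁅a, ⁅c, ⁅b, c⁆⁆⁆ ∈ A ⊓ C :=
  ⟨h.hP a ha c hc _ (h.brC hb hc), h.BC (h.brB ha (h.pi_B hc hb))⟩

variable [Finite G] {c : G} (F : Chain A C B c)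
include F

theorem psi_inv {a b : G} (ha : a ∈ A) (hb : b ∈ A) :
    ⁅c, ⁅a⁻¹, ⁅b, c⁆⁆⁆ = ⁅c, ⁅a, ⁅b, c⁆⁆⁆⁻¹ := by
  have hcC := F.good.1
  have hf : ⁅a, ⁅b, c⁆⁆⁻¹ ∈ kSub A C (tSub A C c) := inv_mem (br_mem_T2 ha hb)
  have e : ⁅a⁻¹, ⁅b, c⁆⁆ = ⁅a⁻¹, ⁅a, ⁅b, c⁆⁆⁻¹⁆ * ⁅a, ⁅b, c⁆⁆⁻¹ := by
    simp only [commutatorElement_def]; group
  rw [e, h.cbr_mul_right hcC (h.brC (A.inv_mem ha) (h.T2_le hcC hf)) (h.T2_le hcC hf),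
    h.killed F (A.inv_mem ha) hf, one_mul, h.cbr_inv_right hcC (h.brC ha (h.brC hb hcC))]

theorem psi_mem {a b : G} (ha : a ∈ A) (hb : b ∈ A) : ⁅c, ⁅a, ⁅b, c⁆⁆⁆ ∈ A := by
  have hcC := F.good.1
  set X := ⁅c, ⁅a, ⁅b, c⁆⁆⁆ with hX
  have hbC := h.brC hb hcC
  set y := ⁅⁅b, c⁆, b⁻¹⁆ with hy
  have hyT : y ∈ kSub A C (tSub A C c) := by
    rw [hy, ← commutatorElement_inv b⁻¹]
    exact inv_mem (br_mem_T2 (A.inv_mem hb) hb)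
  have hyC : y ∈ C := h.T2_le hcC hyT
  have hw : ⁅b⁻¹, c⁆ = ⁅b, c⁆⁻¹ * y := by
    rw [hy]; simp only [commutatorElement_def]; group
  have hZ : ⁅c, ⁅a⁻¹, ⁅b⁻¹, c⁆⁆⁆ = X := by
    have e : ⁅a⁻¹, ⁅b, c⁆⁻¹⁆ = ⁅b, c⁆⁻¹ * ⁅a⁻¹, ⁅b, c⁆⁆⁻¹ * ⁅b, c⁆⁻¹⁻¹ := by
      simp only [commutatorElement_def]; group
    have ha' := h.brC (A.inv_mem ha) hbC
    have hay := h.brC (A.inv_mem ha) hyC
    rw [hw, br_mul_right, h.cbr_mul_right hcC (h.brC (A.inv_mem ha) (C.inv_mem hbC))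
      (C.mul_mem (C.mul_mem (C.inv_mem hbC) hay) (by simpa using hbC)),
      h.cbr_conj_right hcC (C.inv_mem hbC) hay, h.killed F (A.inv_mem ha) hyT, mul_one, e,
      h.cbr_conj_right hcC (C.inv_mem hbC) (C.inv_mem ha'), h.cbr_inv_right hcC ha', h.psi_inv F ha hb,
      inv_inv]
  have s1 := h.shiftA (A.inv_mem hb) hcC (h.brC ha hcC)
  rw [inv_inv, h.psi_sym hcC hb ha, ← hX] at s1
  have s2 := h.shiftA ha hcC (h.brC (A.inv_mem hb) hcC)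
  rw [hZ, ← commutatorElement_inv ⁅b⁻¹, c⁆ ⁅a, c⁆] at s2
  set L := ⁅⁅b⁻¹, c⁆, ⁅a, c⁆⁆ with hL
  have hXB : X ∈ B := h.CC c hcC _ (h.brC ha hbC)
  have hLC : L⁻¹ ∈ C := C.inv_mem (h.BC (h.CC _ (h.brC (A.inv_mem hb) hcC) _ (h.brC ha hcC)))
  have h3 := A.mul_mem s1 s2
  rw [show L * X⁻¹ * (L⁻¹ * X⁻¹) = L * (X⁻¹ * L⁻¹) * X⁻¹ by group,
    ← h.cen _ (B.inv_mem hXB) _ hLC, ← mul_assoc, mul_inv_cancel, one_mul] at h3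
  refine mem_of_sq_mem h.odd ?_
  simpa using A.inv_mem h3

theorem phi_T2 {u : G} (hu : u ∈ kSub A C (tSub A C c)) : ⁅c, u⁆ ∈ A := by
  have hcC := F.good.1
  have hB1 : B ≤ pre ({c} : Set G) C A := h.B_le_pre_single hcC
  have hle : kSub A C (tSub A C c) ≤ pre ({c} : Set G) C A := by
    refine kSub_le_iff.mpr ⟨fun b hb y hy => ?_, fun s hs => h.mem_pre_single hcC hs.2 (F.good.2 s hs)⟩
    have hle' : tSub A C c ≤ pre (A : Set G) C (pre ({c} : Set G) C A) :=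
      tSub_le_iff.mpr ⟨fun a' ha' => h.mem_pre_A hB1 (h.brC ha' hcC) fun b' hb' =>
        h.mem_pre_single hcC (h.brC hb' (h.brC ha' hcC)) (h.psi_mem F hb' ha'),
        h.soc_le_pre_A hB1⟩
    exact br_of_mem_pre (hle' hy) hb
  exact br_of_mem_pre (hle hu) (Set.mem_singleton c)

theorem T2_central {u t : G} (hu : u ∈ kSub A C (tSub A C c)) (ht : t ∈ tSub A C c) :
    t * u = u * t := by
  have hcC := F.good.1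
  have hle : tSub A C c ≤ centralizer ({u} : Set G) := by
    refine tSub_le_iff.mpr ⟨fun b hb => ?_, fun s hs => ?_⟩
    · rw [mem_centralizer_singleton_iff]
      refine commutatorElement_eq_one_iff_mul_comm.mp ?_
      rw [h.shift hb hcC (h.T2_le hcC hu), br_eq_one (h.comm b hb _ (h.phi_T2 F hu)),
        h.killed F (A.inv_mem hb) hu, mul_one, mul_inv_cancel, mul_one]
    · rw [mem_centralizer_singleton_iff]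
      exact (h.soc_comm F.good (h.kSub_tSub_le hu) hs).symm
  exact mem_centralizer_singleton_iff.mp (hle ht)

theorem pi_mul {a b : G} (ha : a ∈ A) (hb : b ∈ A) :
    ⁅c, ⁅a * b, c⁆⁆ = ⁅c, ⁅a, ⁅b, c⁆⁆⁆ * ⁅c, ⁅b, c⁆⁆ * ⁅c, ⁅a, c⁆⁆ := by
  have hcC := F.good.1
  have hf := h.brC ha (h.brC hb hcC)
  rw [br_mul_left, conj_eq_br_mul, h.cbr_mul_right hcC (C.mul_mem hf (h.brC hb hcC)) (h.brC ha hcC),
    h.cbr_mul_right hcC hf (h.brC hb hcC)]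

theorem br_delta {a b : G} (ha : a ∈ A) (hb : b ∈ A) :
    ⁅⁅a, c⁆, ⁅b, c⁆⁆ = ⁅a, ⁅c, ⁅b, c⁆⁆⁆ * ⁅c, ⁅a, ⁅b, c⁆⁆⁆⁻¹ := by
  rw [h.shift ha F.good.1 (h.brC hb F.good.1), h.psi_inv F ha hb,
    h.comm a ha _ (A.inv_mem (h.psi_mem F ha hb)), mul_inv_cancel_right]

theorem delta_mul_mem {a b : G} (ha : a ∈ A) (hb : b ∈ A) :
    ⁅⁅a, c⁆, ⁅b, c⁆⁆ ∈ A ⊓ C := by
  refine ⟨?_, h.BC (h.CC _ (h.brC ha F.good.1) _ (h.brC hb F.good.1))⟩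
  rw [h.br_delta F ha hb]
  exact A.mul_mem (h.br_pi_mem F.good.1 ha hb).1 (A.inv_mem (h.psi_mem F ha hb))

/-- An element moving `[A,c]` inside the socle centralizes the second commutator subgroup. -/
theorem fix_T2 {q : G} (hq : q ∈ A) (hqa : ∀ a ∈ A, ⁅q, ⁅a, c⁆⁆ ∈ A ⊓ C) {u : G}
    (hu : u ∈ kSub A C (tSub A C c)) : q * u = u * q := by
  set L := ofMulClosed {y | y ∈ tSub A C c ∧ ⁅q, y⁆ ∈ A ⊓ C}
    ⟨one_mem _, by rw [commutatorElement_one_right]; exact one_mem _⟩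
    (fun x hx y hy => ⟨mul_mem hx.1 hy.1, by
      rw [br_mul_right, h.soc_comm F.good hx.1 hy.2, mul_inv_cancel_right]
      exact mul_mem hx.2 hy.2⟩) with hL
  have hTL : tSub A C c ≤ L := tSub_le_iff.mpr ⟨fun a ha => ⟨br_mem_tSub ha, hqa a ha⟩,
    fun s hs => ⟨soc_le_tSub hs, by rw [h.fix_soc hq hs]; exact one_mem _⟩⟩
  have hle : kSub A C (tSub A C c) ≤ centralizer ({q} : Set G) := by
    refine kSub_le_iff.mpr ⟨fun b hb y hy => ?_, fun s hs => ?_⟩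
    · obtain ⟨hyT, hs⟩ := hTL hy
      rw [mem_centralizer_singleton_iff]
      have e : q * ⁅b, y⁆ * q⁻¹ = ⁅b, y⁆ := by
        rw [show q * ⁅b, y⁆ * q⁻¹ = ⁅q * b * q⁻¹, q * y * q⁻¹⁆ by
          simp only [commutatorElement_def]; group, h.comm q hq b hb, mul_inv_cancel_right,
          conj_eq_br_mul q y, br_mul_right, h.fix_soc hb hs, one_mul,
          ← h.soc_comm F.good (h.kSub_tSub_le (br_mem_kSub hb hyT)) hs, mul_inv_cancel_right]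
      exact (mul_inv_eq_iff_eq_mul.mp e).symm
    · rw [mem_centralizer_singleton_iff]
      exact h.comm s hs.1 q hq
  exact (mem_centralizer_singleton_iff.mp (hle hu)).symm

theorem rel_br {q r a : G} (hqr : Rel A C c q r) (ha : a ∈ A) :
    ⁅q, ⁅a, c⁆⁆ = ⁅a, ⁅c, ⁅r, c⁆⁆⁆ := by
  obtain ⟨hq, hr, hσ⟩ := hqr
  have hcC := F.good.1
  set π := ⁅c, ⁅r, c⁆⁆ with hπ
  set σ := ⁅q, c⁆ * π⁻¹ with hσdef
  have hq' : ⁅q, c⁆ = σ * π := by rw [hσdef, inv_mul_cancel_right]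
  have hπB : π ∈ B := h.pi_B hcC hr
  rw [h.sym hq ha, hq', h.cbr_mul_left hσ.2 (h.BC hπB) (h.brC ha hcC),
    br_eq_one (h.soc_comm F.good (br_mem_tSub ha) hσ).symm,
    br_eq_one (h.cen π hπB _ (h.brC ha hcC)).symm, mul_one, mul_one,
    br_mul_right, h.fix_soc ha hσ, one_mul, h.conjB (h.brB ha hπB) hσ.2]

theorem rel_pi_mem {q r : G} (hqr : Rel A C c q r) : ⁅c, ⁅q, c⁆⁆ ∈ A := by
  obtain ⟨hq, hr, hσ⟩ := hqr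
  have hπB := h.pi_B F.good.1 hr
  rw [show ⁅q, c⁆ = (⁅q, c⁆ * ⁅c, ⁅r, c⁆⁆⁻¹) * ⁅c, ⁅r, c⁆⁆ by rw [inv_mul_cancel_right],
    h.cbr_mul_right F.good.1 hσ.2 (h.BC hπB), h.cbr_B F.good.1 hπB, mul_one]
  exact F.good.2 _ hσ

theorem rel_fix_pi {q r a : G} (hqr : Rel A C c q r) (ha : a ∈ A) :
    q * ⁅c, ⁅a, c⁆⁆ = ⁅c, ⁅a, c⁆⁆ * q := by
  have hcC := F.good.1
  have hg := h.rel_br F hqr ha
  obtain ⟨hq, hr, hσ⟩ := hqr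
  have haC := h.brC ha hcC
  have hqC := h.brC hq hcC
  have hgB : ⁅a, ⁅c, ⁅r, c⁆⁆⁆ ∈ B := h.brB ha (h.pi_B hcC hr)
  have h1 : ⁅⁅q, c⁆, ⁅a, c⁆⁆ = 1 := by
    rw [show ⁅q, c⁆ = (⁅q, c⁆ * ⁅c, ⁅r, c⁆⁆⁻¹) * ⁅c, ⁅r, c⁆⁆ by rw [inv_mul_cancel_right],
      h.cbr_mul_left hσ.2 (h.BC (h.pi_B hcC hr)) haC,
      br_eq_one (h.soc_comm F.good (br_mem_tSub ha) hσ).symm,
      br_eq_one (h.cen _ (h.pi_B hcC hr) _ haC).symm, mul_one]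
  have e : q * ⁅c, ⁅a, c⁆⁆ * q⁻¹ = ⁅c, ⁅a, c⁆⁆ := by
    rw [show q * ⁅c, ⁅a, c⁆⁆ * q⁻¹ = ⁅⁅q, c⁆ * c, ⁅q, ⁅a, c⁆⁆ * ⁅a, c⁆⁆ by
      simp only [commutatorElement_def]; group, hg,
      h.cbr_mul_right (C.mul_mem hqC hcC) (h.BC hgB) haC, h.cbr_B (C.mul_mem hqC hcC) hgB, one_mul,
      h.cbr_mul_left hqC hcC haC, h1, one_mul]
  exact mul_inv_eq_iff_eq_mul.mp e

theorem rel_mul {q r q' r' : G} (hqr : Rel A C c q r) (hqr' : Rel A C c q' r') :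
    Rel A C c (q * q') (r * r') := by
  have hcC := F.good.1
  have hg := h.rel_br F hqr hqr'.1
  obtain ⟨hq, hr, hσ⟩ := hqr
  obtain ⟨hq', hr', hσ'⟩ := hqr'
  refine ⟨A.mul_mem hq hq', A.mul_mem hr hr', ?_⟩
  set σ := ⁅q, c⁆ * ⁅c, ⁅r, c⁆⁆⁻¹ with hσd
  set σ' := ⁅q', c⁆ * ⁅c, ⁅r', c⁆⁆⁻¹ with hσd'
  set π := ⁅c, ⁅r, c⁆⁆
  set π' := ⁅c, ⁅r', c⁆⁆
  have hψ : ⁅c, ⁅r, ⁅r', c⁆⁆⁆ ∈ A ⊓ C :=
    ⟨h.psi_mem F hr hr', h.BC (h.CC c hcC _ (h.brC hr (h.brC hr' hcC)))⟩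
  rw [br_mul_left, conj_eq_br_mul, h.pi_mul F hr hr', hg,
    show ⁅q, c⁆ = σ * π by rw [hσd, inv_mul_cancel_right],
    show ⁅q', c⁆ = σ' * π' by rw [hσd', inv_mul_cancel_right],
    show ∀ g ψ : G, g * (σ' * π') * (σ * π) * (ψ * π' * π)⁻¹ =
      g * σ' * (π' * σ * π'⁻¹) * ψ⁻¹ from fun g ψ => by group,
    ← h.cen π' (h.pi_B hcC hr') σ hσ.2, mul_inv_cancel_right]
  exact mul_mem (mul_mem (mul_mem (h.br_pi_mem hcC hq' hr) hσ') hσ) (inv_mem hψ)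

end Setup

end Cfsg.Agent.H32.Cubic
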