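import Cfsg.Agent.H32.CubicCentral

/-!
An abelian subgroup of largest order acting on a subgroup of class two: a second abelian subgroup
of the same order, and the shape of its elements (helper32).
-/

set_option autoImplicit false

namespace Cfsg.Agent.H32.Cubic

open Subgroup
open scoped commutatorElement

variable {G : Type*} [Group G] {A Q C B W : Subgroup G}

theorem commGroup_identity {H : Type*} [CommGroup H] (S g g' P : H) (h1 : S = g' * P⁻¹)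
    (h2 : S⁻¹ = g * P⁻¹) : g * g * (S * S * (S * S)) = g' * g' := by
  have e1 : g' = S * P := by rw [h1, inv_mul_cancel_right]
  have e2 : g = S⁻¹ * P := by rw [h2, inv_mul_cancel_right]
  rw [e1, e2, mul_mul_mul_comm S⁻¹ P, mul_mul_mul_comm S P]
  rw [mul_comm (S⁻¹ * S⁻¹) (P * P), mul_assoc, show S⁻¹ * S⁻¹ * (S * S * (S * S)) = S * S by
    rw [← mul_inv_rev, inv_mul_cancel_left],
    mul_comm]

namespace Setup

variable (h : Setup A Q C B W)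
include h

theorem sq_swap {x y : G} (hx : x ∈ C) (hy : y ∈ C) :
    x * x * y = ⁅x, y⁆ * ⁅x, y⁆ * (y * x * x) := by
  have hS := h.cen _ (h.CC x hx y hy)
  have e : x * y = ⁅x, y⁆ * (y * x) := by simp only [commutatorElement_def]; group
  rw [mul_assoc, e, ← mul_assoc, hS x hx, mul_assoc, ← mul_assoc x y x, e]
  group

theorem B_mul_swap {S : G} (hS : S ∈ B) {x : G} (hx : x ∈ C) (y : G) : x * (S * y) = S * (x * y) := by
  rw [← mul_assoc, h.cen S hS x hx, mul_assoc]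

variable [Finite G] {c : G} (F : Chain A C B c)
include F

/-- The generators of the second abelian subgroup commute. -/
theorem exists_abelian :
    ∃ E : Subgroup G, (∀ x ∈ E, ∀ y ∈ E, x * y = y * x) ∧ hSub A C c ≤ E ∧
      kSub A C (tSub A C c) ≤ E ∧ (∀ a ∈ A, ⁅c, ⁅a, c⁆⁆ ∈ E) ∧
      (∀ s ∈ A, ⁅c, ⁅s, c⁆⁆ ∈ A → ⁅s, c⁆ ∈ E) ∧
      ∀ q r, Rel A C c q r → ⁅r, c⁆ * ⁅r, c⁆ * q ∈ E := by
  have hcC := F.good.1
  let X : Set G := {x | ∃ a ∈ A, ⁅c, ⁅a, c⁆⁆ = x} ∪ (kSub A C (tSub A C c) : Set G)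
  let D : Set G := {x | ∃ s ∈ A, ⁅c, ⁅s, c⁆⁆ ∈ A ∧ ⁅s, c⁆ = x}
  let Θ : Set G := {x | ∃ q r, Rel A C c q r ∧ ⁅r, c⁆ * ⁅r, c⁆ * q = x}
  have hHrel : ∀ k ∈ hSub A C c, Rel A C c k 1 := fun k hk => by
    obtain ⟨hkA, hk2⟩ := (mem_hSub h).mp hk
    refine ⟨hkA, A.one_mem, ?_⟩
    simpa using hk2
  -- `X` against `[A,c]` and against the related elements
  have hXT : ∀ x ∈ X, ∀ t ∈ tSub A C c, x * t = t * x := by
    rintro x (⟨a, ha, rfl⟩ | hx) t ht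
    · exact (h.cen _ (h.pi_B hcC ha) t (h.tSub_le hcC ht)).symm
    · exact (h.T2_central F hx ht).symm
  have hXq : ∀ x ∈ X, ∀ q r, Rel A C c q r → q * x = x * q := by
    rintro x (⟨a, ha, rfl⟩ | hx) q r hqr
    · exact h.rel_fix_pi F hqr ha
    · refine h.fix_T2 F hqr.1 (fun a ha => ?_) hx
      rw [h.rel_br F hqr ha]
      exact h.br_pi_mem hcC ha hqr.2.1
  have hXX : ∀ x ∈ X, ∀ y ∈ X, x * y = y * x := by
    rintro x (⟨a, ha, rfl⟩ | hx) y hy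
    · refine (h.cen _ (h.pi_B hcC ha) y ?_).symm
      rcases hy with ⟨b, hb, rfl⟩ | hy
      · exact h.BC (h.pi_B hcC hb)
      · exact h.T2_le hcC hy
    · rcases hy with ⟨b, hb, rfl⟩ | hy
      · exact h.cen _ (h.pi_B hcC hb) x (h.T2_le hcC hx)
      · exact (h.T2_central F hx (h.kSub_tSub_le hy)).symm
  have hkT : ∀ k ∈ hSub A C c, ∀ a ∈ A, k * ⁅a, c⁆ = ⁅a, c⁆ * k := fun k hk a ha => by
    refine commutatorElement_eq_one_iff_mul_comm.mp ?_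
    rw [h.rel_br F (hHrel k hk) ha]
    simp
  have hHΘ : ∀ k ∈ hSub A C c, ∀ y ∈ Θ, k * y = y * k := by
    rintro k hk y ⟨q, r, hqr, rfl⟩
    have e := hkT k hk r hqr.2.1
    rw [← mul_assoc, ← mul_assoc, e, mul_assoc ⁅r, c⁆ k, e, ← mul_assoc, mul_assoc _ k q,
      h.comm k hk.1 q hqr.1, ← mul_assoc]
  have hXΘ : ∀ x ∈ X, ∀ y ∈ Θ, x * y = y * x := by
    rintro x hx y ⟨q, r, hqr, rfl⟩
    have e := hXT x hx _ (br_mem_tSub (C := C) (c := c) hqr.2.1)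
    rw [← mul_assoc, ← mul_assoc, e, mul_assoc ⁅r, c⁆ x, e, ← mul_assoc, mul_assoc _ x q,
      ← hXq x hx q r hqr, ← mul_assoc]
  have hDD : ∀ x ∈ D, ∀ y ∈ D, x * y = y * x := by
    rintro _ ⟨a, ha, hπa, rfl⟩ _ ⟨b, hb, hπb, rfl⟩
    refine commutatorElement_eq_one_iff_mul_comm.mp (h.odd _ ?_)
    have h1 := h.br_delta F ha hb
    have h2 := h.br_delta F hb ha
    rw [br_eq_one (h.comm a ha _ hπb), one_mul] at h1
    rw [br_eq_one (h.comm b hb _ hπa), one_mul, h.psi_sym hcC hb ha,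
      ← commutatorElement_inv ⁅a, c⁆, inv_inj] at h2
    nth_rewrite 2 [h1]
    rw [← h2, mul_inv_cancel]
  have hDΘ : ∀ x ∈ D, ∀ y ∈ Θ, x * y = y * x := by
    rintro _ ⟨s, hs, hπs, rfl⟩ _ ⟨q, r, hqr, rfl⟩
    have hg := h.rel_br F hqr hs
    have hr := hqr.2.1
    have hsC := h.brC hs hcC
    have hrC := h.brC hr hcC
    set g := ⁅q, ⁅s, c⁆⁆ with hgd
    set S := ⁅⁅r, c⁆, ⁅s, c⁆⁆ with hSd
    have h1 := h.br_delta F hr hs
    have h2 := h.br_delta F hs hr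
    rw [br_eq_one (h.comm r hr _ hπs), one_mul, h.psi_sym hcC hr hs, ← hSd] at h1
    rw [← commutatorElement_inv ⁅r, c⁆, ← hSd, ← hg, ← h1] at h2
    have hgS : g * S * S = 1 := by rw [← h2, inv_mul_cancel]
    have hgB : g ∈ B := hg ▸ h.brB hs (h.pi_B hcC hr)
    have e : q * ⁅s, c⁆ = g * (⁅s, c⁆ * q) := by rw [hgd]; simp only [commutatorElement_def]; group
    have e2 := h.sq_swap hrC hsC
    rw [← hSd] at e2
    calc ⁅s, c⁆ * (⁅r, c⁆ * ⁅r, c⁆ * q) = g * S * S * (⁅s, c⁆ * ⁅r, c⁆ * ⁅r, c⁆ * q) := by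
          rw [hgS, one_mul]; group
      _ = g * (⁅r, c⁆ * ⁅r, c⁆ * ⁅s, c⁆) * q := by rw [e2]; group
      _ = ⁅r, c⁆ * ⁅r, c⁆ * q * ⁅s, c⁆ := by
          rw [mul_assoc (⁅r, c⁆ * ⁅r, c⁆) q, e, h.B_mul_swap hgB (C.mul_mem hrC hrC)]
          group
  have hΘΘ : ∀ x ∈ Θ, ∀ y ∈ Θ, x * y = y * x := by
    rintro _ ⟨q, r, hqr, rfl⟩ _ ⟨q', r', hqr', rfl⟩
    have hr := hqr.2.1
    have hr' := hqr'.2.1
    have hg := h.rel_br F hqr hr'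
    have hg' := h.rel_br F hqr' hr
    have hrC := h.brC hr hcC
    have hr'C := h.brC hr' hcC
    set d := ⁅r, c⁆ with hd
    set d' := ⁅r', c⁆ with hd'
    set g := ⁅q, d'⁆ with hgd
    set g' := ⁅q', d⁆ with hgd'
    set S := ⁅d, d'⁆ with hSd
    have h1 := h.br_delta F hr hr'
    have h2 := h.br_delta F hr' hr
    rw [← hd, ← hd', ← hSd, ← hg'] at h1
    rw [← hd, ← hd', ← commutatorElement_inv d, ← hSd, h.psi_sym hcC hr' hr, ← hd', ← hg] at h2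
    have hgB : g ∈ B := hg ▸ h.brB hr' (h.pi_B hcC hr)
    have hg'B : g' ∈ B := hg' ▸ h.brB hr (h.pi_B hcC hr')
    have hSB : S ∈ B := h.CC _ hrC _ hr'C
    have hPB : ⁅c, ⁅r, d'⁆⁆ ∈ B := h.CC c hcC _ (h.brC hr hr'C)
    let _ : CommGroup B :=
      { (inferInstance : Group B) with
        mul_comm := fun u v => Subtype.ext (h.cen v v.2 u (h.BC u.2)) }
    have key : g * g * (S * S * (S * S)) = g' * g' := congrArg Subtype.val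
      (commGroup_identity (⟨S, hSB⟩ : B) ⟨g, hgB⟩ ⟨g', hg'B⟩ ⟨_, hPB⟩ (Subtype.ext h1) (Subtype.ext h2))
    have e : ∀ {p x : G}, x ∈ C → ⁅p, x⁆ ∈ B → p * (x * x) = ⁅p, x⁆ * ⁅p, x⁆ * (x * x * p) := by
      intro p x hx hpx
      have e0 : p * x = ⁅p, x⁆ * (x * p) := by simp only [commutatorElement_def]; group
      rw [← mul_assoc, e0, mul_assoc, mul_assoc x, e0, h.B_mul_swap hpx hx]
      group
    have e3 : d * d * (d' * d') = S * S * (S * S) * (d' * d' * (d * d)) := by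
      have e2 := h.sq_swap hrC hr'C
      rw [← hSd] at e2
      calc d * d * (d' * d') = S * S * (d' * d * d) * d' := by rw [← mul_assoc, e2]
        _ = S * S * d' * (d * d * d') := by group
        _ = S * S * d' * (S * S * (d' * d * d)) := by rw [e2]
        _ = S * S * (d' * ((S * S) * (d' * d * d))) := by group
        _ = _ := by rw [h.B_mul_swap (B.mul_mem hSB hSB) hr'C]; group
    have L1 : d * d * q * (d' * d' * q') = g * g * (S * S * (S * S)) * (d' * d' * (d * d) * (q * q')) := by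
      calc d * d * q * (d' * d' * q') = d * d * (q * (d' * d')) * q' := by group
        _ = d * d * (g * g * (d' * d' * q)) * q' := by rw [e hr'C hgB]
        _ = g * g * (d * d * (d' * d' * q)) * q' := by
            rw [h.B_mul_swap (B.mul_mem hgB hgB) (C.mul_mem hrC hrC)]
        _ = g * g * (d * d * (d' * d')) * (q * q') := by group
        _ = _ := by rw [e3]; group
    have L2 : d' * d' * q' * (d * d * q) = g' * g' * (d' * d' * (d * d) * (q' * q)) := by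
      calc d' * d' * q' * (d * d * q) = d' * d' * (q' * (d * d)) * q := by group
        _ = d' * d' * (g' * g' * (d * d * q')) * q := by rw [e hrC hg'B]
        _ = g' * g' * (d' * d' * (d * d * q')) * q := by
            rw [h.B_mul_swap (B.mul_mem hg'B hg'B) (C.mul_mem hr'C hr'C)]
        _ = _ := by group
    rw [L1, L2, key, h.comm q hqr.1 q' hqr'.1]
  refine ⟨closure ((hSub A C c : Set G) ∪ X ∪ D ∪ Θ), commute_closure ?_, ?_, ?_, ?_, ?_, ?_⟩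
  · have hHX : ∀ k ∈ hSub A C c, ∀ x ∈ X, k * x = x * k := fun k hk x hx => hXq x hx k 1 (hHrel k hk)
    have hHD : ∀ k ∈ hSub A C c, ∀ x ∈ D, k * x = x * k := by
      rintro k hk _ ⟨s, hs, -, rfl⟩
      exact hkT k hk s hs
    have hXD : ∀ x ∈ X, ∀ y ∈ D, x * y = y * x := by
      rintro x hx _ ⟨s, hs, -, rfl⟩
      exact hXT x hx _ (br_mem_tSub hs)
    rintro x (((hx | hx) | hx) | hx) y (((hy | hy) | hy) | hy)
    · exact h.comm x hx.1 y hy.1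
    · exact hHX x hx y hy
    · exact hHD x hx y hy
    · exact hHΘ x hx y hy
    · exact (hHX y hy x hx).symm
    · exact hXX x hx y hy
    · exact hXD x hx y hy
    · exact hXΘ x hx y hy
    · exact (hHD y hy x hx).symm
    · exact (hXD y hy x hx).symm
    · exact hDD x hx y hy
    · exact hDΘ x hx y hy
    · exact (hHΘ y hy x hx).symm
    · exact (hXΘ y hy x hx).symm
    · exact (hDΘ y hy x hx).symm
    · exact hΘΘ x hx y hy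
  · exact fun k hk => subset_closure (Or.inl (Or.inl (Or.inl hk)))
  · exact fun u hu => subset_closure (Or.inl (Or.inl (Or.inr (Or.inr hu))))
  · exact fun a ha => subset_closure (Or.inl (Or.inl (Or.inr (Or.inl ⟨a, ha, rfl⟩))))
  · exact fun s hs hπ => subset_closure (Or.inl (Or.inr ⟨s, hs, hπ, rfl⟩))
  · exact fun q r hqr => subset_closure (Or.inr ⟨q, r, hqr, rfl⟩)

theorem decomp {u : G} (hu : u ∈ kSub A C (tSub A C c)) :
    ∃ r0 ∈ A, ∃ s ∈ A, ∃ σ ∈ A ⊓ C, u = ⁅c, ⁅r0, c⁆⁆ * ⁅s, c⁆ * σ := by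
  classical
  have hcC := F.good.1
  have hψ : ∀ {a b : G}, a ∈ A → b ∈ A → ⁅c, ⁅a, ⁅b, c⁆⁆⁆ ∈ A ⊓ C := fun ha hb =>
    ⟨h.psi_mem F ha hb, h.BC (h.CC c hcC _ (h.brC ha (h.brC hb hcC)))⟩
  let Aπ : Subgroup G := ofMulClosed {a | a ∈ A ∧ ⁅c, ⁅a, c⁆⁆ ∈ A} ⟨A.one_mem, by simp⟩
    fun x hx y hy => ⟨A.mul_mem hx.1 hy.1, by
      rw [h.pi_mul F hx.1 hy.1]
      exact A.mul_mem (A.mul_mem (hψ hx.1 hy.1).1 hy.2) hx.2⟩
  let R0 : Subgroup G := ofMulClosed {r | ∃ q, Rel A C c q r} ⟨1, A.one_mem, A.one_mem, by simp⟩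
    fun x hx y hy => by
      obtain ⟨q, hq⟩ := hx
      obtain ⟨q', hq'⟩ := hy
      exact ⟨q * q', h.rel_mul F hq hq'⟩
  have hAπ1 : ∀ r ∈ Aπ, Rel A C c 1 r := fun r hr => ⟨A.one_mem, hr.1, by
    rw [commutatorElement_one_left, one_mul]
    exact inv_mem (show ⁅c, ⁅r, c⁆⁆ ∈ A ⊓ C from ⟨hr.2, h.BC (h.pi_B hcC hr.1)⟩)⟩
  have hchoose : ∀ r ∈ R0, ∃ q, Rel A C c q r ∧ (r ∈ Aπ → q = 1) := by
    intro r hr
    by_cases hra : r ∈ Aπ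
    · exact ⟨1, hAπ1 r hra, fun _ => rfl⟩
    · obtain ⟨q, hq⟩ := hr
      exact ⟨q, hq, fun h' => absurd h' hra⟩
  choose! qf hqf hqf1 using hchoose
  obtain ⟨ρ0, hρ0, hρ0', -⟩ := exists_rep R0
  obtain ⟨ρ1, hρ1, hρ1', hρ11⟩ := exists_rep Aπ
  obtain ⟨ρ2, hρ2, hρ2', -⟩ := exists_rep (hSub A C c)
  have hR0A : R0 ≤ A := fun r hr => by obtain ⟨q, hq⟩ := hr; exact hq.2.1
  have hAπR : Aπ ≤ R0 := fun r hr => ⟨1, hAπ1 r hr⟩
  have hHπ : hSub A C c ≤ Aπ := fun k hk => ⟨hk.1, F.good.2 _ ((mem_hSub h).mp hk).2⟩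
  -- the four coordinates of an element of `A`
  let r0f : G → G := ρ0
  let a1f : G → G := fun a => (ρ0 a)⁻¹ * a
  let rf : G → G := fun a => ρ1 (a1f a)
  let a2f : G → G := fun a => (rf a)⁻¹ * a1f a
  let sf : G → G := fun a => ρ2 (a2f a)
  let kf : G → G := fun a => (sf a)⁻¹ * a2f a
  have hr0A : ∀ a ∈ A, r0f a ∈ A := fun a ha => by
    have : r0f a = a * (a1f a)⁻¹ := by simp only [r0f, a1f]; group
    rw [this]
    exact A.mul_mem ha (A.inv_mem (hR0A (hρ0 a)))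
  have hrR : ∀ a, rf a ∈ R0 := fun a => by
    have : rf a = a1f a * (a2f a)⁻¹ := by simp only [rf, a2f]; group
    rw [this]
    exact R0.mul_mem (hρ0 a) (R0.inv_mem (hAπR (hρ1 _)))
  have hsπ : ∀ a, sf a ∈ Aπ := fun a => by
    have : sf a = a2f a * (kf a)⁻¹ := by simp only [sf, kf]; group
    rw [this]
    exact Aπ.mul_mem (hρ1 _) (Aπ.inv_mem (hHπ (hρ2 _)))
  have hk : ∀ a, kf a ∈ hSub A C c := fun a => hρ2 _
  obtain ⟨E, hEc, hEH, hET, hEπ, hED, hEΘ⟩ := h.exists_abelian F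
  let Φ : A → E := fun a =>
    ⟨⁅rf a, c⁆ * ⁅rf a, c⁆ * qf (rf a) * ⁅c, ⁅r0f a, c⁆⁆ * ⁅sf a, c⁆ * kf a,
      E.mul_mem (E.mul_mem (E.mul_mem (hEΘ _ _ (hqf _ (hrR a))) (hEπ _ (hr0A a a.2)))
        (hED _ (hsπ a).1 (hsπ a).2)) (hEH (hk a))⟩
  let U : G → G := fun a => ⁅rf a, c⁆ * ⁅rf a, c⁆ * ⁅c, ⁅r0f a, c⁆⁆ *
    ⁅qf (rf a), ⁅sf a, c⁆⁆ * ⁅sf a, c⁆
  have hΦ : ∀ a : A, (Φ a : G) = U a * (qf (rf a) * kf a) := fun a => by
    have e := h.rel_fix_pi F (hqf _ (hrR a)) (hr0A a a.2)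
    show ⁅rf a, c⁆ * ⁅rf a, c⁆ * qf (rf a) * ⁅c, ⁅r0f a, c⁆⁆ * ⁅sf a, c⁆ * kf a = _
    rw [mul_assoc (⁅rf a, c⁆ * ⁅rf a, c⁆) (qf (rf a)), e]
    simp only [U, commutatorElement_def (qf (rf a))]
    group
  have hUC : ∀ a ∈ A, U a ∈ C := fun a ha => by
    have h1 := h.brC (hR0A (hrR a)) hcC
    exact C.mul_mem (C.mul_mem (C.mul_mem (C.mul_mem h1 h1) (h.BC (h.pi_B hcC (hr0A a ha))))
      (h.brC (hqf _ (hrR a)).1 (h.brC (hsπ a).1 hcC))) (h.brC (hsπ a).1 hcC)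
  have hφU : ∀ a ∈ A, ⁅c, U a⁆ = ⁅c, ⁅rf a, c⁆⁆ * ⁅c, ⁅rf a, c⁆⁆ * ⁅c, ⁅sf a, c⁆⁆ := fun a ha => by
    have h1 := h.brC (hR0A (hrR a)) hcC
    have h2 := h.pi_B hcC (hr0A a ha)
    have h3 : ⁅qf (rf a), ⁅sf a, c⁆⁆ ∈ B := by
      rw [h.rel_br F (hqf _ (hrR a)) (hsπ a).1]
      exact h.brB (hsπ a).1 (h.pi_B hcC (hR0A (hrR a)))
    have h11 := C.mul_mem h1 h1
    show ⁅c, ⁅rf a, c⁆ * ⁅rf a, c⁆ * ⁅c, ⁅r0f a, c⁆⁆ * ⁅qf (rf a), ⁅sf a, c⁆⁆ * ⁅sf a, c⁆⁆ = _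
    rw [h.cbr_mul_right hcC (C.mul_mem (C.mul_mem h11 (h.BC h2)) (h.BC h3)) (h.brC (hsπ a).1 hcC),
      h.cbr_mul_right hcC (C.mul_mem h11 (h.BC h2)) (h.BC h3),
      h.cbr_mul_right hcC h11 (h.BC h2), h.cbr_B hcC h2, h.cbr_B hcC h3, mul_one, mul_one,
      h.cbr_mul_right hcC h1 h1]
  have hsep : ∀ {x y : G}, x ∈ A → y ∈ A →
      (⁅c, ⁅x, c⁆⁆⁻¹ * ⁅c, ⁅y, c⁆⁆) = ⁅c, ⁅x, ⁅x⁻¹ * y, c⁆⁆⁆ * ⁅c, ⁅x⁻¹ * y, c⁆⁆ := fun {x y} hx hy => by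
    have hxy := A.mul_mem (A.inv_mem hx) hy
    have h1 := h.pi_mul F hx hxy
    rw [mul_inv_cancel_left] at h1
    rw [h1, h.cen _ (h.pi_B hcC hx) _ (C.mul_mem (hψ hx hxy).2 (h.BC (h.pi_B hcC hxy))),
      inv_mul_cancel_left]
  have hinj : Function.Injective Φ := by
    intro a a' he
    have e : U a * (qf (rf a) * kf a) = U a' * (qf (rf a') * kf a') := by
      rw [← hΦ, ← hΦ, he]
    have hqk : ∀ x, qf (rf x) * kf x ∈ A := fun x => A.mul_mem (hqf _ (hrR x)).1 (hk x).1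
    set σ := qf (rf a') * kf a' * (qf (rf a) * kf a)⁻¹ with hσd
    have eU : U a = U a' * σ := by rw [hσd, ← mul_assoc, ← e, mul_inv_cancel_right]
    have hσ : σ ∈ A ⊓ C := ⟨A.mul_mem (hqk a') (A.inv_mem (hqk a)), by
      have : σ = (U a')⁻¹ * U a := by rw [eU, inv_mul_cancel_left]
      rw [this]
      exact C.mul_mem (C.inv_mem (hUC a' a'.2)) (hUC a a.2)⟩
    have hr : rf a = rf a' := by
      have h1 := congrArg (fun z => ⁅c, z⁆) eU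
      replace h1 : ⁅c, U a⁆ = ⁅c, U a' * σ⁆ := h1
      rw [h.cbr_mul_right hcC (hUC a' a'.2) hσ.2, hφU a a.2, hφU a' a'.2] at h1
      set P := ⁅c, ⁅rf a, c⁆⁆ with hP
      set P' := ⁅c, ⁅rf a', c⁆⁆ with hP'
      have hPB := h.pi_B hcC (hR0A (hrR a))
      have hP'B := h.pi_B hcC (hR0A (hrR a'))
      rw [← hP] at hPB
      rw [← hP'] at hP'B
      have h2 : (P'⁻¹ * P) * (P'⁻¹ * P) ∈ A := by
        have e1 : (P'⁻¹ * P) * (P'⁻¹ * P) = (P' * P')⁻¹ * (P * P) := by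
          rw [show (P'⁻¹ * P) * (P'⁻¹ * P) = P'⁻¹ * (P * P'⁻¹) * P by group,
            h.cen _ (B.inv_mem hP'B) _ (h.BC hPB)]
          group
        have e2 : P * P = P' * P' * (⁅c, ⁅sf a', c⁆⁆ * ⁅c, σ⁆ * ⁅c, ⁅sf a, c⁆⁆⁻¹) := by
          rw [← mul_assoc, ← mul_assoc, ← h1, mul_inv_cancel_right]
        rw [e1, e2, inv_mul_cancel_left]
        exact A.mul_mem (A.mul_mem (hsπ a').2 (F.good.2 _ hσ)) (A.inv_mem (hsπ a).2)
      have h3 := mem_of_sq_mem h.odd h2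
      rw [hP, hP', hsep (hR0A (hrR a')) (hR0A (hrR a))] at h3
      have h4 : (rf a')⁻¹ * rf a ∈ Aπ :=
        ⟨A.mul_mem (A.inv_mem (hR0A (hrR a'))) (hR0A (hrR a)), (A.mul_mem_cancel_left (hψ (hR0A (hrR a'))
            (A.mul_mem (A.inv_mem (hR0A (hrR a'))) (hR0A (hrR a)))).1).mp h3⟩
      calc rf a = ρ1 (rf a) := hρ1' (a1f a) (rf a) (by
            simpa [rf, mul_assoc] using Aπ.inv_mem (hρ1 (a1f a)))
        _ = ρ1 (rf a') := (hρ1' _ _ h4).symm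
        _ = rf a' := (hρ1' (a1f a') (rf a') (by
            simpa [rf, mul_assoc] using Aπ.inv_mem (hρ1 (a1f a')))).symm
    have hrA := hR0A (hrR a)
    have hrC := h.brC hrA hcC
    set s := sf a with hs
    set s' := sf a' with hs'
    set g := ⁅qf (rf a), ⁅s, c⁆⁆ with hgd
    set g' := ⁅qf (rf a), ⁅s', c⁆⁆ with hgd'
    have hg : g ∈ A ⊓ C := by
      rw [hgd, h.rel_br F (hqf _ (hrR a)) (hsπ a).1]
      exact h.br_pi_mem hcC (hsπ a).1 hrA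
    have hg' : g' ∈ A ⊓ C := by
      rw [hgd', h.rel_br F (hqf _ (hrR a)) (hsπ a').1]
      exact h.br_pi_mem hcC (hsπ a').1 hrA
    have e2 : ⁅c, ⁅r0f a, c⁆⁆ * (g * ⁅s, c⁆) = ⁅c, ⁅r0f a', c⁆⁆ * (g' * ⁅s', c⁆) * σ := by
      have h1 : ⁅rf a, c⁆ * ⁅rf a, c⁆ * ⁅c, ⁅r0f a, c⁆⁆ * g * ⁅s, c⁆ =
          ⁅rf a', c⁆ * ⁅rf a', c⁆ * ⁅c, ⁅r0f a', c⁆⁆ * ⁅qf (rf a'), ⁅s', c⁆⁆ * ⁅s', c⁆ * σ := eU
      rw [← hr, ← hgd'] at h1
      simpa [mul_assoc] using h1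
    set e' := s'⁻¹ * s with he'
    have he'A : e' ∈ A := A.mul_mem (A.inv_mem (hsπ a').1) (hsπ a).1
    set k := (r0f a)⁻¹ * r0f a' with hkd
    have hkA : k ∈ A := A.mul_mem (A.inv_mem (hr0A a a.2)) (hr0A a' a'.2)
    set τ := ⁅c, ⁅r0f a, ⁅k, c⁆⁆⁆ * (g⁻¹ * g' * σ) with hτd
    have hτ : τ ∈ A ⊓ C := mul_mem (hψ (hr0A a a.2) hkA) (mul_mem (mul_mem (inv_mem hg) hg') hσ)
    have e3 : s' * ⁅e', c⁆ * s'⁻¹ = ⁅c, ⁅k, c⁆⁆ * τ := by
      have hgs : s = s' * e' := by rw [he', mul_inv_cancel_left]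
      have h2 : s' * ⁅e', c⁆ * s'⁻¹ = ⁅s, c⁆ * ⁅s', c⁆⁻¹ := by
        rw [hgs, br_mul_left s' e' c, mul_inv_cancel_right]
      have h3 : ⁅s, c⁆ = g⁻¹ * (⁅c, ⁅r0f a, c⁆⁆⁻¹ * ⁅c, ⁅r0f a', c⁆⁆) * (g' * ⁅s', c⁆) * σ := by
        have := congrArg (fun z => g⁻¹ * (⁅c, ⁅r0f a, c⁆⁆⁻¹ * z)) e2
        simp only [inv_mul_cancel_left] at this
        rw [this]; group
      have hB2 : ⁅c, ⁅k, c⁆⁆ ∈ B := h.pi_B hcC hkA
      have hB1 : ⁅c, ⁅r0f a, ⁅k, c⁆⁆⁆ ∈ B := h.CC c hcC _ (h.brC (hr0A a a.2) (h.brC hkA hcC))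
      rw [h2, h3, hsep (hr0A a a.2) (hr0A a' a'.2), ← hkd, hτd]
      have hs'C := h.brC (hsπ a').1 hcC
      rw [show g⁻¹ * (⁅c, ⁅r0f a, ⁅k, c⁆⁆⁆ * ⁅c, ⁅k, c⁆⁆) * (g' * ⁅s', c⁆) * σ * ⁅s', c⁆⁻¹ =
        g⁻¹ * (⁅c, ⁅r0f a, ⁅k, c⁆⁆⁆ * ⁅c, ⁅k, c⁆⁆) * g' * (⁅s', c⁆ * σ * ⁅s', c⁆⁻¹) by group,
        h.soc_comm F.good (br_mem_tSub (hsπ a').1) hσ, mul_inv_cancel_right,
        h.cen _ hB2 _ (h.BC hB1), h.cen _ (B.mul_mem hB2 hB1) _ (inv_mem hg.2)]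
      group
    have e4 : ⁅e', c⁆ = ⁅s'⁻¹, ⁅c, ⁅k, c⁆⁆⁆ * ⁅c, ⁅k, c⁆⁆ * τ := by
      have h1 : ⁅e', c⁆ = s'⁻¹ * (s' * ⁅e', c⁆ * s'⁻¹) * s' := by group
      have h2 : s' * τ = τ * s' := h.comm _ (hsπ a').1 τ hτ.1
      rw [h1, e3, show s'⁻¹ * (⁅c, ⁅k, c⁆⁆ * τ) * s' = s'⁻¹ * ⁅c, ⁅k, c⁆⁆ * (τ * s') by group, ← h2]
      simp only [commutatorElement_def s'⁻¹]
      group
    have hkR : k ∈ R0 := ⟨e', he'A, hkA, by
      rw [e4, mul_assoc _ ⁅c, ⁅k, c⁆⁆ τ, ← h.cen _ (h.pi_B hcC hkA) _ hτ.2, ← mul_assoc,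
        mul_inv_cancel_right]
      exact mul_mem (h.br_pi_mem hcC (A.inv_mem (hsπ a').1) hkA) hτ⟩
    have hr0 : r0f a = r0f a' := by
      calc r0f a = ρ0 (r0f a) := hρ0' (a : G) (r0f a) (by
            simpa [r0f] using R0.inv_mem (hρ0 (a : G)))
        _ = ρ0 (r0f a') := hρ0' _ _ hkR
        _ = r0f a' := (hρ0' (a' : G) (r0f a') (by
            simpa [r0f] using R0.inv_mem (hρ0 (a' : G)))).symm
    have hk1 : k = 1 := by rw [hkd, hr0, inv_mul_cancel]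
    rw [hk1] at e4
    simp at e4
    have heH : e' ∈ hSub A C c := (mem_hSub h).mpr ⟨he'A, e4 ▸ hτ⟩
    have hss : s = s' := by
      calc s = ρ2 s := hρ2' (a2f a) (sf a) (by
            simpa [sf, mul_assoc] using (hSub A C c).inv_mem (hρ2 (a2f a)))
        _ = ρ2 s' := (hρ2' _ _ heH).symm
        _ = s' := (hρ2' (a2f a') (sf a') (by
            simpa [sf, mul_assoc] using (hSub A C c).inv_mem (hρ2 (a2f a')))).symm
    have hU : U a = U a' := by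
      show ⁅rf a, c⁆ * ⁅rf a, c⁆ * ⁅c, ⁅r0f a, c⁆⁆ * ⁅qf (rf a), ⁅sf a, c⁆⁆ * ⁅sf a, c⁆ =
        ⁅rf a', c⁆ * ⁅rf a', c⁆ * ⁅c, ⁅r0f a', c⁆⁆ * ⁅qf (rf a'), ⁅sf a', c⁆⁆ * ⁅sf a', c⁆
      rw [← hr, ← hr0, ← hs, ← hs', hss]
    rw [hU, hr] at e
    have hkk : kf a = kf a' := mul_left_cancel (mul_left_cancel e)
    have hdec : ∀ x : G, r0f x * rf x * sf x * kf x = x := fun x => by
      simp only [kf, a2f, a1f, r0f]; group
    exact Subtype.ext (by rw [← hdec a, hr0, hr, ← hs, hss, hs', hkk, hdec])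
  have hsurj : Function.Surjective Φ :=
    (hinj.bijective_of_nat_card_le (h.hmax E hEc)).2
  obtain ⟨a, ha⟩ := hsurj ⟨u, hET hu⟩
  have e : u = U a * (qf (rf a) * kf a) := by rw [← hΦ, ha]
  set α := qf (rf a) * kf a with hα
  have hαA : α ∈ A ⊓ C := ⟨A.mul_mem (hqf _ (hrR a)).1 (hk a).1, by
    have : α = (U a)⁻¹ * u := by rw [e, inv_mul_cancel_left]
    rw [this]
    exact C.mul_mem (C.inv_mem (hUC a a.2)) (h.T2_le hcC hu)⟩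
  have hrπ : rf a ∈ Aπ := by
    have h1 := h.phi_T2 F hu
    rw [e, h.cbr_mul_right hcC (hUC a a.2) hαA.2, hφU a a.2] at h1
    refine ⟨hR0A (hrR a), mem_of_sq_mem h.odd ?_⟩
    have h2 := A.mul_mem (A.mul_mem h1 (A.inv_mem (F.good.2 _ hαA))) (A.inv_mem (hsπ a).2)
    rwa [mul_inv_cancel_right, mul_inv_cancel_right] at h2
  have hr1 : rf a = 1 := by
    have h1 : ρ1 (a1f a) = ρ1 (rf a) := hρ1' _ _ (by
      simpa [rf, mul_assoc] using Aπ.inv_mem (hρ1 (a1f a)))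
    exact h1.trans (hρ11 _ hrπ)
  refine ⟨r0f a, hr0A a a.2, sf a, (hsπ a).1, α, hαA, ?_⟩
  have e' : u = ⁅rf a, c⁆ * ⁅rf a, c⁆ * ⁅c, ⁅r0f a, c⁆⁆ * ⁅qf (rf a), ⁅sf a, c⁆⁆ * ⁅sf a, c⁆ * α := e
  rw [hqf1 _ (hrR a) hrπ, hr1] at e'
  simpa using e'

end Setup

end Cfsg.Agent.H32.Cubic
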