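import Cfsg.Agent.H32.CubicBasic

/-!
An abelian subgroup of largest order acting on a subgroup of class two: the two iterated
commutators killed by the starting element (helper32).
-/

set_option autoImplicit false

namespace Cfsg.Agent.H32.Cubic

open Subgroup
open scoped commutatorElement

variable {G : Type*} [Group G]

/-- The iterated preimages of `B` under commutation with `A`. -/
def nk (A C B : Subgroup G) : ℕ → Subgroup G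
  | 0 => B
  | k + 1 => pre (A : Set G) C (nk A C B k)

/-- The inductive hypothesis carried by a starting element `c`. -/
structure Chain (A C B : Subgroup G) (c : G) : Prop where
  good : Good A C c
  three : ∀ e ∈ A, ∀ b ∈ A, ∀ a ∈ A, ⁅e, ⁅b, ⁅a, c⁆⁆⁆ ∈ (A ⊓ C) ⊔ B
  form : (∃ h0 ∈ A, ∃ c0 ∈ C, c = ⁅h0, c0⁆) ∨ ∀ u ∈ C, ∀ v ∈ C, u * v = v * u

variable {A Q C B W : Subgroup G}

namespace Setup

variable (h : Setup A Q C B W)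
include h

theorem B_le_pre_A {N : Subgroup G} (hBN : B ≤ N) : B ≤ pre (A : Set G) C N :=
  fun _ hb => h.mem_pre_A hBN (h.BC hb) fun _ ha => hBN (h.brB ha hb)

theorem mem_pre_single {u v : G} {N : Subgroup G} (hu : u ∈ C) (hv : v ∈ C) (h' : ⁅u, v⁆ ∈ N) :
    v ∈ pre ({u} : Set G) C N :=
  ⟨hv, fun s hs w hw => by
    rw [Set.mem_singleton_iff.mp hs, h.conjB (h.CC u hu v hv) hw]
    exact h'⟩

omit h in
theorem br_of_mem_pre {S : Set G} {N : Subgroup G} {s u : G} (hu : u ∈ pre S C N) (hs : s ∈ S) :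
    ⁅s, u⁆ ∈ N := by
  have h1 := hu.2 s hs 1 C.one_mem
  rwa [one_mul, inv_one, mul_one] at h1

theorem B_le_pre_single {u : G} {N : Subgroup G} (hu : u ∈ C) : B ≤ pre ({u} : Set G) C N :=
  fun b hb => h.mem_pre_single hu (h.BC hb) (by rw [h.cbr_B hu hb]; exact N.one_mem)

theorem soc_le_pre_A {N : Subgroup G} (hBN : B ≤ N) : A ⊓ C ≤ pre (A : Set G) C N :=
  fun _ hs => h.mem_pre_A hBN hs.2 fun _ ha => by rw [h.fix_soc ha hs]; exact N.one_mem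

theorem B_le_nk : ∀ k, B ≤ nk A C B k
  | 0 => le_rfl
  | k + 1 => h.B_le_pre_A (B_le_nk k)

theorem nk_le_C : ∀ k, nk A C B k ≤ C
  | 0 => h.BC
  | _ + 1 => fun _ hu => hu.1

theorem mem_nk_succ {k : ℕ} {u : G} (hu : u ∈ C) (h' : ∀ a ∈ A, ⁅a, u⁆ ∈ nk A C B k) :
    u ∈ nk A C B (k + 1) := h.mem_pre_A (h.B_le_nk k) hu h'

omit h in
theorem br_nk {k : ℕ} {a u : G} (ha : a ∈ A) (hu : u ∈ nk A C B (k + 1)) : ⁅a, u⁆ ∈ nk A C B k :=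
  br_of_mem_pre hu ha

theorem mem_socB {z : G} (hz : z ∈ (A ⊓ C) ⊔ B) : ∃ s ∈ A ⊓ C, ∃ b ∈ B, z = s * b := by
  have hn : A ⊓ C ≤ normalizer (B : Set G) := fun s hs => by
    rw [mem_normalizer_iff]
    intro n
    refine ⟨fun hn => by rw [h.conjB hn hs.2]; exact hn, fun hn => ?_⟩
    have h1 := h.conjB hn (C.inv_mem hs.2)
    rw [show s⁻¹ * (s * n * s⁻¹) * s⁻¹⁻¹ = n by group] at h1
    exact h1.symm ▸ hn
  rw [← SetLike.mem_coe, coe_mul_of_left_le_normalizer_right _ _ hn] at hz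
  obtain ⟨s, hs, b, hb, rfl⟩ := hz
  exact ⟨s, hs, b, hb, rfl⟩

theorem socB_le_C : (A ⊓ C) ⊔ B ≤ C := sup_le inf_le_right h.BC

theorem br_socB {a z : G} (ha : a ∈ A) (hz : z ∈ (A ⊓ C) ⊔ B) : ⁅a, z⁆ ∈ B := by
  obtain ⟨s, hs, b, hb, rfl⟩ := h.mem_socB hz
  rw [br_mul_right, h.fix_soc ha hs, one_mul, h.conjB (h.brB ha hb) hs.2]
  exact h.brB ha hb

theorem socB_le_nk_one : (A ⊓ C) ⊔ B ≤ nk A C B 1 :=
  fun _ hz => h.mem_nk_succ (h.socB_le_C hz) fun _ ha => h.br_socB ha hz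

/-- Reversing the sign of the operator, one step up. -/
theorem flip {k : ℕ} {p u v : G} (hp : p ∈ A) (hu : u ∈ C) (hv : v ∈ nk A C B (k + 2))
    (huv : u * v ∈ nk A C B (k + 1)) : ⁅p⁻¹, u⁆⁻¹ * ⁅p, v⁆ ∈ nk A C B k := by
  set N := nk A C B k with hN
  have hvC : v ∈ C := h.nk_le_C _ hv
  have hδ : ⁅p, v⁆ ∈ nk A C B (k + 1) := br_nk hp hv
  have hδC : ⁅p, v⁆ ∈ C := h.brC hp hvC
  set n := u * v with hn
  have hnC : n ∈ C := C.mul_mem hu hvC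
  set w := v⁻¹ * ⁅p, v⁆ * v with hw
  have hwC : w ∈ C := C.mul_mem (C.mul_mem (C.inv_mem hvC) hδC) hvC
  have hw' : w = ⁅v⁻¹, ⁅p, v⁆⁆ * ⁅p, v⁆ := by rw [hw, ← conj_eq_br_mul, inv_inv]
  have hwN : w ∈ nk A C B (k + 1) := by
    rw [hw']
    exact mul_mem (h.B_le_nk _ (h.CC _ (C.inv_mem hvC) _ hδC)) hδ
  set m := ⁅p⁻¹, n⁆ with hm
  have hmN : m ∈ N := br_nk (A.inv_mem hp) huv
  set m' := ⁅p⁻¹, w⁆ with hm'
  have hm'N : m' ∈ N := br_nk (A.inv_mem hp) hwN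
  set β := ⁅v⁻¹, ⁅p, v⁆⁆ with hβ
  have hβB : β ∈ B := h.CC _ (C.inv_mem hvC) _ hδC
  have hy : m' * β * ⁅p, v⁆ ∈ C :=
    C.mul_mem (C.mul_mem (h.brC (A.inv_mem hp) hwC) (h.BC hβB)) hδC
  set M := m * (⁅n, m' * β * ⁅p, v⁆⁆ * (m' * β)) with hM
  have hMN : M ∈ N := N.mul_mem hmN (N.mul_mem (h.B_le_nk k (h.CC n hnC _ hy))
    (N.mul_mem hm'N (h.B_le_nk k hβB)))
  have hX : ⁅p⁻¹, u⁆ = M * ⁅p, v⁆ := by
    have e1 : u = n * v⁻¹ := by rw [hn, mul_inv_cancel_right]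
    have e2 : ⁅p⁻¹, v⁻¹⁆ = p⁻¹ * w * p := by rw [hw]; simp only [commutatorElement_def]; group
    have e3 : p⁻¹ * w * p = m' * β * ⁅p, v⁆ := by
      rw [mul_assoc m', ← hw', hm']
      simp only [commutatorElement_def]; group
    rw [e1, br_mul_right, e2, e3, conj_eq_br_mul n, ← hm, hM]
    group
  rw [hX, mul_inv_rev, mul_assoc]
  have hMC : M ∈ C := by
    have : M = ⁅p⁻¹, u⁆ * ⁅p, v⁆⁻¹ := by rw [hX, mul_inv_cancel_right]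
    rw [this]
    exact C.mul_mem (h.brC (A.inv_mem hp) hu) (C.inv_mem hδC)
  have h1 := h.conj_mem_of_le (h.B_le_nk k) (N.inv_mem hMN) (C.inv_mem hMC) (C.inv_mem hδC)
  simpa [mul_assoc] using h1

/-- The same with the opposite sign. -/
theorem flip' {k : ℕ} {p u v : G} (hp : p ∈ A) (hu : u ∈ C) (hv : v ∈ nk A C B (k + 2))
    (huv : u⁻¹ * v ∈ nk A C B (k + 1)) : ⁅p⁻¹, u⁆ * ⁅p, v⁆ ∈ nk A C B k := by
  have hvC : v ∈ C := h.nk_le_C _ hv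
  have h0 : u * v⁻¹ ∈ nk A C B (k + 1) := by
    have h1 := h.conj_mem_of_le (h.B_le_nk (k + 1)) (inv_mem huv)
      (C.inv_mem (C.mul_mem (C.inv_mem hu) hvC)) hvC
    simpa [mul_assoc] using h1
  have h1 := h.flip hp hu (inv_mem hv) h0
  set X := ⁅p⁻¹, u⁆ with hX
  set Y := ⁅p, v⁆ with hY
  have hXC : X ∈ C := h.brC (A.inv_mem hp) hu
  have hYC : Y ∈ C := h.brC hp hvC
  have hβ : ⁅v⁻¹, Y⁻¹⁆ ∈ B := h.CC _ (C.inv_mem hvC) _ (C.inv_mem hYC)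
  have e : ⁅p, v⁻¹⁆ = ⁅v⁻¹, Y⁻¹⁆ * Y⁻¹ := by
    rw [← conj_eq_br_mul, hY]; simp only [commutatorElement_def]; group
  rw [e, ← mul_assoc, h.cen _ hβ _ (C.inv_mem hXC), mul_assoc,
    Subgroup.mul_mem_cancel_left _ (h.B_le_nk k hβ)] at h1
  have h2 := h.conj_mem_of_le (h.B_le_nk k) (inv_mem h1)
    (C.inv_mem (C.mul_mem (C.inv_mem hXC) (C.inv_mem hYC))) hXC
  simpa [mul_assoc] using h2

theorem op_congr {p x y : G} (hp : p ∈ A) (hx : x ∈ C) (hxy : x⁻¹ * y ∈ B) :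
    ⁅p, x⁆⁻¹ * ⁅p, y⁆ ∈ B := by
  rw [show y = x * (x⁻¹ * y) by group, br_mul_right, inv_mul_cancel_left, h.conjB (h.brB hp hxy) hx]
  exact h.brB hp hxy

theorem cbr_congr {u x y : G} (hu : u ∈ C) (hx : x ∈ C) (hxy : x⁻¹ * y ∈ B) : ⁅u, x⁆ = ⁅u, y⁆ := by
  rw [show y = x * (x⁻¹ * y) by group, h.cbr_mul_right hu hx (h.BC hxy), h.cbr_B hu hxy, mul_one]

theorem swap {p q u : G} (hp : p ∈ A) (hq : q ∈ A) (hu : u ∈ C) :
    ⁅q, ⁅p, u⁆⁆⁻¹ * ⁅p, ⁅q, u⁆⁆ ∈ B := by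
  rw [h.sym hp hq, inv_mul_cancel_left]
  exact h.CC _ (h.brC hp hu) _ (h.brC hq hu)

theorem reverse4 {p q r s u : G} (hp : p ∈ A) (hq : q ∈ A) (hr : r ∈ A) (hs : s ∈ A) (hu : u ∈ C) :
    ⁅s, ⁅r, ⁅q, ⁅p, u⁆⁆⁆⁆⁻¹ * ⁅p, ⁅q, ⁅r, ⁅s, u⁆⁆⁆⁆ ∈ B := by
  have tr : ∀ {x y z : G}, x⁻¹ * y ∈ B → y⁻¹ * z ∈ B → x⁻¹ * z ∈ B := fun {x y z} h1 h2 => by
    simpa [mul_assoc] using B.mul_mem h1 h2
  have c : ∀ {a v : G}, a ∈ A → v ∈ C → ⁅a, v⁆ ∈ C := fun ha hv => h.brC ha hv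
  -- pqrs, qprs, qrps, qrsp, rqsp, rsqp, srqp
  have s1 := h.swap hp hq (c hr (c hs hu))
  have s2 := h.op_congr hq (c hr (c hp (c hs hu))) (h.swap hp hr (c hs hu))
  have s3 := h.op_congr hq (c hr (c hs (c hp hu))) (h.op_congr hr (c hs (c hp hu)) (h.swap hp hs hu))
  have s4 := h.swap hq hr (c hs (c hp hu))
  have s5 := h.op_congr hr (c hs (c hq (c hp hu))) (h.swap hq hs (c hp hu))
  have s6 := h.swap hr hs (c hq (c hp hu))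
  exact tr s6 (tr s5 (tr s4 (tr s3 (tr s2 s1))))

theorem kill_gen [Finite G] {c c0 h0 : G} (F : Chain A C B c) (h0A : h0 ∈ A) (hc0 : c0 ∈ C)
    (hc : c = ⁅h0, c0⁆) {e b a : G} (he : e ∈ A) (hb : b ∈ A) (ha : a ∈ A) :
    ⁅c0, ⁅e, ⁅b, ⁅a, c⁆⁆⁆⁆ ∈ A := by
  have hcC : c ∈ C := F.good.1
  have hn2 : ∀ b ∈ A, ∀ a ∈ A, ⁅b, ⁅a, c⁆⁆ ∈ nk A C B 2 := fun b hb a ha =>
    h.mem_nk_succ (h.brC hb (h.brC ha hcC)) fun e he => h.socB_le_nk_one (F.three e he b hb a ha)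
  have hn3 : ∀ a ∈ A, ⁅a, c⁆ ∈ nk A C B 3 := fun a ha =>
    h.mem_nk_succ (h.brC ha hcC) fun b hb => hn2 b hb a ha
  have hn4 : c ∈ nk A C B 4 := h.mem_nk_succ hcC hn3
  -- the two forms modulo `A`
  have mA : ∀ {e b a u : G}, e ∈ A → b ∈ A → a ∈ A → u ∈ C →
      ⁅⁅b⁻¹, ⁅e⁻¹, c0⁆⁆, ⁅a, u⁆⁆ * ⁅c0, ⁅e, ⁅b, ⁅a, u⁆⁆⁆⁆⁻¹ ∈ A := fun {e b a u} he hb ha hu => by
    have hy : ⁅a, u⁆ ∈ C := h.brC ha hu
    have s1 := h.shiftA (A.inv_mem he) hc0 (h.brC hb hy)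
    have s2 := h.shiftA (A.inv_mem hb) (h.brC (A.inv_mem he) hc0) hy
    rw [inv_inv] at s1 s2
    have := A.mul_mem s2 s1
    rwa [mul_assoc, inv_mul_cancel_left] at this
  set Y := ⁅e, ⁅b, ⁅a, c⁆⁆⁆ with hY
  set g1 := ⁅c0, Y⁆ with hg1
  have hM1 := mA he hb ha (u := ⁅h0, c0⁆) (by rw [← hc]; exact hcC)
  have hM2 := mA (A.inv_mem h0A) (A.inv_mem ha) (A.inv_mem hb) (u := ⁅e⁻¹, c0⁆)
    (h.brC (A.inv_mem he) hc0)
  rw [inv_inv, inv_inv] at hM2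
  rw [← hc, ← hY, ← hg1] at hM1
  rw [← hc] at hM2
  set M1 := ⁅⁅b⁻¹, ⁅e⁻¹, c0⁆⁆, ⁅a, c⁆⁆ with hM1def
  rw [← commutatorElement_inv ⁅b⁻¹, ⁅e⁻¹, c0⁆⁆ ⁅a, c⁆, ← hM1def] at hM2
  -- the second form is the first
  have hY' : ⁅c0, ⁅h0⁻¹, ⁅a⁻¹, ⁅b⁻¹, ⁅e⁻¹, c0⁆⁆⁆⁆⁆ = g1 := by
    have c' : ∀ {a v : G}, a ∈ A → v ∈ C → ⁅a, v⁆ ∈ C := fun ha hv => h.brC ha hv
    have hi : ∀ {a : G}, a ∈ A → a⁻¹ ∈ A := fun ha => A.inv_mem ha
    have r := h.reverse4 (hi he) (hi hb) (hi ha) (hi h0A) hc0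
    rw [h.cbr_congr hc0 (c' (hi h0A) (c' (hi ha) (c' (hi hb) (c' (hi he) hc0)))) r, hg1, hY]
    have hu0 : ⁅h0⁻¹, c0⁆ * c ∈ nk A C B 3 := by
      have e1 : ⁅h0⁻¹, c0⁆ * c = ⁅h0⁻¹, c⁻¹⁆ := by
        rw [hc]; simp only [commutatorElement_def]; group
      rw [e1]
      exact br_nk (hi h0A) (inv_mem hn4)
    have k1 := h.flip (k := 2) ha (c' (hi h0A) hc0) hn4 hu0
    have k2 := h.flip' (k := 1) hb (c' (hi ha) (c' (hi h0A) hc0)) (hn3 a ha) k1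
    have k3 := h.flip (k := 0) he (c' (hi hb) (c' (hi ha) (c' (hi h0A) hc0))) (hn2 b hb a ha) k2
    exact h.cbr_congr hc0 (c' (hi he) (c' (hi hb) (c' (hi ha) (c' (hi h0A) hc0)))) k3
  rw [hY'] at hM2
  have hg1B : g1 ∈ B := h.CC c0 hc0 _ (h.brC he (h.brC hb (h.brC ha hcC)))
  have hM1C : M1⁻¹ ∈ C := C.inv_mem (h.BC (h.CC _ (h.brC (A.inv_mem hb) (h.brC (A.inv_mem he) hc0)) _
    (h.brC ha hcC)))
  have h3 := A.mul_mem hM1 hM2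
  rw [show M1 * g1⁻¹ * (M1⁻¹ * g1⁻¹) = M1 * (g1⁻¹ * M1⁻¹) * g1⁻¹ by group,
    ← h.cen _ (B.inv_mem hg1B) _ hM1C, ← mul_assoc, mul_inv_cancel, one_mul] at h3
  refine mem_of_sq_mem h.odd ?_
  simpa using A.inv_mem h3

theorem T2_le {c : G} (hc : c ∈ C) : kSub A C (tSub A C c) ≤ C := h.kSub_le (h.tSub_le hc)

theorem killed [Finite G] {c : G} (F : Chain A C B c) {a u : G} (ha : a ∈ A)
    (hu : u ∈ kSub A C (tSub A C c)) : ⁅c, ⁅a, u⁆⁆ = 1 := by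
  have hcC : c ∈ C := F.good.1
  have huC : u ∈ C := h.T2_le hcC hu
  rcases F.form with ⟨h0, h0A, c0, hc0, hc⟩ | hab
  swap
  · exact br_eq_one (hab c hcC _ (h.brC ha huC))
  have hBZ : B ≤ (A ⊓ C) ⊔ B := le_sup_right
  have hy : ⁅a, u⁆ ∈ (A ⊓ C) ⊔ B := by
    have hle : kSub A C (tSub A C c) ≤ pre (A : Set G) C ((A ⊓ C) ⊔ B) := by
      refine kSub_le_iff.mpr ⟨fun b hb y hy => ?_, h.soc_le_pre_A hBZ⟩
      have hle' : tSub A C c ≤ pre (A : Set G) C (pre (A : Set G) C ((A ⊓ C) ⊔ B)) :=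
        tSub_le_iff.mpr ⟨fun a' ha' => h.mem_pre_A (h.B_le_pre_A hBZ) (h.brC ha' hcC) fun b' hb' =>
          h.mem_pre_A hBZ (h.brC hb' (h.brC ha' hcC)) fun e he => F.three e he b' hb' a' ha',
          h.soc_le_pre_A (h.B_le_pre_A hBZ)⟩
      exact br_of_mem_pre (hle' hy) hb
    exact br_of_mem_pre (hle hu) ha
  have hg : ⁅c0, ⁅a, u⁆⁆ ∈ A := by
    set N1 := pre ({c0} : Set G) C A with hN1
    have hB1 : B ≤ N1 := h.B_le_pre_single hc0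
    have hB2 : B ≤ pre (A : Set G) C N1 := h.B_le_pre_A hB1
    have hle : kSub A C (tSub A C c) ≤ pre (A : Set G) C N1 := by
      refine kSub_le_iff.mpr ⟨fun b hb y hy => ?_, h.soc_le_pre_A hB1⟩
      have hle' : tSub A C c ≤ pre (A : Set G) C (pre (A : Set G) C N1) :=
        tSub_le_iff.mpr ⟨fun a' ha' => h.mem_pre_A hB2 (h.brC ha' hcC) fun b' hb' =>
          h.mem_pre_A hB1 (h.brC hb' (h.brC ha' hcC)) fun e he =>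
            h.mem_pre_single hc0 (h.brC he (h.brC hb' (h.brC ha' hcC)))
              (h.kill_gen F h0A hc0 hc he hb' ha'), h.soc_le_pre_A hB2⟩
      exact br_of_mem_pre (hle' hy) hb
    exact br_of_mem_pre (br_of_mem_pre (hle hu) ha) (Set.mem_singleton c0)
  rw [hc, h.shift h0A hc0 (h.brC ha huC), br_eq_one (h.comm h0 h0A _ hg),
    h.cbr_B hc0 (h.br_socB (A.inv_mem h0A) hy), mul_one, mul_inv_cancel, mul_one]

end Setup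

end Cfsg.Agent.H32.Cubic
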