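import Cfsg.Agent.H32.CubicDecomp

/-!
An abelian subgroup of largest order acting on a subgroup of class two: cubic and quartic action
(helper32).
-/

set_option autoImplicit false

namespace Cfsg.Agent.H32.Cubic

open Subgroup
open scoped commutatorElement

variable {G : Type*} [Group G] {A Q C B W : Subgroup G}

namespace Setup

variable (h : Setup A Q C B W) [Finite G]
include h

theorem T2_le_socB {c : G} (F : Chain A C B c) : kSub A C (tSub A C c) ≤ (A ⊓ C) ⊔ B := by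
  have hcC := F.good.1
  set T2 := kSub A C (tSub A C c) with hT2
  have hT2T : T2 ≤ tSub A C c := h.kSub_tSub_le
  by_contra hnot
  obtain ⟨u, hu, huZ⟩ := SetLike.not_le_iff_exists.mp hnot
  obtain ⟨r0, hr0, s, hs, σ, hσ, e⟩ := h.decomp F hu
  set π := ⁅c, ⁅r0, c⁆⁆ with hπd
  set w := ⁅s, c⁆ with hwd
  have hπB : π ∈ B := h.pi_B hcC hr0
  have hwC : w ∈ C := h.brC hs hcC
  have hsQ : s ∉ Q := by
    intro hsQ
    refine huZ ?_
    rw [e]
    exact mul_mem (mem_sup_right (B.mul_mem hπB (h.hQ s hs hsQ c hcC))) (mem_sup_left hσ)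
  have hw : w = π⁻¹ * u * σ⁻¹ := by rw [e]; group
  have hwT : ∀ t ∈ tSub A C c, w * t = t * w := by
    intro t ht
    have htC := h.tSub_le hcC ht
    have h1 : Commute π⁻¹ t := (h.cen _ (B.inv_mem hπB) t htC).symm
    have h2 : Commute u t := (h.T2_central F hu ht).symm
    have h3 : Commute σ⁻¹ t := (h.soc_comm F.good ht (inv_mem hσ)).symm
    rw [hw]
    exact (h1.mul_left h2).mul_left h3
  have haw : ∀ a ∈ A, ⁅a, w⁆ ∈ kSub A C T2 := by
    intro a ha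
    have huC := h.T2_le hcC hu
    have hau := h.brC ha huC
    rw [hw, br_mul_right, h.fix_soc ha (inv_mem hσ), mul_one, mul_inv_cancel, mul_one, br_mul_right,
      show π⁻¹ * ⁅a, u⁆ * π⁻¹⁻¹ = π⁻¹ * (⁅a, u⁆ * π) by group, h.cen π hπB _ hau, inv_mul_cancel_left]
    refine mul_mem (soc_le_kSub ?_) (br_mem_kSub ha hu)
    rw [show ⁅a, π⁻¹⁆ = π⁻¹ * ⁅a, π⁆⁻¹ * π⁻¹⁻¹ by simp only [commutatorElement_def]; group,
      h.conjB (B.inv_mem (h.brB ha hπB)) (C.inv_mem (h.BC hπB))]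
    exact inv_mem (h.br_pi_mem hcC ha hr0)
  have hfix : ∀ k ∈ hSub A C w, ∀ v ∈ T2, k * v = v * k := by
    intro k hk v hv
    obtain ⟨hkA, hk2⟩ := (mem_hSub h).mp hk
    have h1 : ⁅s, ⁅k, c⁆⁆ ∈ A ⊓ C := by
      rw [h.sym hs hkA, ← hwd, br_eq_one (hwT _ (br_mem_tSub hkA)), mul_one]
      exact hk2
    have h2 := h.step_one F.good hkA hs hsQ h1
    refine h.fix_T2 F hkA (fun a ha => ?_) hv
    rw [h.sym hkA ha]
    exact mul_mem (h2 a ha) (h.delta_mul_mem F hkA ha)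
  set E := hSub A C w ⊔ T2 with hEd
  have hEc : ∀ x ∈ E, ∀ y ∈ E, x * y = y * x := by
    have hEeq : E = closure ((hSub A C w : Set G) ∪ (T2 : Set G)) := by
      rw [Subgroup.closure_union, Subgroup.closure_eq, Subgroup.closure_eq]
    rw [hEeq]
    refine commute_closure ?_
    rintro x (hx | hx) y (hy | hy)
    · exact h.comm x hx.1 y hy.1
    · exact hfix x hx y hy
    · exact (hfix y hy x hx).symm
    · exact (h.T2_central F hx (hT2T hy)).symm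
  have hHA : hSub A C w ≤ A := fun _ hk => hk.1
  have h1 : Nat.card (hSub A C w) * (A ⊓ C).relIndex T2 ≤
      Nat.card (hSub A C w) * (hSub A C w).relIndex A := by
    refine le_trans (card_mul_relIndex_le hHA (h.T2_le hcC)) ?_
    refine le_trans (h.hmax E hEc) (le_of_eq ?_)
    rw [← relIndex_bot_left (hSub A C w), relIndex_mul_relIndex ⊥ (hSub A C w) A bot_le hHA,
      relIndex_bot_left]
  have h2 := (Nat.le_of_mul_le_mul_left h1 Nat.card_pos).trans h.card_le_relIndex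
  have hTw : tSub A C w ≤ kSub A C T2 := tSub_le_iff.mpr ⟨haw, soc_le_kSub⟩
  have hK : kSub A C T2 ≤ T2 := kSub_le_iff.mpr ⟨fun a ha y hy => br_mem_kSub ha (hT2T hy), soc_le_kSub⟩
  have h3 : Nat.card T2 ≤ Nat.card (tSub A C w) := by
    rw [← relIndex_bot_left T2, ← relIndex_bot_left (tSub A C w),
      ← relIndex_mul_relIndex ⊥ (A ⊓ C) T2 bot_le soc_le_kSub,
      ← relIndex_mul_relIndex ⊥ (A ⊓ C) (tSub A C w) bot_le soc_le_tSub]
    exact Nat.mul_le_mul_left _ h2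
  have h4 := eq_of_le_of_card_ge (hTw.trans hK) h3
  exact huZ (mem_sup_left (h.descent (h4.ge.trans hTw) hu))

theorem two_mem_socB {c : G} (hc : Good A C c)
    (hform : (∃ h0 ∈ A, ∃ c0 ∈ C, c = ⁅h0, c0⁆) ∨ ∀ u ∈ C, ∀ v ∈ C, u * v = v * u) :
    ∀ b ∈ A, ∀ a ∈ A, ⁅b, ⁅a, c⁆⁆ ∈ (A ⊓ C) ⊔ B := by
  suffices key : ∀ n : ℕ, ∀ c : G, Nat.card (tSub A C c) = n → Good A C c →
      ((∃ h0 ∈ A, ∃ c0 ∈ C, c = ⁅h0, c0⁆) ∨ ∀ u ∈ C, ∀ v ∈ C, u * v = v * u) →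
      ∀ b ∈ A, ∀ a ∈ A, ⁅b, ⁅a, c⁆⁆ ∈ (A ⊓ C) ⊔ B from key _ c rfl hc hform
  intro n
  induction n using Nat.strong_induction_on with
  | _ n ih =>
  intro c hn hc hform b hb a ha
  by_cases hT : tSub A C c ≤ A ⊓ C
  · rw [h.fix_soc hb (hT (br_mem_tSub ha))]
    exact one_mem _
  have F : Chain A C B c := ⟨hc, fun e he b' hb' a' ha' => ih _ (by
    refine hn ▸ lt_of_le_of_ne (card_le_of_le (h.tSub_br_le ha')) fun e => hT ?_
    have e' : tSub A C ⁅a', c⁆ = tSub A C c := eq_of_le_of_card_ge (h.tSub_br_le ha') e.ge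
    refine h.descent ?_
    calc tSub A C c = tSub A C ⁅a', c⁆ := e'.symm
      _ ≤ kSub A C (tSub A C c) :=
        tSub_le_iff.mpr ⟨fun _ ha => br_mem_kSub ha (br_mem_tSub ha'), soc_le_kSub⟩)
    _ rfl (h.good_br ha' hc.1) (Or.inl ⟨a', ha', c, hc.1, rfl⟩) e he b' hb', hform⟩
  exact h.T2_le_socB F (br_mem_T2 hb ha)

/-- Quartic action. -/
theorem quartic {e b a a' c : G} (he : e ∈ A) (hb : b ∈ A) (ha : a ∈ A) (ha' : a' ∈ A) (hc : c ∈ C) :
    ⁅e, ⁅b, ⁅a, ⁅a', c⁆⁆⁆⁆ ∈ B :=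
  h.br_socB he (h.two_mem_socB (h.good_br ha' hc) (Or.inl ⟨a', ha', c, hc, rfl⟩) b hb a ha)

/-- Cubic action when `C` is abelian. -/
theorem cubic (hab : ∀ u ∈ C, ∀ v ∈ C, u * v = v * u) {e b a c : G} (he : e ∈ A) (hb : b ∈ A)
    (ha : a ∈ A) (hc : c ∈ C) : ⁅e, ⁅b, ⁅a, c⁆⁆⁆ ∈ B :=
  h.br_socB he (h.two_mem_socB
    ⟨hc, fun s hs => by rw [br_eq_one (hab c hc s hs.2)]; exact A.one_mem⟩ (Or.inr hab) b hb a ha)

end Setup

end Cfsg.Agent.H32.Cubic
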