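import Cfsg.Agent.H62.PermSylow

/-!
An arithmetic sieve for non-abelian simple groups: for the primes `p` dividing the order to the
first power only, the pairs (number of Sylow `p`-subgroups, centraliser order) are searched
exhaustively against commuting and element counting conditions.
-/

set_option autoImplicit false

namespace H32.ExactSieve

open Subgroup
open scoped Pointwise

/-- A candidate: prime, Sylow number, centraliser order. -/
abbrev Cand := ℕ × ℕ × ℕ

/-- All divisors (with repetitions) of a product. -/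
def divList : List ℕ → List ℕ
  | [] => [1]
  | p :: l => (divList l) ++ (divList l).map (p * ·)

theorem mem_divList : ∀ (l : List ℕ), (∀ p ∈ l, p.Prime) → ∀ d, d ∣ l.prod → d ∈ divList l
  | [], _, d, hd => by simpa [divList] using hd
  | p :: l, hl, d, hd => by
    rw [List.prod_cons] at hd
    have ih := mem_divList l (fun q hq => hl q (List.mem_cons_of_mem p hq))
    simp only [divList, List.mem_append, List.mem_map]
    by_cases hpd : p ∣ d
    · obtain ⟨d', rfl⟩ := hpd
      have hp := hl p List.mem_cons_self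
      exact Or.inr ⟨d', ih d' (Nat.dvd_of_mul_dvd_mul_left hp.pos hd), rfl⟩
    · have hp := hl p List.mem_cons_self
      exact Or.inl (ih d (((hp.coprime_iff_not_dvd.mpr hpd).symm).dvd_of_dvd_mul_left hd))

/-- Conditions on a single candidate. -/
def okOne (n p k c : ℕ) : Bool :=
  (2 ≤ k) && ((n / p) % k == 0) && (k % p == 1) && (c % p == 0) && ((n / k) % c == 0) &&
    ((p - 1) % ((n / k) / c) == 0) && ((n / k) / c != 1) &&
    (!(k < 2 * p) || (p * (p - 1) * (k - p).factorial) % (2 * (n / k)) == 0)

/-- The candidates for `p`. -/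
def opts (D : List ℕ) (n p : ℕ) : List Cand :=
  (D.filter fun k => (2 ≤ k) && (k % p == 1) && ((n / p) % k == 0)).flatMap fun k =>
    (D.filter fun c => okOne n p k c).map fun c => (p, k, c)

/-- No Sylow number other than one. -/
def forced (D : List ℕ) (z q : ℕ) : Bool :=
  D.all fun d => (d == 1) || (z % d != 0) || (d % q != 1)

/-- Conditions on a pair of candidates. -/
def okPair (D : List ℕ) (n : ℕ) (s t : Cand) : Bool :=
  match s, t with
  | (p, k, c), (q, k', c') =>
    ((c % q == 0) == (c' % p == 0)) &&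
      (!((c % q == 0) && forced D (c / (p * q)) q) || (n / k') % (n / k) == 0)

/-- No two of the primes occur in a common centraliser. -/
def indep (S : List Cand) : Bool :=
  S.all fun s => S.all fun t => (s.1 == t.1) || (s.2.2 % t.1 != 0)

/-- A lower bound for the number of elements of order divisible by one of the primes. -/
def weight (S : List Cand) : ℕ :=
  (S.map fun s => s.2.1 * (s.2.2 - s.2.2 / s.1)).sum

/-- The counting condition for all sublists containing the new candidate. -/
def okCount (n : ℕ) (h : Cand) (acc : List Cand) : Bool :=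
  acc.sublists.all fun S => !indep (h :: S) || (weight (h :: S) < n)

/-- Exhaustive search: no consistent choice of candidates. -/
def dead (D : List ℕ) (n : ℕ) : List ℕ → List Cand → Bool
  | [], _ => false
  | p :: ps, acc => (opts D n p).all fun h =>
      !(acc.all (fun t => okPair D n h t && okPair D n t h) && okCount n h acc) ||
        dead D n ps (h :: acc)

variable {G : Type*} [Group G] [Finite G]

/-- Elements of `C(P)` of order divisible by `p`. -/
def singularSet (p : ℕ) (P : Sylow p G) : Set G :=
  {x | x ∈ centralizer ((P : Subgroup G) : Set G) ∧ p ∣ orderOf x}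

variable {p : ℕ} [Fact p.Prime]

omit [Finite G] in
theorem le_centralizer_self (P : Sylow p G) (hP : Nat.card (P : Subgroup G) = p) :
    (P : Subgroup G) ≤ centralizer ((P : Subgroup G) : Set G) := by
  have := isCyclic_of_prime_card hP
  exact Subgroup.le_centralizer_iff_isMulCommutative.2 inferInstance

theorem card_singular (P : Sylow p G) (hP : Nat.card (P : Subgroup G) = p) :
    Nat.card (centralizer ((P : Subgroup G) : Set G))
      - Nat.card (centralizer ((P : Subgroup G) : Set G)) / p ≤ Nat.card (singularSet p P) := by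
  classical
  set C := centralizer ((P : Subgroup G) : Set G) with hC
  set P' := (P : Subgroup G).subgroupOf C with hP'
  have hPC : Nat.card P' = p := by
    rw [hP', Nat.card_congr (Subgroup.subgroupOfEquivOfLe (le_centralizer_self P hP)).toEquiv, hP]
  have hnorm : P'.Normal := by
    refine ⟨fun x hx g => ?_⟩
    rw [hP', Subgroup.mem_subgroupOf] at hx ⊢
    have h := Subgroup.mem_centralizer_iff.mp g.2 _ hx
    simpa [← h] using hx
  set A := {x : C | p ∣ orderOf x}
  have hA : Nat.card A = Nat.card (singularSet p P) := by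
    refine Nat.card_congr
      { toFun := fun x => ⟨x.1.1, x.1.2, by rw [Subgroup.orderOf_coe]; exact x.2⟩
        invFun := fun x => ⟨⟨x.1, x.2.1⟩, by
          show p ∣ orderOf (⟨x.1, x.2.1⟩ : C)
          rw [← Subgroup.orderOf_coe]; exact x.2.2⟩
        left_inv := fun x => rfl
        right_inv := fun x => rfl }
  have hB : Nat.card (Aᶜ : Set C) ≤ Nat.card C / p := by
    have hidx : P'.index = Nat.card C / p := by
      rw [← Subgroup.card_mul_index P', hPC, Nat.mul_div_cancel_left _ (Fact.out : p.Prime).pos]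
    rw [← hidx]
    refine Nat.card_le_card_of_injective (fun x : (Aᶜ : Set C) => (QuotientGroup.mk x.1 : C ⧸ P')) ?_
    intro x y hxy
    have hz : x.1⁻¹ * y.1 ∈ P' := QuotientGroup.eq.mp hxy
    set z := x.1⁻¹ * y.1 with hzdef
    have hzp : z ^ p = 1 := by
      have : (⟨z, hz⟩ : P') ^ Nat.card P' = 1 := pow_card_eq_one'
      rw [hPC] at this
      exact congrArg Subtype.val this
    have hcomm : Commute x.1 z := by
      rw [hP', Subgroup.mem_subgroupOf] at hz
      apply Subtype.ext
      exact (Subgroup.mem_centralizer_iff.mp x.1.2 _ hz).symm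
    apply Subtype.ext
    have hy : y.1 = x.1 * z := by rw [hzdef]; group
    by_contra hne
    have hzne : z ≠ 1 := fun h => hne (by rw [hy, h, mul_one])
    apply y.2
    show p ∣ orderOf y.1
    have hzo : orderOf z = p := orderOf_eq_prime hzp hzne
    have hcop : (orderOf x.1).Coprime (orderOf z) := by
      rw [hzo]
      exact ((Fact.out : p.Prime).coprime_iff_not_dvd.mpr x.2).symm
    rw [hy, hcomm.orderOf_mul_eq_mul_orderOf_of_coprime hcop, hzo]
    exact dvd_mul_left p _
  have hsum : Nat.card A + Nat.card (Aᶜ : Set C) = Nat.card C := by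
    rw [← Nat.card_sum]
    exact Nat.card_congr (Equiv.Set.sumCompl A)
  omega

theorem singular_unique {P P' : Sylow p G} (hP : Nat.card (P : Subgroup G) = p)
    (hP' : Nat.card (P' : Subgroup G) = p) {x : G} (h : x ∈ singularSet p P)
    (h' : x ∈ singularSet p P') : P = P' := by
  set y := x ^ (orderOf x / p) with hy
  have hord : orderOf y = p :=
    orderOf_pow_orderOf_div (orderOf_pos x).ne' h.2
  have key : ∀ (R : Sylow p G), Nat.card (R : Subgroup G) = p → x ∈ singularSet p R →
      (R : Subgroup G) = zpowers y := by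
    intro R hR hxR
    have hyC : y ∈ centralizer ((R : Subgroup G) : Set G) := pow_mem hxR.1 _
    have hyN : zpowers y ≤ normalizer ((R : Subgroup G) : Set G) :=
      (Subgroup.zpowers_le.2 hyC).trans (centralizer_le_normalizer _)
    have hp : IsPGroup p (zpowers y) :=
      IsPGroup.of_card (n := 1) (by rw [Nat.card_zpowers, hord, pow_one])
    have hsup : IsPGroup p ((zpowers y) ⊔ (R : Subgroup G) : Subgroup G) :=
      hp.to_sup_of_normal_right' R.isPGroup' hyN
    have heq := R.is_maximal' hsup le_sup_right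
    have hle : zpowers y ≤ (R : Subgroup G) := le_sup_left.trans heq.le
    exact (Subgroup.eq_of_le_of_card_ge hle (by rw [hR, Nat.card_zpowers, hord])).symm
  exact Sylow.ext ((key P hP h).trans (key P' hP' h').symm)

omit [Finite G] in
theorem mem_singular_of_dvd {P : Sylow p G} {q : ℕ} {x : G} (hx : x ∈ singularSet p P)
    (hq : q ∣ orderOf x) : q ∣ Nat.card (centralizer ((P : Subgroup G) : Set G)) :=
  hq.trans (by
    have := orderOf_dvd_natCard (⟨x, hx.1⟩ : centralizer ((P : Subgroup G) : Set G))
    rwa [← Subgroup.orderOf_coe] at this)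

/-- All Sylow `p`-subgroups have centralisers of the same order. -/
theorem card_centralizer_sylow (P P' : Sylow p G) :
    Nat.card (centralizer ((P : Subgroup G) : Set G)) =
      Nat.card (centralizer ((P' : Subgroup G) : Set G)) := by
  obtain ⟨g, hg⟩ := MulAction.exists_smul_eq G P P'
  have hmap : (centralizer ((P : Subgroup G) : Set G)).map (MulAut.conj g).toMonoidHom =
      centralizer ((P' : Subgroup G) : Set G) := by
    subst hg
    ext z
    rw [Subgroup.mem_map_equiv, MulAut.conj_symm_apply, Subgroup.mem_centralizer_iff,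
      Subgroup.mem_centralizer_iff, Sylow.coe_subgroup_smul]
    constructor
    · intro h w hw
      rw [SetLike.mem_coe, Subgroup.mem_pointwise_smul_iff_inv_smul_mem] at hw
      have hw' : g⁻¹ * w * g ∈ (P : Subgroup G) := by simpa [MulAut.smul_def] using hw
      have := h _ hw'
      calc w * z = g * ((g⁻¹ * w * g) * (g⁻¹ * z * g)) * g⁻¹ := by group
        _ = g * ((g⁻¹ * z * g) * (g⁻¹ * w * g)) * g⁻¹ := by rw [this]
        _ = z * w := by group
    · intro h w hw
      have hw' : g * w * g⁻¹ ∈ MulAut.conj g • (P : Subgroup G) := by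
        rw [Subgroup.mem_pointwise_smul_iff_inv_smul_mem]
        rw [SetLike.mem_coe] at hw
        simpa [MulAut.smul_def, mul_assoc] using hw
      have := h _ hw'
      calc w * (g⁻¹ * z * g) = g⁻¹ * ((g * w * g⁻¹) * z) * g := by group
        _ = g⁻¹ * (z * (g * w * g⁻¹)) * g := by rw [this]
        _ = g⁻¹ * z * g * w := by group
  rw [← hmap]
  exact (Subgroup.card_map_of_injective (MulAut.conj g).injective).symm

/-- The facts about a prime dividing the order exactly once. -/
structure Facts (G : Type*) [Group G] (p k c : ℕ) : Prop where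
  prime : p.Prime
  card_sylow : Nat.card (Sylow p G) = k
  card_P : ∀ P : Sylow p G, Nat.card (P : Subgroup G) = p
  card_C : ∀ P : Sylow p G, Nat.card (centralizer ((P : Subgroup G) : Set G)) = c

theorem exists_facts (hex : Nat.card G % (p * p) ≠ 0) (hd : p ∣ Nat.card G) :
    ∃ k c, Facts G p k c := by
  have hp := (Fact.out : p.Prime)
  have hcardP : ∀ P : Sylow p G, Nat.card (P : Subgroup G) = p := by
    intro P
    rw [P.card_eq_multiplicity]
    have h1 : 1 ≤ (Nat.card G).factorization p :=
      hp.factorization_pos_of_dvd Nat.card_pos.ne' hd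
    have h2 : (Nat.card G).factorization p < 2 := by
      by_contra h
      apply hex
      apply Nat.mod_eq_zero_of_dvd
      rw [← pow_two]
      exact (hp.pow_dvd_iff_le_factorization Nat.card_pos.ne').mpr (not_lt.mp h)
    rw [show (Nat.card G).factorization p = 1 by omega, pow_one]
  exact ⟨_, _, hp, rfl, hcardP, fun P => card_centralizer_sylow P default⟩

variable [IsSimpleGroup G]

theorem okOne_of_facts (hG : ¬ IsMulCommutative G) (hp2 : p ≠ 2) {k c : ℕ}
    (hd : p ∣ Nat.card G) (hex : Nat.card G % (p * p) ≠ 0) (hf : Facts G p k c) :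
    okOne (Nat.card G) p k c = true := by
  have hp := (Fact.out : p.Prime)
  obtain ⟨m, hm⟩ := hd
  have hm' : ¬ p ∣ m := by
    rintro ⟨j, rfl⟩
    exact hex (Nat.mod_eq_zero_of_dvd ⟨j, by rw [hm, mul_assoc]⟩)
  have hd : p ∣ Nat.card G := ⟨m, hm⟩
  set P : Sylow p G := default
  have hP := hf.card_P P
  have hmul := H62.card_normalizer_mul P
  rw [hf.card_sylow] at hmul
  set N := normalizer ((P : Subgroup G) : Set G)
  set C := centralizer ((P : Subgroup G) : Set G) with hCdef
  have hCN : C ≤ N := centralizer_le_normalizer _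
  have hrel : C.relIndex N ∣ p - 1 := H62.relIndex_centralizer_dvd_prime _ hP
  have hcmul : Nat.card C * C.relIndex N = Nat.card N := by
    rw [Subgroup.relIndex, ← Nat.card_congr (Subgroup.subgroupOfEquivOfLe hCN).toEquiv]
    exact Subgroup.card_mul_index _
  have hne : C.relIndex N ≠ 1 := fun h =>
    H62.not_normalizer_le_centralizer hG hd P (Subgroup.relIndex_eq_one.mp h)
  have hk0 : 0 < k := hf.card_sylow ▸ Nat.card_pos
  have hnk : Nat.card G / k = Nat.card N := by rw [← hmul, Nat.mul_div_cancel _ hk0]
  have hc := hf.card_C P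
  have hquot : Nat.card G / k / c = C.relIndex N := by
    rw [hnk, ← hcmul, ← hc, Nat.mul_div_cancel_left _ Nat.card_pos]
  simp only [okOne, Bool.and_eq_true, Bool.or_eq_true, Bool.not_eq_true', decide_eq_true_eq,
    decide_eq_false_iff_not, beq_iff_eq, bne_iff_ne]
  refine ⟨⟨⟨⟨⟨⟨⟨?_, ?_⟩, ?_⟩, ?_⟩, ?_⟩, ?_⟩, ?_⟩, ?_⟩
  · rw [← hf.card_sylow]; exact H62.one_lt_card_sylow hG hd
  · apply Nat.mod_eq_zero_of_dvd
    rw [hm, Nat.mul_div_cancel_left _ hp.pos, ← hf.card_sylow]
    exact H62.card_sylow_dvd (a := 1) (by rw [pow_one]; exact hm) hm'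
  · rw [← hf.card_sylow]; exact H62.card_sylow_mod
  · apply Nat.mod_eq_zero_of_dvd
    rw [← hc]
    exact hP.symm.dvd.trans (Subgroup.card_dvd_of_le (le_centralizer_self P hP))
  · apply Nat.mod_eq_zero_of_dvd
    rw [hnk, ← hc]
    exact Subgroup.card_dvd_of_le hCN
  · rw [hquot]; exact Nat.mod_eq_zero_of_dvd hrel
  · rw [hquot]; exact hne
  · by_cases hlt : k < 2 * p
    · right
      apply Nat.mod_eq_zero_of_dvd
      rw [hnk]
      have := H62.two_mul_card_normalizer_sylow_dvd hG hp2 P hP (by rw [hf.card_sylow]; exact hlt)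
      rwa [hf.card_sylow] at this
    · exact Or.inl hlt

omit [IsSimpleGroup G] in
theorem centralizer_dvd_symm {q : ℕ} [Fact q.Prime] {k c k' c' : ℕ} (hf : Facts G p k c)
    (hg : Facts G q k' c') (h : q ∣ c) : p ∣ c' := by
  set P : Sylow p G := default
  rw [← hf.card_C P] at h
  obtain ⟨y, hy⟩ := exists_prime_orderOf_dvd_card' q h
  have hyo : orderOf (y : G) = q := by rw [Subgroup.orderOf_coe, hy]
  obtain ⟨Q, hQ⟩ := (IsPGroup.of_card (p := q) (n := 1)
    (by rw [Nat.card_zpowers, hyo, pow_one] : Nat.card (zpowers (y : G)) = q ^ 1)).exists_le_sylow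
  have hQe : zpowers (y : G) = (Q : Subgroup G) :=
    Subgroup.eq_of_le_of_card_ge hQ (by rw [hg.card_P Q, Nat.card_zpowers, hyo])
  rw [← hg.card_C Q, ← hf.card_P P]
  apply Subgroup.card_dvd_of_le
  intro z hz
  rw [Subgroup.mem_centralizer_iff, ← hQe]
  intro w hw
  obtain ⟨i, rfl⟩ := Subgroup.mem_zpowers_iff.mp hw
  have : Commute z (y : G) := (Subgroup.mem_centralizer_iff.mp y.2 z hz)
  exact ((this.zpow_right i).eq).symm

omit [IsSimpleGroup G] in
theorem okPair_of_facts {q : ℕ} [Fact q.Prime] {k c k' c' : ℕ} (D : List ℕ)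
    (hD : ∀ d, d ∣ Nat.card G → d ∈ D) (hpq : p ≠ q) (hf : Facts G p k c)
    (hg : Facts G q k' c') :
    okPair D (Nat.card G) (p, k, c) (q, k', c') = true := by
  have hp := (Fact.out : p.Prime)
  have hq := (Fact.out : q.Prime)
  simp only [okPair, Bool.and_eq_true, Bool.or_eq_true, Bool.not_eq_true', beq_iff_eq,
    Bool.and_eq_false_iff]
  refine ⟨?_, ?_⟩
  · rw [Bool.eq_iff_iff, beq_iff_eq, beq_iff_eq, ← Nat.dvd_iff_mod_eq_zero,
      ← Nat.dvd_iff_mod_eq_zero]
    exact ⟨centralizer_dvd_symm hf hg, centralizer_dvd_symm hg hf⟩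
  by_cases hqc : c % q = 0
  swap
  · exact Or.inl (Or.inl (by simpa using hqc))
  by_cases hfor : forced D (c / (p * q)) q = true
  swap
  · exact Or.inl (Or.inr (by simpa using hfor))
  refine Or.inr ?_
  set P : Sylow p G := default
  set C := centralizer ((P : Subgroup G) : Set G) with hC
  set N := normalizer ((P : Subgroup G) : Set G) with hN
  have hqC : q ∣ Nat.card C := by
    rw [hf.card_C P]; exact Nat.dvd_of_mod_eq_zero hqc
  set R : Sylow q C := default with hRdef
  have hRc : Nat.card (R : Subgroup C) = q := by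
    refine ((Nat.dvd_prime hq).mp ?_).resolve_left ?_
    · obtain ⟨Q, hQ⟩ := (R.isPGroup'.map C.subtype).exists_le_sylow
      rw [← Subgroup.card_map_of_injective C.subtype_injective]
      exact (Subgroup.card_dvd_of_le hQ).trans (hg.card_P Q).dvd
    · intro h1
      exact R.ne_bot_of_dvd_card hqC (Subgroup.card_eq_one.mp h1)
  have hfix : Nat.card (Sylow q C) = 1 := by
    have hzC : ((P : Subgroup G).subgroupOf C) ≤ normalizer ((R : Subgroup C) : Set C) := by
      refine le_trans ?_ (Subgroup.center_le_normalizer _)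
      intro x hx
      rw [Subgroup.mem_center_iff]
      intro y
      apply Subtype.ext
      exact ((Subgroup.mem_centralizer_iff.mp y.2) _ hx).symm
    have hpN : p ∣ Nat.card (normalizer ((R : Subgroup C) : Set C)) := by
      refine dvd_trans ?_ (Subgroup.card_dvd_of_le hzC)
      rw [Nat.card_congr
        (Subgroup.subgroupOfEquivOfLe (le_centralizer_self P (hf.card_P P))).toEquiv, hf.card_P P]
    have hqN : q ∣ Nat.card (normalizer ((R : Subgroup C) : Set C)) := by
      conv_lhs => rw [← hRc]
      exact Subgroup.card_dvd_of_le (R : Subgroup C).le_normalizer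
    have hpqN : p * q ∣ Nat.card (normalizer ((R : Subgroup C) : Set C)) :=
      ((Nat.coprime_primes hp hq).mpr hpq).mul_dvd_of_dvd_of_dvd hpN hqN
    have hz : Nat.card (Sylow q C) ∣ c / (p * q) := by
      obtain ⟨j, hj⟩ := hpqN
      rw [← hf.card_C P, ← hC, ← H62.card_normalizer_mul R, hj, mul_assoc,
        Nat.mul_div_cancel_left _ (Nat.mul_pos hp.pos hq.pos)]
      exact dvd_mul_left _ _
    have hdD : Nat.card (Sylow q C) ∈ D :=
      hD _ (hz.trans ((Nat.div_dvd_of_dvd (by
        rw [← hf.card_C P, ← hC, ← H62.card_normalizer_mul R]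
        exact hpqN.mul_right _)).trans (hf.card_C P ▸ Subgroup.card_subgroup_dvd_card C)))
    rw [forced, List.all_eq_true] at hfor
    have := hfor _ hdD
    simpa [Nat.mod_eq_zero_of_dvd hz, H62.card_sylow_mod] using this
  have : Subsingleton (Sylow q C) := (Nat.card_eq_one_iff_unique.mp hfix).1
  have hchar := R.characteristic_of_normal
    (Subgroup.normalizer_eq_top_iff.mp ((H62.card_sylow_eq_one_iff R).mp hfix))
  set Q := (R : Subgroup C).map C.subtype with hQ
  have hQc : Nat.card Q = q := by
    rw [hQ, Subgroup.card_map_of_injective C.subtype_injective, hRc]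
  obtain ⟨Qs, hQs⟩ := (IsPGroup.of_card (p := q) (n := 1) (by rw [hQc, pow_one])).exists_le_sylow
  have hQe : Q = (Qs : Subgroup G) :=
    Subgroup.eq_of_le_of_card_ge hQs (by rw [hg.card_P Qs, hQc])
  have hNQ : N ≤ normalizer (Q : Set G) := by
    intro g hg'
    have hgC : ∀ x ∈ C, g * x * g⁻¹ ∈ C := by
      intro x hx
      rw [Subgroup.mem_centralizer_iff]
      intro w hw
      have hw' : g⁻¹ * w * g ∈ (P : Subgroup G) := by
        have := (Subgroup.mem_normalizer_iff''.mp hg' w).mp hw
        exact this
      have := Subgroup.mem_centralizer_iff.mp hx _ hw'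
      calc w * (g * x * g⁻¹) = g * ((g⁻¹ * w * g) * x) * g⁻¹ := by group
        _ = g * (x * (g⁻¹ * w * g)) * g⁻¹ := by rw [this]
        _ = g * x * g⁻¹ * w := by group
    have hgC' : ∀ x ∈ C, g⁻¹ * x * g ∈ C := by
      intro x hx
      rw [Subgroup.mem_centralizer_iff]
      intro w hw
      have hw' : g * w * g⁻¹ ∈ (P : Subgroup G) := (Subgroup.mem_normalizer_iff.mp hg' w).mp hw
      have := Subgroup.mem_centralizer_iff.mp hx _ hw'
      calc w * (g⁻¹ * x * g) = g⁻¹ * ((g * w * g⁻¹) * x) * g := by group
        _ = g⁻¹ * (x * (g * w * g⁻¹)) * g := by rw [this]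
        _ = g⁻¹ * x * g * w := by group
    let φ : MulAut C :=
      { toFun := fun x => ⟨g * x * g⁻¹, hgC x x.2⟩
        invFun := fun x => ⟨g⁻¹ * x * g, hgC' x x.2⟩
        left_inv := fun x => by apply Subtype.ext; simp [mul_assoc]
        right_inv := fun x => by apply Subtype.ext; simp [mul_assoc]
        map_mul' := fun x y => by apply Subtype.ext; simp [mul_assoc] }
    have hfixR := Subgroup.characteristic_iff_map_eq.mp hchar φ
    rw [Subgroup.mem_normalizer_iff]
    intro z
    constructor
    · rintro ⟨r, hr, rfl⟩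
      have : φ r ∈ (R : Subgroup C) := hfixR ▸ Subgroup.mem_map_of_mem φ.toMonoidHom hr
      exact ⟨φ r, this, rfl⟩
    · rintro ⟨r, hr, hrz⟩
      have hr' : r ∈ (R : Subgroup C).map φ.toMonoidHom := hfixR.symm ▸ hr
      obtain ⟨r', hr', rfl⟩ := hr'
      refine ⟨r', hr', ?_⟩
      have h2 : g * (r' : G) * g⁻¹ = g * z * g⁻¹ := hrz
      exact mul_left_cancel (mul_right_cancel h2)
  apply Nat.mod_eq_zero_of_dvd
  have h1 := H62.card_normalizer_mul P
  have h2 := H62.card_normalizer_mul Qs
  rw [hf.card_sylow] at h1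
  rw [hg.card_sylow] at h2
  rw [← h1, Nat.mul_div_cancel _ (hf.card_sylow ▸ Nat.card_pos)]
  nth_rw 1 [h1, ← h2]
  rw [Nat.mul_div_cancel _ (hg.card_sylow ▸ Nat.card_pos)]
  rw [← hQe]
  exact Subgroup.card_dvd_of_le hNQ

omit [Fact p.Prime] [IsSimpleGroup G] in
theorem weight_lt (k c : ℕ → ℕ) (S : List ℕ) (hnd : S.Nodup)
    (hf : ∀ p ∈ S, Facts G p (k p) (c p))
    (hind : indep (S.map fun p => (p, k p, c p)) = true) :
    weight (S.map fun p => (p, k p, c p)) < Nat.card G := by
  classical
  have := Fintype.ofFinite G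
  let U : ℕ → Finset G := fun p => Finset.univ.filter fun x =>
    ∃ P : Sylow p G, x ∈ singularSet p P
  have hU : ∀ p ∈ S, k p * (c p - c p / p) ≤ (U p).card := by
    intro p hp
    have := Fact.mk (hf p hp).prime
    have := Fintype.ofFinite (Sylow p G)
    let T : Sylow p G → Finset G := fun P => Finset.univ.filter fun x => x ∈ singularSet p P
    have hsub : (Finset.univ.biUnion T) ⊆ U p := by
      intro x hx
      simp only [Finset.mem_biUnion, Finset.mem_univ, true_and, T, Finset.mem_filter] at hx
      simpa [U] using hx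
    refine le_trans ?_ (Finset.card_le_card hsub)
    rw [Finset.card_biUnion]
    · refine le_trans (le_of_eq ?_) (Finset.sum_le_sum (f := fun _ => c p - c p / p)
        (fun P _ => ?_))
      · rw [Finset.sum_const, smul_eq_mul, Finset.card_univ, ← Nat.card_eq_fintype_card,
          (hf p hp).card_sylow]
      · have := card_singular P ((hf p hp).card_P P)
        rw [(hf p hp).card_C P] at this
        refine this.trans (le_of_eq ?_)
        rw [Nat.card_eq_fintype_card, Fintype.card_subtype]
    · intro P _ P' _ hne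
      rw [Function.onFun, Finset.disjoint_left]
      intro x hx hx'
      simp only [T, Finset.mem_filter, Finset.mem_univ, true_and] at hx hx'
      exact hne (singular_unique ((hf p hp).card_P P) ((hf p hp).card_P P') hx hx')
  have hdis : (S.toFinset : Set ℕ).PairwiseDisjoint U := by
    intro p hp q hq hpq
    rw [List.coe_toFinset] at hp hq
    rw [Function.onFun, Finset.disjoint_left]
    intro x hx hx'
    simp only [U, Finset.mem_filter, Finset.mem_univ, true_and] at hx hx'
    obtain ⟨P, hP⟩ := hx
    obtain ⟨Q, hQ⟩ := hx'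
    have := Fact.mk (hf p hp).prime
    have hdvd := mem_singular_of_dvd hP hQ.2
    rw [(hf p hp).card_C P] at hdvd
    rw [indep, List.all_eq_true] at hind
    have h1 := hind _ (List.mem_map.mpr ⟨p, hp, rfl⟩)
    rw [List.all_eq_true] at h1
    have h2 := h1 _ (List.mem_map.mpr ⟨q, hq, rfl⟩)
    simp [hpq, Nat.mod_eq_zero_of_dvd hdvd] at h2
  have hone : (1 : G) ∉ S.toFinset.biUnion U := by
    simp only [Finset.mem_biUnion, not_exists, not_and, U, Finset.mem_filter, Finset.mem_univ,
      true_and]
    intro p hp P hP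
    have h1 := hP.2
    rw [orderOf_one] at h1
    exact (hf p (List.mem_toFinset.mp hp)).prime.one_lt.ne' (Nat.dvd_one.mp h1)
  have hlt : (S.toFinset.biUnion U).card < Nat.card G := by
    rw [Nat.card_eq_fintype_card]
    exact Finset.card_lt_univ_of_notMem hone
  rw [Finset.card_biUnion hdis] at hlt
  refine lt_of_le_of_lt ?_ hlt
  rw [weight, List.map_map, ← List.sum_toFinset _ hnd]
  exact Finset.sum_le_sum fun p hp => hU p (List.mem_toFinset.mp hp)

omit [Fact p.Prime] in
theorem false_of_dead (hG : ¬ IsMulCommutative G) (D : List ℕ)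
    (hD : ∀ d, d ∣ Nat.card G → d ∈ D) (ps : List ℕ) (hps : ps.Nodup)
    (hpr : ∀ p ∈ ps, p.Prime ∧ p ≠ 2 ∧ p ∣ Nat.card G ∧ Nat.card G % (p * p) ≠ 0)
    (h : dead D (Nat.card G) ps [] = true) : False := by
  classical
  have hex : ∀ p : ℕ, ∃ kc : ℕ × ℕ, p ∈ ps → Facts G p kc.1 kc.2 := by
    intro p
    by_cases hp : p ∈ ps
    · have := Fact.mk (hpr p hp).1
      obtain ⟨k, c, hkc⟩ := exists_facts (G := G) (p := p) (hpr p hp).2.2.2 (hpr p hp).2.2.1
      exact ⟨(k, c), fun _ => hkc⟩
    · exact ⟨(0, 0), fun h => absurd h hp⟩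
  choose kc hkc using hex
  let t : ℕ → Cand := fun p => (p, (kc p).1, (kc p).2)
  suffices H : ∀ (l qs : List ℕ), (l ++ qs).Nodup → (∀ p ∈ l ++ qs, p ∈ ps) →
      dead D (Nat.card G) l (qs.map t) = true → False from
    H ps [] (by simpa using hps) (by simp) (by simpa using h)
  intro l
  induction l with
  | nil => intro qs _ _ hdead; simp [dead] at hdead
  | cons p l ih =>
    intro qs hnd hsub hdead
    have hp : p ∈ ps := hsub p (by simp)
    have := Fact.mk (hpr p hp).1
    obtain ⟨hp1, hp2, hp3, hp4⟩ := hpr p hp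
    have hok := okOne_of_facts hG hp2 hp3 hp4 (hkc p hp)
    rw [dead, List.all_eq_true] at hdead
    have hmem : t p ∈ opts D (Nat.card G) p := by
      simp only [opts, List.mem_flatMap, List.mem_map, List.mem_filter, t]
      have hok' := hok
      simp only [okOne, Bool.and_eq_true, Bool.or_eq_true, beq_iff_eq] at hok'
      obtain ⟨⟨⟨⟨⟨⟨⟨a1, a2⟩, a3⟩, a4⟩, a5⟩, -⟩, -⟩, -⟩ := hok'
      have hk : (kc p).1 ∣ Nat.card G :=
        (Nat.dvd_of_mod_eq_zero a2).trans (Nat.div_dvd_of_dvd hp3)
      exact ⟨(kc p).1, ⟨hD _ hk, by simp [a1, a2, a3]⟩, (kc p).2,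
        ⟨hD _ ((Nat.dvd_of_mod_eq_zero a5).trans (Nat.div_dvd_of_dvd hk)), hok⟩, rfl⟩
    have h' := hdead _ hmem
    have hpq : ∀ q ∈ qs, q ≠ p := by
      intro q hq he
      subst he
      simp at hnd
      exact hnd.1.2 hq
    have hndqs : (p :: qs).Nodup := by
      simp [List.nodup_append] at hnd ⊢
      exact ⟨fun hq => hpq p hq rfl, hnd.2.2.1⟩
    have c1 : (qs.map t).all (fun s => okPair D (Nat.card G) (t p) s &&
        okPair D (Nat.card G) s (t p)) = true := by
      rw [List.all_eq_true]
      intro s hs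
      obtain ⟨q, hq, rfl⟩ := List.mem_map.mp hs
      have hq' : q ∈ ps := hsub q (by simp [hq])
      have := Fact.mk (hpr q hq').1
      rw [Bool.and_eq_true]
      exact ⟨okPair_of_facts D hD (hpq q hq).symm (hkc p hp) (hkc q hq'),
        okPair_of_facts D hD (hpq q hq) (hkc q hq') (hkc p hp)⟩
    have c2 : okCount (Nat.card G) (t p) (qs.map t) = true := by
      rw [okCount, List.all_eq_true]
      intro S hS
      rw [List.mem_sublists, List.sublist_map_iff] at hS
      obtain ⟨S', hS', rfl⟩ := hS
      by_cases hind : indep (t p :: S'.map t) = true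
      swap
      · simp [Bool.eq_false_iff.mpr hind]
      have hw := weight_lt (G := G) (fun r => (kc r).1) (fun r => (kc r).2) (p :: S')
        ((hS'.cons₂ p).nodup hndqs)
        (fun r hr => hkc r (by
          rcases List.mem_cons.mp hr with rfl | hr
          · exact hp
          · exact hsub r (by simp [hS'.subset hr]))) (by simpa [t] using hind)
      simp only [Bool.or_eq_true, decide_eq_true_eq]
      exact Or.inr (by simpa [t] using hw)
    simp only [c1, c2, Bool.and_self, Bool.not_true, Bool.false_or] at h'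
    exact ih (p :: qs) (List.nodup_middle.mpr (by simpa using hnd)) (by
      intro r hr
      apply hsub
      simp only [List.mem_append, List.mem_cons] at hr ⊢
      rcases hr with h | h | h
      · exact Or.inl (Or.inr h)
      · exact Or.inl (Or.inl h)
      · exact Or.inr h) (by simpa using h')

end H32.ExactSieve
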