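import Cfsg.Agent.H32.F4Base
import Cfsg.Agent.H53.FieldAut
import Cfsg.Agent.H33.TwoSubspaces

/-!
Field automorphisms of ²F₄(q).
-/

set_option autoImplicit false
set_option linter.unusedSectionVars false

namespace H32.FF

open Cfsg.Lie H52 H53 H53.F4T

variable {K : Type*} [Field K] [Fintype K] {m : ℕ}

theorem map_wordMat_f4 (σ : K ≃+* K) (w : List (ℕ × K)) :
    (chevF4.wordMat K w).map σ = chevF4.wordMat K (w.map fun q => (q.1, σ q.2)) := by
  induction w with
  | nil => simp [ChevalleyDatum.wordMat]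
  | cons a w ih =>
    simp only [ChevalleyDatum.wordMat, List.map_cons, List.prod_cons] at ih ⊢
    rw [Matrix.map_mul, ih, chev_x_map]

theorem glMap_rt (σ : K ≃+* K) (r : ℕ) (t : K) :
    glMapEquiv σ (rt chevF4 r t) = rt chevF4 r (σ t) := by
  apply Units.ext
  rw [glMapEquiv_coe, checkedF4.coe_rt, checkedF4.coe_rt, chev_x_map]

theorem glMap_twisted (σ : K ≃+* K) {g : GL chevF4.Idx K} (hg : g ∈ twistedF4 K (2 ^ m)) :
    glMapEquiv σ g ∈ twistedF4 K (2 ^ m) := by
  have h : (twistedF4 K (2 ^ m)).map (glMapEquiv σ).toMonoidHom ≤ twistedF4 K (2 ^ m) := by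
    refine (Subgroup.map_le_iff_le_comap).2 ((Subgroup.closure_le _).2 fun g hg => ?_)
    show glMapEquiv σ g ∈ twistedF4 K (2 ^ m)
    rcases gen_eq hg with ⟨ab, hab, t, rfl⟩ | ⟨z, hz, t, u, rfl⟩
    · rw [map_mul, glMap_rt, glMap_rt, map_pow]
      exact pair_mem _ (by simpa using hab) _
    · rw [yWord, map_mul, map_mul, map_mul, glMap_rt, glMap_rt, glMap_rt, glMap_rt, map_add, map_pow,
        map_pow, map_pow]
      exact class_mem _ hz _ _
  exact h (Subgroup.mem_map_of_mem _ hg)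

/-- The field automorphism. -/
noncomputable def fld (m : ℕ) (σ : K ≃+* K) : MulAut ↥(FG K m) where
  toFun g := mkG (glMapEquiv σ (val g)) (glMap_twisted σ g.2)
  invFun g := mkG (glMapEquiv σ.symm (val g)) (glMap_twisted σ.symm g.2)
  left_inv g := gext (Units.ext (Matrix.ext fun _ _ => σ.symm_apply_apply _))
  right_inv g := gext (Units.ext (Matrix.ext fun _ _ => σ.apply_symm_apply _))
  map_mul' g h := gext (map_mul (glMapEquiv σ) _ _)

theorem fld_mul (σ τ : K ≃+* K) : fld m (σ * τ) = fld m σ * fld m τ :=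
  MulEquiv.ext fun _ => gext (Units.ext (Matrix.ext fun _ _ => rfl))

/-- The homomorphism. -/
noncomputable def fldHom (m : ℕ) : (K ≃+* K) →* MulAut ↥(FG K m) := MonoidHom.mk' (fld m) fld_mul

theorem fld_P0 (σ : K ≃+* K) (t : K) : fld m σ (P0 m t) = P0 m (σ t) := by
  apply gext
  show glMapEquiv σ (val (P0 m t)) = _
  rw [val_P0, val_P0, map_mul, glMap_rt, glMap_rt, map_pow]

theorem fld_P1 (σ : K ≃+* K) (t u : K) : fld m σ (P1 m t u) = P1 m (σ t) (σ u) := by
  apply gext
  show glMapEquiv σ (val (P1 m t u)) = _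
  rw [val_P1, val_P1, map_mul, map_mul, map_mul, glMap_rt, glMap_rt, glMap_rt, glMap_rt, map_add,
    map_pow, map_pow, map_pow]

theorem glMap_pos (σ : K ≃+* K) {g : GL chevF4.Idx K} (hg : g ∈ chevF4.posUnipotent K) :
    glMapEquiv σ g ∈ chevF4.posUnipotent K := by
  have h : (chevF4.posUnipotent K).map (glMapEquiv σ).toMonoidHom ≤ chevF4.posUnipotent K := by
    refine (Subgroup.map_le_iff_le_comap).2 ((Subgroup.closure_le _).2 ?_)
    rintro g ⟨r, t, hr, hg⟩
    refine Subgroup.subset_closure ⟨r, σ t, hr, ?_⟩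
    show ((glMapEquiv σ g : GL chevF4.Idx K) : Matrix chevF4.Idx chevF4.Idx K) = _
    rw [glMapEquiv_coe, hg, chev_x_map]
  exact h (Subgroup.mem_map_of_mem _ hg)

theorem glMap_neg (σ : K ≃+* K) {g : GL chevF4.Idx K} (hg : g ∈ chevF4.negUnipotent K) :
    glMapEquiv σ g ∈ chevF4.negUnipotent K := by
  have h : (chevF4.negUnipotent K).map (glMapEquiv σ).toMonoidHom ≤ chevF4.negUnipotent K := by
    refine (Subgroup.map_le_iff_le_comap).2 ((Subgroup.closure_le _).2 ?_)
    rintro g ⟨r, t, hr, hg⟩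
    refine Subgroup.subset_closure ⟨r, σ t, hr, ?_⟩
    show ((glMapEquiv σ g : GL chevF4.Idx K) : Matrix chevF4.Idx chevF4.Idx K) = _
    rw [glMapEquiv_coe, hg, chev_x_map]
  exact h (Subgroup.mem_map_of_mem _ hg)

variable (hK : Fintype.card K = 2 ^ (2 * m + 1))
include hK

theorem fld_U (σ : K ≃+* K) :
    (TwistFrame.frame (hT hK)).U.map (fld m σ).toMonoidHom = (TwistFrame.frame (hT hK)).U := by
  apply le_antisymm
  · rintro _ ⟨g, hg, rfl⟩
    exact (mem_pos_iff checkedF4 weylForF4 _).1 (glMap_pos σ ((mem_pos_iff checkedF4 weylForF4 _).2 hg))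
  · intro g hg
    refine ⟨fld m σ.symm g, ?_, gext (Units.ext (Matrix.ext fun _ _ => σ.apply_symm_apply _))⟩
    exact (mem_pos_iff checkedF4 weylForF4 _).1
      (glMap_pos σ.symm ((mem_pos_iff checkedF4 weylForF4 _).2 hg))

theorem fld_V (σ : K ≃+* K) :
    (TwistFrame.frame (hT hK)).V.map (fld m σ).toMonoidHom = (TwistFrame.frame (hT hK)).V := by
  apply le_antisymm
  · rintro _ ⟨g, hg, rfl⟩
    exact (mem_neg_iff checkedF4 weylForF4 _).1 (glMap_neg σ ((mem_neg_iff checkedF4 weylForF4 _).2 hg))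
  · intro g hg
    refine ⟨fld m σ.symm g, ?_, gext (Units.ext (Matrix.ext fun _ _ => σ.apply_symm_apply _))⟩
    exact (mem_neg_iff checkedF4 weylForF4 _).1
      (glMap_neg σ.symm ((mem_neg_iff checkedF4 weylForF4 _).2 hg))

/-- A field automorphism which is inner is trivial. -/
theorem fld_not_inner {σ : K ≃+* K} {g : ↥(FG K m)} (h : MulAut.conj g = fld m σ) : σ = 1 := by
  have hg : g ∈ (TwistFrame.frame (hT hK)).H := by
    refine (TwistFrame.mem_H_iff (hT hK) (extra hK)).2 ⟨?_, ?_⟩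
    · exact (congrArg (fun φ : MulAut ↥(FG K m) =>
        (TwistFrame.frame (hT hK)).U.map φ.toMonoidHom) h).trans (fld_U hK σ)
    · exact (congrArg (fun φ : MulAut ↥(FG K m) =>
        (TwistFrame.frame (hT hK)).V.map φ.toMonoidHom) h).trans (fld_V hK σ)
  obtain ⟨a, b, rfl⟩ := exists_hab hK hg
  have key : ∀ t : K, σ t = (a : K) * t := by
    intro t
    have h1 : MulAut.conj (hab hK a b) (P0 m t) = fld m σ (P0 m t) := by rw [h]
    rw [MulAut.conj_apply, hab_conj_P0, fld_P0] at h1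
    exact (P0_inj hK h1).symm
  ext t
  have h1 := key 1
  rw [map_one, mul_one] at h1
  rw [key t, ← h1, one_mul]
  rfl

theorem card_field : Nat.card (K ≃+* K) = 2 * m + 1 := by
  haveI : Fact (Nat.Prime 2) := ⟨Nat.prime_two⟩
  exact H33.TwoSub.card_ringEquiv (p := 2) K (by rw [Nat.card_eq_fintype_card, hK])

end H32.FF
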