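import Cfsg.Agent.H32.F4Field

/-!
Every automorphism of ²F₄(q) is a field automorphism times an inner one.
-/

set_option autoImplicit false
set_option linter.unusedSectionVars false
set_option maxRecDepth 4000
set_option backward.isDefEq.respectTransparency false

namespace H32.FF

open Cfsg.Lie H52 H53 H53.F4T

variable {K : Type*} [Field K] [Fintype K] {m : ℕ} (hK : Fintype.card K = 2 ^ (2 * m + 1))
include hK

theorem pow_succ_e_eq_one {x : K} (hx : x ≠ 0) (h : x ^ (2 ^ m + 1) = 1) : x = 1 := by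
  have h1 : x ^ (2 * 2 ^ m) * x ^ 2 = 1 := by
    rw [← pow_add, show 2 * 2 ^ m + 2 = (2 ^ m + 1) * 2 by ring, pow_mul, h, one_pow]
  have h2 : ((x ^ (2 * 2 ^ m)) ^ 2 ^ m) = x := by
    have := he hK x
    rw [← pow_mul x (2 ^ m) 2, mul_comm (2 ^ m) 2] at this
    exact this
  have h3 : x * (x ^ 2) ^ 2 ^ m = 1 := by
    have := congrArg (· ^ 2 ^ m) h1
    simp only [mul_pow, one_pow, h2] at this
    exact this
  -- `x = (x²)^(-e)` and `x^e = x⁻¹`
  have he' : x ^ 2 ^ m * x = 1 := by rw [← pow_succ]; exact h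
  have h4 : (x ^ 2) ^ 2 ^ m * x ^ 2 = 1 := by
    rw [← pow_mul, mul_comm 2 (2 ^ m), pow_mul, ← mul_pow, he', one_pow]
  have h5 : x * 1 = 1 * x ^ 2 := by
    calc x * 1 = x * ((x ^ 2) ^ 2 ^ m * x ^ 2) := by rw [h4]
      _ = (x * (x ^ 2) ^ 2 ^ m) * x ^ 2 := by ring
      _ = _ := by rw [h3]
  rw [mul_one, one_mul, sq] at h5
  exact (mul_eq_left₀ hx).1 h5.symm

theorem sqmap_bijective : Function.Bijective fun a : Kˣ => a ^ (2 ^ m + 1) := by
  refine Finite.injective_iff_bijective.1 fun a b h => ?_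
  have h1 : ((a / b : Kˣ) : K) ^ (2 ^ m + 1) = 1 := by
    rw [← Units.val_pow_eq_pow_val, div_pow]
    rw [show a ^ (2 ^ m + 1) = b ^ (2 ^ m + 1) from h, div_self', Units.val_one]
  exact div_eq_one.1 (Units.ext (pow_succ_e_eq_one hK (Units.ne_zero _) h1))

/-- Every nonzero element is a power `t ^ (e+1)`. -/
theorem exists_root (u : K) : ∃ t, t ^ (2 ^ m + 1) = u := by
  by_cases hu : u = 0
  · exact ⟨0, by rw [hu, zero_pow (Nat.succ_ne_zero _)]⟩
  · obtain ⟨a, ha⟩ := (sqmap_bijective hK).2 (Units.mk0 u hu)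
    exact ⟨a, by simpa using congrArg Units.val ha⟩

theorem exists_not_fixed (hm : 1 ≤ m) : ∃ x : K, x ^ 2 ^ m ≠ x := by
  by_contra hno
  push Not at hno
  have hall : ∀ x : K, x = 0 ∨ x = 1 := by
    intro x
    have h := he hK x
    rw [hno, hno] at h
    rcases eq_or_ne x 0 with hx | hx
    · exact Or.inl hx
    · rw [sq] at h; exact Or.inr ((mul_eq_left₀ hx).1 h)
  classical
  have : Fintype.card K ≤ 2 := by
    calc Fintype.card K = (Finset.univ : Finset K).card := rfl
      _ ≤ ({0, 1} : Finset K).card := Finset.card_le_card fun x _ => by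
          rcases hall x with h | h <;> simp [h]
      _ ≤ 2 := Finset.card_le_two
  rw [hK] at this
  have : 2 ^ 3 ≤ 2 ^ (2 * m + 1) := Nat.pow_le_pow_right (by norm_num) (by omega)
  omega

set_option maxHeartbeats 1000000 in
/-- Automorphism decomposition. -/
theorem aut_decomp (hm : 1 ≤ m) (α : MulAut ↥(FG K m)) :
    ∃ (g : ↥(FG K m)) (σ : K ≃+* K), α = MulAut.conj g * fld m σ := by
  classical
  haveI : Fact (Nat.Prime 2) := ⟨Nat.prime_two⟩
  obtain ⟨P, hP⟩ := exists_sylow hK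
  obtain ⟨x₀, π, hU, hV, hπ⟩ := TwistFrame.exists_norm_perm (hT hK) (extra hK) P hP α
  set x : ↥(FG K m) := x₀ with hx
  set θ : ↥(FG K m) ≃* ↥(FG K m) := α.trans (MulAut.conj x⁻¹) with hθ
  have hU : (TwistFrame.frame (hT hK)).U.map θ.toMonoidHom = (TwistFrame.frame (hT hK)).U := hU
  have hV : (TwistFrame.frame (hT hK)).V.map θ.toMonoidHom = (TwistFrame.frame (hT hK)).V := hV
  have hq : 2 ≤ Fintype.card K := Fintype.one_lt_card
  -- the two classes cannot be exchanged
  have hπ0 : π 0 = 0 := by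
    by_contra hne
    have h1 : π 0 = 1 := by omega
    have h2 := (hπ 0).1
    rw [h1] at h2
    have h3 := congrArg (fun S : Subgroup ↥(FG K m) => Nat.card ↥S) h2
    have h4 : Nat.card ↥(TwistFrame.XG (TD hK) 0) = Nat.card ↥(TwistFrame.XG (TD hK) 1) :=
      (Subgroup.card_map_of_injective θ.injective).symm.trans h3
    rw [card_X0 hK, card_X1 hK, sq] at h4
    nlinarith
  have hπ1 : π 1 = 1 := by
    have : π 1 ≠ π 0 := fun h => by simpa using π.injective h
    omega
  have hX : ∀ k, ((TwistFrame.frame (hT hK)).X k).map θ.toMonoidHom = (TwistFrame.frame (hT hK)).X k ∧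
      ((TwistFrame.frame (hT hK)).Xn k).map θ.toMonoidHom = (TwistFrame.frame (hT hK)).Xn k := by
    intro k
    have hk : π k = k := by fin_cases k <;> assumption
    have := hπ k
    rw [hk] at this
    exact this
  have hH : ∀ a b, ∃ a' b', θ (hab hK a b) = hab hK a' b' := fun a b =>
    exists_hab hK (TwistFrame.map_H (hT hK) (extra hK) hU hV (hab_mem hK a b))
  choose A B hAB using hH
  have h0 : ∀ t, ∃ t', θ (P0 m t) = P0 m t' := fun t =>
    (mem_X0 hK).1 ((hX 0).1 ▸ ⟨P0 m t, (mem_X0 hK).2 ⟨t, rfl⟩, rfl⟩ :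
      θ (P0 m t) ∈ (TwistFrame.frame (hT hK)).X 0)
  choose φ hφ using h0
  have hφadd : ∀ s t, φ (s + t) = φ s + φ t := fun s t => P0_inj hK (by
    rw [← hφ, ← P0_mul hK, map_mul, hφ, hφ, P0_mul hK])
  have hφinj : Function.Injective φ := fun s t h =>
    P0_inj hK (θ.injective (by rw [hφ, hφ, h]))
  have hφ0 : φ 0 = 0 := by simpa using hφadd 0 0
  have hφA : ∀ (a b : Kˣ) t, φ ((a : K) * t) = (A a b : K) * φ t := fun a b t => P0_inj hK (by
    rw [← hφ, ← hab_conj_P0 hK a b, map_mul, map_mul, map_inv, hAB, hφ, hab_conj_P0 hK])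
  have hc0 : φ 1 ≠ 0 := fun h => one_ne_zero (hφinj (h.trans hφ0.symm))
  -- the second class
  have h1 : ∀ t u, ∃ t' u', θ (P1 m t u) = P1 m t' u' := fun t u =>
    (mem_X1 hK).1 ((hX 1).1 ▸ ⟨P1 m t u, (mem_X1 hK).2 ⟨t, u, rfl⟩, rfl⟩ :
      θ (P1 m t u) ∈ (TwistFrame.frame (hT hK)).X 1)
  choose F1 G1' hF using h1
  have hsq : ∀ t : K, P1 m t 0 * P1 m t 0 = P1 m 0 (t ^ (2 ^ m + 1)) := fun t => by
    rw [P1_mul hK, pow_succ, add_zero, zero_add,
      show t + t = 0 by linear_combination t * h2 hK]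
  have hF0 : ∀ u, F1 0 u = 0 := by
    intro u
    obtain ⟨t, rfl⟩ := exists_root hK u
    have := hF 0 (t ^ (2 ^ m + 1))
    rw [← hsq, map_mul, hF, P1_mul hK] at this
    obtain ⟨e1, -⟩ := P1_inj hK this
    rw [← e1]
    linear_combination F1 t 0 * h2 hK
  set ψ : K → K := fun t => F1 t 0 with hψ
  have hFt : ∀ t u, F1 t u = ψ t := by
    intro t u
    have h := hF t u
    rw [show P1 m t u = P1 m t 0 * P1 m 0 u by rw [P1_mul hK]; simp, map_mul, hF, hF, P1_mul hK] at h
    obtain ⟨e1, -⟩ := P1_inj hK h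
    rw [← e1, hF0, add_zero]
  have hψadd : ∀ s t, ψ (s + t) = ψ s + ψ t := by
    intro s t
    have h := congrArg θ (P1_mul hK (m := m) s 0 t 0)
    rw [map_mul, hF, hF, hF, P1_mul hK] at h
    obtain ⟨e1, -⟩ := P1_inj hK h
    rw [hFt, hFt, hFt] at e1
    exact e1.symm
  have hψ0 : ψ 0 = 0 := by simpa using hψadd 0 0
  have hψker : ∀ t, ψ t = 0 → t = 0 := by
    intro t ht
    have h : θ (P1 m t 0 * P1 m t 0) = 1 := by
      rw [map_mul, hF, P1_mul hK, show F1 t 0 = 0 from ht]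
      simp only [zero_pow (pow_ne_zero m two_ne_zero), zero_mul, add_zero]
      rw [show G1' t 0 + G1' t 0 = 0 by linear_combination (G1' t 0) * h2 hK]
      exact P1_zero hK
    rw [← map_one θ] at h
    have h' := θ.injective h
    rw [hsq, ← P1_zero hK] at h'
    exact (pow_eq_zero_iff (Nat.succ_ne_zero _)).1 (P1_inj hK h').2
  have hψB : ∀ (a b : Kˣ) t, ψ ((b : K) * t) = (B a b : K) * ψ t := by
    intro a b t
    have h := congrArg θ (hab_conj_P1 hK a b t 0)
    rw [map_mul, map_mul, map_inv, hAB, hF, hab_conj_P1 hK, mul_zero, hF] at h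
    exact (P1_inj hK h).1.symm
  have hc1 : ψ 1 ≠ 0 := fun h => one_ne_zero (hψker 1 h)
  -- the two field automorphisms
  set σf : K → K := fun t => φ t / φ 1 with hσf
  set τf : K → K := fun t => ψ t / ψ 1 with hτf
  have hA : ∀ a b : Kˣ, (A a b : K) = σf a := by
    intro a b
    have := hφA a b 1
    rw [mul_one] at this
    simp only [hσf]
    rw [this, mul_div_cancel_right₀ _ hc0]
  have hB : ∀ a b : Kˣ, (B a b : K) = τf b := by
    intro a b
    have := hψB a b 1
    rw [mul_one] at this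
    simp only [hτf]
    rw [this, mul_div_cancel_right₀ _ hc1]
  have hmulσ : ∀ s t, σf (s * t) = σf s * σf t := by
    intro s t
    by_cases hs : s = 0
    · simp [hσf, hs, hφ0]
    · have := hφA (Units.mk0 s hs) 1 t
      rw [hA, Units.val_mk0] at this
      simp only [hσf] at this ⊢
      rw [this]; field_simp
  -- the reflection links them
  have hlink : ∀ t, τf t = σf t := by
    intro t
    by_cases ht : t = 0
    · simp [hσf, hτf, ht, hφ0, hψ0]
    · set a := Units.mk0 t ht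
      have h := TwistFrame.reflect_conj (hT hK) (extra hK) hU hV (hX 0).1 (hX 0).2 (hab_mem hK a 1)
      have h' : θ (s0 hK * hab hK a 1 * (s0 hK)⁻¹) = s0 hK * θ (hab hK a 1) * (s0 hK)⁻¹ := h
      rw [s0_conj hK, hAB, hAB, s0_conj hK, mul_one] at h'
      have h3 := congrArg (fun g => g * P1 m 1 0 * g⁻¹) h'
      simp only [hab_conj_P1 hK] at h3
      have h4 := (P1_inj hK h3).1
      rw [mul_one, mul_one, Units.val_mul, hB, hA, hB, Units.val_one] at h4
      have : τf 1 = 1 := by simp [hτf, hc1]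
      rw [this, mul_one] at h4
      exact h4
  obtain ⟨σ, hσ⟩ : ∃ σ : K ≃+* K, ∀ t, σ t = σf t := by
    have hinj : Function.Injective σf := fun s t h => hφinj (by
      simp only [hσf] at h
      exact (div_left_inj' hc0).1 h)
    refine ⟨{ Equiv.ofBijective σf (Finite.injective_iff_bijective.1 hinj) with
      map_mul' := hmulσ
      map_add' := fun s t => by show σf (s + t) = σf s + σf t; simp only [hσf, hφadd, add_div] }, fun t => rfl⟩
  -- normalise
  set h := hab hK (Units.mk0 _ hc0) (Units.mk0 _ hc1) with hh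
  set β : ↥(FG K m) ≃* ↥(FG K m) := ((fld m σ.symm).trans θ).trans (MulAut.conj h⁻¹) with hβ
  have hβe : ∀ g, β g = h⁻¹ * θ (fld m σ.symm g) * h := fun g => by simp [hβ]
  have key0 : ∀ t, β (P0 m t) = P0 m t := by
    intro t
    rw [hβe, fld_P0, hφ]
    have e1 : φ (σ.symm t) = φ 1 * t := by
      have := hσ (σ.symm t)
      rw [RingEquiv.apply_symm_apply] at this
      simp only [hσf] at this
      rw [eq_div_iff hc0] at this
      rw [← this]; ring
    have e2 := hab_conj_P0 hK (Units.mk0 _ hc0) (Units.mk0 _ hc1) t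
    rw [Units.val_mk0, ← e1, ← hh] at e2
    rw [← e2]; group
  have keyψ : ∀ t, ψ (σ.symm t) = ψ 1 * t := by
    intro t
    have := hlink (σ.symm t)
    rw [← hσ, RingEquiv.apply_symm_apply] at this
    simp only [hτf] at this
    rw [div_eq_iff hc1] at this
    rw [this]; ring
  have keyH : ∀ a b, β (hab hK a b) = hab hK a b := by
    intro a b
    -- both act in the same way on the two classes
    have hU' : (TwistFrame.frame (hT hK)).U.map β.toMonoidHom = (TwistFrame.frame (hT hK)).U := by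
      have : β.toMonoidHom = ((MulAut.conj h⁻¹).toMonoidHom.comp θ.toMonoidHom).comp
          (fld m σ.symm).toMonoidHom := rfl
      rw [this, ← Subgroup.map_map, fld_U hK, ← Subgroup.map_map, hU]
      exact (TwistFrame.frame_hyp (hT hK) (extra hK)).H_U _ (inv_mem (hab_mem hK _ _))
    have hV' : (TwistFrame.frame (hT hK)).V.map β.toMonoidHom = (TwistFrame.frame (hT hK)).V := by
      have : β.toMonoidHom = ((MulAut.conj h⁻¹).toMonoidHom.comp θ.toMonoidHom).comp
          (fld m σ.symm).toMonoidHom := rfl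
      rw [this, ← Subgroup.map_map, fld_V hK, ← Subgroup.map_map, hV]
      exact (TwistFrame.frame_hyp (hT hK) (extra hK)).H_V _ (inv_mem (hab_mem hK _ _))
    obtain ⟨a', b', hab0⟩ := exists_hab hK (TwistFrame.map_H (hT hK) (extra hK) hU' hV' (hab_mem hK a b))
    have hab' : β (hab hK a b) = hab hK a' b' := hab0
    have e1 := congrArg β (hab_conj_P0 hK a b (1 : K))
    rw [map_mul, map_mul, map_inv, hab', key0, key0, hab_conj_P0 hK] at e1
    have ha : a' = a := Units.ext (by simpa using P0_inj hK e1)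
    have e2 := congrArg β (hab_conj_P1 hK a b (1 : K) 0)
    have hb1 : ∀ t, ∃ u, β (P1 m t 0) = P1 m t u := by
      intro t
      have e3 := hab_conj_P1 hK (Units.mk0 _ hc0)⁻¹ (Units.mk0 _ hc1)⁻¹ (ψ (σ.symm t)) (G1' (σ.symm t) (σ.symm 0))
      have hinv : hab hK (Units.mk0 _ hc0)⁻¹ (Units.mk0 _ hc1)⁻¹ = h⁻¹ := by
        apply eq_inv_of_mul_eq_one_left
        rw [hh, hab_mul hK, inv_mul_cancel, inv_mul_cancel, hab_one hK]
      rw [hinv, inv_inv, keyψ, Units.val_inv_eq_inv_val, Units.val_mk0, inv_mul_cancel_left₀ hc1] at e3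
      exact ⟨_, by rw [hβe, fld_P1, hF, hFt, keyψ]; exact e3⟩
    obtain ⟨u1, hu1⟩ := hb1 1
    obtain ⟨u2, hu2⟩ := hb1 ((b : K) * 1)
    rw [map_mul, map_mul, map_inv, hab', hu1, mul_zero, hu2, hab_conj_P1 hK] at e2
    have hb : b' = b := Units.ext (by simpa using (P1_inj hK e2).1)
    rw [hab', ha, hb]
  have hβ1 : ∀ t, ∃ u, β (P1 m t 0) = P1 m t u := by
    intro t
    have e3 := hab_conj_P1 hK (Units.mk0 _ hc0)⁻¹ (Units.mk0 _ hc1)⁻¹ (ψ (σ.symm t)) (G1' (σ.symm t) (σ.symm 0))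
    have hinv : hab hK (Units.mk0 _ hc0)⁻¹ (Units.mk0 _ hc1)⁻¹ = h⁻¹ := by
      apply eq_inv_of_mul_eq_one_left
      rw [hh, hab_mul hK, inv_mul_cancel, inv_mul_cancel, hab_one hK]
    rw [hinv, inv_inv, keyψ, Units.val_inv_eq_inv_val, Units.val_mk0, inv_mul_cancel_left₀ hc1] at e3
    exact ⟨_, by rw [hβe, fld_P1, hF, hFt, keyψ]; exact e3⟩
  choose g hg using hβ1
  have hgw : ∀ (b : Kˣ) t, g ((b : K) * t) = (b : K) ^ (2 ^ m + 1) * g t := by
    intro b t
    have e := congrArg β (hab_conj_P1 hK 1 b t 0)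
    rw [map_mul, map_mul, map_inv, keyH, hg, mul_zero, hg, hab_conj_P1 hK] at e
    exact (P1_inj hK e).2.symm
  have hsqb : ∀ t, β (P1 m 0 (t ^ (2 ^ m + 1))) = P1 m 0 (t ^ (2 ^ m + 1)) := by
    intro t
    rw [← hsq, map_mul, hg, P1_mul hK, P1_mul hK]
    congr 1
    linear_combination (g t) * h2 hK
  have hgadd : ∀ s t, g (s + t) = g s + g t := by
    intro s t
    obtain ⟨r, hr⟩ := exists_root hK (s ^ 2 ^ m * t)
    have e : P1 m s 0 * P1 m t 0 = P1 m (s + t) 0 * P1 m 0 (r ^ (2 ^ m + 1)) := by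
      rw [P1_mul hK, P1_mul hK, hr]; simp
    have e2 := congrArg β e
    rw [map_mul, map_mul, hg, hg, hg, hsqb, P1_mul hK, P1_mul hK] at e2
    have h3 := (P1_inj hK e2).2
    simp only [mul_zero, add_zero, hr] at h3
    exact (add_right_cancel h3).symm
  have hg0 : ∀ t, g t = 0 := by
    have hlin : ∀ t : K, g t = g 1 * t ^ (2 ^ m + 1) := by
      intro t
      by_cases ht : t = 0
      · have : g 0 = 0 := by simpa using hgadd 0 0
        rw [ht, this, zero_pow (Nat.succ_ne_zero _), mul_zero]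
      · have := hgw (Units.mk0 t ht) 1
        rw [Units.val_mk0, mul_one] at this
        rw [this, mul_comm]
    obtain ⟨x0, hx0⟩ := exists_not_fixed hK hm
    have hsum := hgadd x0 1
    rw [hlin (x0 + 1), hlin x0, pow_succ, pow_succ, add_pow_e hK, one_pow] at hsum
    have hk : g 1 * (x0 ^ 2 ^ m + x0) = 0 := by linear_combination hsum
    rcases mul_eq_zero.1 hk with h0 | h0
    · intro t; rw [hlin t, h0, zero_mul]
    · exact absurd (by linear_combination h0 - x0 * h2 hK : x0 ^ 2 ^ m = x0) hx0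
  have key1 : ∀ t u, β (P1 m t u) = P1 m t u := by
    intro t u
    obtain ⟨r, rfl⟩ := exists_root hK u
    rw [show P1 m t (r ^ (2 ^ m + 1)) = P1 m t 0 * P1 m 0 (r ^ (2 ^ m + 1)) by
      rw [P1_mul hK]; simp, map_mul, hg, hg0, hsqb]
  -- `β` fixes everything
  have hU' : (TwistFrame.frame (hT hK)).U.map β.toMonoidHom = (TwistFrame.frame (hT hK)).U := by
    have : β.toMonoidHom = ((MulAut.conj h⁻¹).toMonoidHom.comp θ.toMonoidHom).comp
        (fld m σ.symm).toMonoidHom := rfl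
    rw [this, ← Subgroup.map_map, fld_U hK, ← Subgroup.map_map, hU]
    exact (TwistFrame.frame_hyp (hT hK) (extra hK)).H_U _ (inv_mem (hab_mem hK _ _))
  have hV' : (TwistFrame.frame (hT hK)).V.map β.toMonoidHom = (TwistFrame.frame (hT hK)).V := by
    have : β.toMonoidHom = ((MulAut.conj h⁻¹).toMonoidHom.comp θ.toMonoidHom).comp
        (fld m σ.symm).toMonoidHom := rfl
    rw [this, ← Subgroup.map_map, fld_V hK, ← Subgroup.map_map, hV]
    exact (TwistFrame.frame_hyp (hT hK) (extra hK)).H_V _ (inv_mem (hab_mem hK _ _))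
  have hXfix : ∀ (k : Fin 2), ∀ y ∈ TwistFrame.XG (TD hK) k, β y = y := by
    intro k y hy
    fin_cases k
    · obtain ⟨t, rfl⟩ := (mem_X0 hK).1 hy; exact key0 t
    · obtain ⟨t, u, rfl⟩ := (mem_X1 hK).1 hy; exact key1 t u
  obtain ⟨π', hπ'⟩ := H13.EA.Frame.exists_perm (TwistFrame.frame_hyp (hT hK) (extra hK)) hU' hV'
  have hXn : ∀ k, ((TwistFrame.frame (hT hK)).Xn k).map β.toMonoidHom = (TwistFrame.frame (hT hK)).Xn k := by
    intro k
    have h1 : (TwistFrame.frame (hT hK)).X (π' k) = (TwistFrame.frame (hT hK)).X k := by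
      rw [← (hπ' k).1]
      apply le_antisymm
      · rintro _ ⟨y, hy, rfl⟩
        exact (hXfix k y hy).symm ▸ hy
      · intro y hy; exact ⟨y, hy, hXfix k y hy⟩
    rw [(hπ' k).2, H13.EA.Frame.X_injective (TwistFrame.frame_hyp (hT hK) (extra hK)) h1]
  have hXnfix : ∀ (k : Fin 2), ∀ y ∈ (TwistFrame.frame (hT hK)).Xn k, β y = y := by
    intro k y hy
    refine TwistFrame.fix_Xn (hT hK) (extra hK) hU' hV' (hXn k) ?_ (hXfix k) ?_ hy
    · intro z hz
      obtain ⟨a, b, rfl⟩ := exists_hab hK hz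
      exact keyH a b
    · intro z hz hcen
      obtain ⟨x0, hx0⟩ := exists_not_fixed hK hm
      have hx00 : x0 ≠ 0 := fun e => hx0 (by rw [e, zero_pow (pow_ne_zero m two_ne_zero)])
      have hx01 : x0 ≠ 1 := fun e => hx0 (by rw [e, one_pow])
      fin_cases k
      · obtain ⟨t, rfl⟩ := (mem_X0 hK).1 hz
        have := hcen _ (hab_mem hK (Units.mk0 x0 hx00) 1)
        rw [hab_conj_P0 hK, Units.val_mk0] at this
        have ht : t = 0 := by
          by_contra ht
          exact hx01 ((mul_eq_right₀ ht).1 (P0_inj hK this))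
        rw [ht, P0_zero hK]
      · obtain ⟨t, u, rfl⟩ := (mem_X1 hK).1 hz
        have := hcen _ (hab_mem hK 1 (Units.mk0 x0 hx00))
        rw [hab_conj_P1 hK, Units.val_mk0] at this
        obtain ⟨e1, e2⟩ := P1_inj hK this
        have ht : t = 0 := by
          by_contra ht
          exact hx01 ((mul_eq_right₀ ht).1 e1)
        have hu : u = 0 := by
          by_contra hu
          exact hx01 (pow_succ_e_eq_one hK hx00 ((mul_eq_right₀ hu).1 e2))
        rw [ht, hu, P1_zero hK]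
  set sF : Fin 2 → ↥(FG K m) := fun k => TwistFrame.sG (hT hK) k with hsF
  have hall : ∀ y : ↥(FG K m), β y = y := by
    set Fx : Subgroup ↥(FG K m) := β.toMonoidHom.eqLocus (MonoidHom.id _) with hFx
    have hneg : ∀ (k : Fin 2) (y : ↥(FG K m)), y ∈ TwistFrame.XG (TD hK) k →
        sF k * y * (sF k)⁻¹ ∈ Fx := by
      intro k y hy
      refine hXnfix k _ ⟨(sF k * sF k) * y *
        (sF k * sF k)⁻¹, ?_, ?_⟩
      · refine TwistFrame.conj_H_Uinv (hT hK) ?_ _ hy
        refine RootGroupSys.mem_H_of_acts_one (hT hK).ax (hT hK).sep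
          (mul_mem ((hT hK).m_N k) ((hT hK).m_N k)) ?_
        have := RootGroupSys.acts_mul ((hT hK).m_acts k) ((hT hK).m_acts k)
        rwa [show (TD hK).w k * (TD hK).w k = 1 from Equiv.ext fun r => (hT hK).w_sq k r] at this
      · show (sF k)⁻¹ * ((sF k * sF k) * y * (sF k * sF k)⁻¹) * (sF k)⁻¹⁻¹ = sF k * y * (sF k)⁻¹
        group
    suffices Fx = ⊤ by intro y; exact (this ▸ Subgroup.mem_top y : y ∈ Fx)
    rw [eq_top_iff]
    rintro ⟨⟨y, hyC⟩, hyT⟩ -
    have key : twistedF4 K (2 ^ m) ≤ Fx.map ((chevF4.group K).subtype.comp (FG K m).subtype) := by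
      refine (Subgroup.closure_le _).2 fun z hz => ?_
      rcases gen_eq hz with ⟨ab, hab', t, rfl⟩ | ⟨w, hw, t, u, rfl⟩
      · simp only [List.mem_cons, List.not_mem_nil, or_false] at hab'
        rcases hab' with rfl | rfl
        · exact ⟨P0 m t, key0 t, rfl⟩
        · refine ⟨sF 0 * P0 m t * (sF 0)⁻¹,
            hneg 0 _ ((mem_X0 hK).2 ⟨t, rfl⟩), ?_⟩
          show (mk K 0 : GL chevF4.Idx K) * (rt chevF4 33 (t ^ 2 ^ m) * rt chevF4 24 t) *
            (mk K 0 : GL chevF4.Idx K)⁻¹ = _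
          rw [← conj_mul, show (0 : Fin 2) = Fin.ofNat 2 0 from rfl, mk_conj (h2 hK) (b := 14) (by simp),
            mk_conj (h2 hK) (b := 23) (by simp)]
      · simp only [List.mem_cons, List.not_mem_nil, or_false] at hw
        rcases hw with rfl | rfl
        · exact ⟨P1 m t u, key1 t u, rfl⟩
        · refine ⟨sF 1 * P1 m t u * (sF 1)⁻¹,
            hneg 1 _ ((mem_X1 hK).2 ⟨t, u, rfl⟩), ?_⟩
          show (mk K 1 : GL chevF4.Idx K) * (rt chevF4 27 (t ^ 2 ^ m) * rt chevF4 25 t *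
            rt chevF4 28 (t ^ (2 ^ m + 1) + u) * rt chevF4 30 (u ^ (2 * 2 ^ m))) *
            (mk K 1 : GL chevF4.Idx K)⁻¹ = _
          rw [← conj_mul, ← conj_mul, ← conj_mul, show (1 : Fin 2) = Fin.ofNat 2 1 from rfl,
            mk_conj (h2 hK) (b := 20) (by simp), mk_conj (h2 hK) (b := 22) (by simp),
            mk_conj (h2 hK) (b := 19) (by simp), mk_conj (h2 hK) (b := 17) (by simp)]
          rfl
    obtain ⟨z, hz, hze⟩ := key hyT
    have : z = ⟨⟨y, hyC⟩, hyT⟩ := gext hze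
    rwa [← this]
  -- assemble
  refine ⟨x * h, σ, MulEquiv.ext fun y => ?_⟩
  have e := hall (fld m σ y)
  rw [hβe] at e
  have e2 : fld m σ.symm (fld m σ y) = y :=
    gext (Units.ext (Matrix.ext fun _ _ => σ.symm_apply_apply _))
  rw [e2, hθ] at e
  show α y = (x * h) * fld m σ y * (x * h)⁻¹
  rw [← e]
  show α y = (x * h) * (h⁻¹ * (x⁻¹ * α y * x⁻¹⁻¹) * h) * (x * h)⁻¹
  group

end H32.FF
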