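import Mathlib

/-!
A norm relation for a cyclic group acting freely on an abelian group of operators of order prime to
`p`: the group of operators acts trivially.
-/

set_option autoImplicit false

open scoped Pointwise

namespace H32.FreeAbelian

variable {H : Type*} [Group H] {M : Type*} [CommGroup M] (ρ : H →* MulAut M)

theorem conj_pow_mem {x : H} {Q : Subgroup H} (hx : ∀ g ∈ Q, x * g * x⁻¹ ∈ Q) (i : ℕ) :
    ∀ g ∈ Q, x ^ i * g * (x ^ i)⁻¹ ∈ Q := by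
  induction i with
  | zero => intro g hg; simpa using hg
  | succ i ih =>
    intro g hg
    have := hx _ (ih g hg)
    rw [pow_succ']
    simpa [mul_assoc] using this

/-- The elimination step. -/
theorem fixed_of_relation {x : H} {Q : Subgroup H} (hx : ∀ g ∈ Q, x * g * x⁻¹ ∈ Q)
    (hcomm : ∀ a ∈ Q, ∀ b ∈ Q, a * b = b * a) {N : ℕ}
    (hfree : ∀ g ∈ Q, ∀ j : ℕ, 0 < j → j < N → ∃ u ∈ Q, g = u⁻¹ * (x ^ j * u * (x ^ j)⁻¹))
    (hfix : ∀ g ∈ Q, ∀ w : M, ρ g (ρ g w / w) = ρ g w / w → ρ g w = w) :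
    ∀ (k : ℕ) (S : Finset ℕ), S.card = k → 0 ∈ S → (∀ i ∈ S, i < N) →
      ∀ A : ℕ → M →* M, (∀ i, ∀ g ∈ Q, ∀ v, A i (ρ g v) = ρ g (A i v)) →
        (∀ v, ∏ i ∈ S, A i (ρ (x ^ i) v) = 1) → ∀ g ∈ Q, ∀ v, ρ g (A 0 v) = A 0 v := by
  intro k
  induction k using Nat.strong_induction_on with
  | _ k ih =>
  intro S hk h0 hlt A hA hrel g hg v
  by_cases hS : ∃ j ∈ S, j ≠ 0
  swap
  · simp only [not_exists, not_and, not_not] at hS
    have hSe : S = {0} := Finset.eq_singleton_iff_unique_mem.mpr ⟨h0, hS⟩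
    have h1 := hrel v
    rw [hSe, Finset.prod_singleton, pow_zero, map_one, MulAut.one_apply] at h1
    rw [h1, map_one]
  obtain ⟨j, hjS, hj0⟩ := hS
  obtain ⟨u, hu, hgu⟩ := hfree g hg j (Nat.pos_of_ne_zero hj0) (hlt j hjS)
  set s : ℕ → H := fun i => x ^ i * u * (x ^ i)⁻¹ with hs
  have hsQ : ∀ i, s i ∈ Q := fun i => conj_pow_mem hx i u hu
  let B : ℕ → M →* M := fun i =>
    ((ρ (s i)).toMonoidHom.comp (A i)) / ((ρ (s j)).toMonoidHom.comp (A i))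
  have hBapp : ∀ i w, B i w = ρ (s i) (A i w) / ρ (s j) (A i w) := fun i w => rfl
  have hB : ∀ i, ∀ h ∈ Q, ∀ w, B i (ρ h w) = ρ h (B i w) := by
    intro i h hh w
    have hsw : ∀ a ∈ Q, ρ a (A i (ρ h w)) = ρ h (ρ a (A i w)) := fun a ha => by
      rw [hA i h hh w, ← MulAut.mul_apply, ← map_mul, hcomm a ha h hh, map_mul, MulAut.mul_apply]
    rw [hBapp, hBapp, hsw _ (hsQ i), hsw _ (hsQ j), map_div]
  have hrelB : ∀ w, ∏ i ∈ S.erase j, B i (ρ (x ^ i) w) = 1 := by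
    intro w
    have e1 : ∏ i ∈ S, ρ (s i) (A i (ρ (x ^ i) w)) = 1 := by
      rw [← hrel (ρ u w)]
      refine Finset.prod_congr rfl fun i _ => ?_
      rw [← hA i _ (hsQ i), ← MulAut.mul_apply, ← map_mul, ← MulAut.mul_apply, ← map_mul]
      congr 3
      simp only [hs]
      group
    have e2 : ∏ i ∈ S, ρ (s j) (A i (ρ (x ^ i) w)) = 1 := by
      rw [← map_prod, hrel w, map_one]
    have e3 : ∏ i ∈ S, B i (ρ (x ^ i) w) = 1 := by
      simp only [hBapp]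
      rw [Finset.prod_div_distrib, e1, e2, div_one]
    rwa [← Finset.mul_prod_erase S _ hjS, hBapp, div_self', one_mul] at e3
  have hfixed := ih _ (hk ▸ Finset.card_erase_lt_of_mem hjS) (S.erase j) rfl
    (Finset.mem_erase.mpr ⟨Ne.symm hj0, h0⟩) (fun i hi => hlt i (Finset.mem_of_mem_erase hi))
    B hB hrelB g hg v
  have hs0 : s 0 = u := by simp [hs]
  have hsj : s j = u * g := by rw [hgu]; simp only [hs]; group
  rw [hBapp, hs0, hsj, map_mul, MulAut.mul_apply, ← map_div, ← MulAut.mul_apply, ← map_mul,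
    hcomm g hg u hu, map_mul, MulAut.mul_apply] at hfixed
  have h2 := (ρ u).injective hfixed
  refine hfix g hg _ ?_
  rw [← inv_div (A 0 v) (ρ g (A 0 v)), map_inv, h2]

/-- Main consequence: the operators act trivially. -/
theorem eq_self_of_relation {x : H} {Q : Subgroup H} (hx : ∀ g ∈ Q, x * g * x⁻¹ ∈ Q)
    (hcomm : ∀ a ∈ Q, ∀ b ∈ Q, a * b = b * a) {N : ℕ} (hN : 0 < N)
    (hrel : ∀ v, ∏ i ∈ Finset.range N, ρ (x ^ i) v = 1)
    (hfree : ∀ g ∈ Q, ∀ j : ℕ, 0 < j → j < N → ∃ u ∈ Q, g = u⁻¹ * (x ^ j * u * (x ^ j)⁻¹))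
    (hfix : ∀ g ∈ Q, ∀ w : M, ρ g (ρ g w / w) = ρ g w / w → ρ g w = w) :
    ∀ g ∈ Q, ∀ v, ρ g v = v :=
  fun g hg v => fixed_of_relation ρ hx hcomm hfree hfix _ (Finset.range N) rfl
    (Finset.mem_range.mpr hN) (fun _ hi => Finset.mem_range.mp hi) (fun _ => MonoidHom.id M)
    (fun _ _ _ _ => rfl) hrel g hg v

/-- An operator of order prime to `p` on a `p`-group which fixes `g w / w` fixes `w`. -/
theorem eq_self_of_fixed_quot {p : ℕ} [Fact p.Prime] (hM : IsPGroup p M) {g : H}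
    (hg : (orderOf g).Coprime p) {w : M} (h : ρ g (ρ g w / w) = ρ g w / w) : ρ g w = w := by
  set c := ρ g w / w with hc
  have hgw : ρ g w = c * w := (div_mul_cancel _ _).symm
  have hpow : ∀ m : ℕ, ρ (g ^ m) w = c ^ m * w := by
    intro m
    induction m with
    | zero => simp
    | succ m ih =>
      rw [pow_succ' g, map_mul, MulAut.mul_apply, ih, map_mul, map_pow, h, hgw, pow_succ,
        mul_assoc]
  have h1 := hpow (orderOf g)
  rw [pow_orderOf_eq_one, map_one, MulAut.one_apply] at h1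
  have h1' : c ^ orderOf g = 1 := by simpa using h1.symm
  obtain ⟨a, ha⟩ := hM c
  have hd : orderOf c ∣ Nat.gcd (orderOf g) (p ^ a) :=
    Nat.dvd_gcd (orderOf_dvd_of_pow_eq_one h1') (orderOf_dvd_of_pow_eq_one ha)
  rw [(hg.pow_right a : Nat.Coprime _ _), Nat.dvd_one, orderOf_eq_one_iff] at hd
  rw [hgw, hd, one_mul]

/-- A `p`-element `y` centralised by `x` and acting nontrivially on an abelian `p'`-subgroup `Q`
acts without nontrivial fixed points on some `x`-invariant subgroup `Q₁ ≠ 1` of `Q`. -/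
theorem exists_fpf {p : ℕ} [Fact p.Prime] [Finite H] {Q : Subgroup H} {x y : H}
    (hcomm : ∀ a ∈ Q, ∀ b ∈ Q, a * b = b * a) (hQ : (Nat.card Q).Coprime p)
    (hx : ∀ g ∈ Q, x * g * x⁻¹ ∈ Q) (hyx : Commute y x) {a : ℕ} (hy : y ^ p ^ a = 1)
    (hyQ : ∀ g ∈ Q, y * g * y⁻¹ ∈ Q) (hne : ∃ g ∈ Q, y * g ≠ g * y) :
    ∃ Q₁ : Subgroup H, Q₁ ≤ Q ∧ Q₁ ≠ ⊥ ∧ (∀ g ∈ Q₁, x * g * x⁻¹ ∈ Q₁) ∧
      ∀ g ∈ Q₁, y * g = g * y → g = 1 := by
  let θ : Q →* Q :=
    { toFun := fun u => ⟨(u : H)⁻¹ * (y * u * y⁻¹), mul_mem (inv_mem u.2) (hyQ u u.2)⟩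
      map_one' := by ext; simp
      map_mul' := fun u w => by
        apply Subtype.ext
        have hw := hcomm _ (inv_mem w.2) _ (mul_mem (inv_mem u.2) (hyQ u u.2))
        simp only [Subgroup.coe_mul, mul_inv_rev]
        calc (w : H)⁻¹ * (u : H)⁻¹ * (y * (u * w) * y⁻¹)
            = (w : H)⁻¹ * ((u : H)⁻¹ * (y * u * y⁻¹)) * (y * w * y⁻¹) := by group
          _ = (u : H)⁻¹ * (y * u * y⁻¹) * (w : H)⁻¹ * (y * w * y⁻¹) := by rw [hw]
          _ = _ := by group }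
  have hθ : ∀ u : Q, (θ u : H) = (u : H)⁻¹ * (y * u * y⁻¹) := fun u => rfl
  have hker : ∀ u : Q, θ u = 1 ↔ y * (u : H) = u * y := by
    intro u
    constructor
    · intro h
      have h' := congrArg Subtype.val h
      rw [hθ, OneMemClass.coe_one, inv_mul_eq_one] at h'
      exact eq_mul_inv_iff_mul_eq.mp h' |>.symm
    · intro h
      apply Subtype.ext
      rw [hθ, h]
      simp
  refine ⟨θ.range.map Q.subtype, Subgroup.map_subtype_le _, ?_, ?_, ?_⟩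
  · intro hbot
    obtain ⟨g, hg, hne'⟩ := hne
    refine hne' ((hker ⟨g, hg⟩).mp (Subtype.ext ?_))
    have : (θ ⟨g, hg⟩ : H) ∈ θ.range.map Q.subtype := ⟨_, ⟨_, rfl⟩, rfl⟩
    rw [hbot, Subgroup.mem_bot] at this
    exact this
  · rintro _ ⟨_, ⟨u, rfl⟩, rfl⟩
    refine ⟨θ ⟨x * u * x⁻¹, hx u u.2⟩, ⟨_, rfl⟩, ?_⟩
    show (θ ⟨x * u * x⁻¹, hx u u.2⟩ : H) = x * (θ u : H) * x⁻¹
    rw [hθ, hθ]
    have e1 : y * x = x * y := hyx
    have e2 : x⁻¹ * y⁻¹ = y⁻¹ * x⁻¹ := by rw [← mul_inv_rev, ← mul_inv_rev, e1]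
    calc ((x * u * x⁻¹ : H))⁻¹ * (y * (x * u * x⁻¹) * y⁻¹)
        = x * (u : H)⁻¹ * x⁻¹ * ((y * x) * u * (x⁻¹ * y⁻¹)) := by group
      _ = _ := by rw [e1, e2]; group
  · rintro _ ⟨w, ⟨u, rfl⟩, rfl⟩ hfix
    set d := θ u with hd
    have hconj : ∀ m : ℕ, y ^ m * (u : H) * (y ^ m)⁻¹ = u * (d : H) ^ m := by
      intro m
      induction m with
      | zero => simp
      | succ m ih =>
        have hfix' : y * (d : H) * y⁻¹ = d := by
          rw [show y * (d : H) = d * y from hfix]; simp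
        have hu : y * (u : H) * y⁻¹ = u * d := by rw [hd, hθ]; group
        calc y ^ (m + 1) * (u : H) * (y ^ (m + 1))⁻¹
            = y * (y ^ m * u * (y ^ m)⁻¹) * y⁻¹ := by rw [pow_succ']; group
          _ = y * u * y⁻¹ * (y * (d : H) * y⁻¹) ^ m := by rw [ih, conj_pow]; group
          _ = _ := by rw [hu, hfix', mul_assoc, ← pow_succ']
    have h1 := hconj (p ^ a)
    rw [hy] at h1
    have h2 : (d : H) ^ p ^ a = 1 := by simpa using h1.symm
    have h3 : orderOf (d : H) ∣ Nat.gcd (Nat.card Q) (p ^ a) :=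
      Nat.dvd_gcd (Subgroup.orderOf_dvd_natCard _ d.2) (orderOf_dvd_of_pow_eq_one h2)
    rw [(hQ.pow_right a : Nat.Coprime _ _), Nat.dvd_one, orderOf_eq_one_iff] at h3
    exact h3

theorem exists_displacement [Finite H] {Q : Subgroup H} {x : H} (hcomm : ∀ a ∈ Q, ∀ b ∈ Q, a * b = b * a)
    (hx : ∀ g ∈ Q, x * g * x⁻¹ ∈ Q) (hfpf : ∀ g ∈ Q, x * g = g * x → g = 1) {g : H} (hg : g ∈ Q) :
    ∃ u ∈ Q, g = u⁻¹ * (x * u * x⁻¹) := by
  let f : Q → Q := fun u => ⟨(u : H)⁻¹ * (x * u * x⁻¹), mul_mem (inv_mem u.2) (hx u u.2)⟩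
  have hf : Function.Injective f := by
    intro u w h
    have h' : (u : H)⁻¹ * (x * u * x⁻¹) = (w : H)⁻¹ * (x * w * x⁻¹) := congrArg Subtype.val h
    have hw : (w : H) * (u : H)⁻¹ = x * ((w : H) * (u : H)⁻¹) * x⁻¹ := by
      calc (w : H) * (u : H)⁻¹
          = w * ((u : H)⁻¹ * (x * u * x⁻¹)) * (x * u * x⁻¹)⁻¹ := by
            rw [mul_assoc, mul_assoc, mul_inv_cancel, mul_one]
        _ = w * ((w : H)⁻¹ * (x * w * x⁻¹)) * (x * u * x⁻¹)⁻¹ := by rw [h']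
        _ = _ := by rw [← mul_assoc (w : H), mul_inv_cancel, one_mul]; group
    have := hfpf _ (mul_mem w.2 (inv_mem u.2)) (eq_mul_inv_iff_mul_eq.mp hw).symm
    exact Subtype.ext (mul_inv_eq_one.mp this).symm
  obtain ⟨u, hu⟩ := (Finite.injective_iff_surjective.mp hf) ⟨g, hg⟩
  exact ⟨u, u.2, (congrArg Subtype.val hu).symm⟩

end H32.FreeAbelian
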