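import Mathlib

/-!
The core of the bound `p`-length `≤` derived length for `p = 3`: a `3`-group `B` acting on a
`2`-group `R` inside a ring of characteristic `3`, the derived group of `B` acting quadratically.
-/

set_option autoImplicit false

namespace H32.HH

open scoped commutatorElement

variable {E : Type*} [Ring E] {S : Type*} [Group S]

theorem sigma_mul_inv (σ : S →* E) (g : S) : σ g * σ g⁻¹ = 1 := by
  rw [← map_mul, mul_inv_cancel, map_one]

theorem sigma_inv_mul (σ : S →* E) (g : S) : σ g⁻¹ * σ g = 1 := by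
  rw [← map_mul, inv_mul_cancel, map_one]

theorem three_eq (h3 : (3 : E) = 0) : (1 : E) + 1 + 1 = 0 := by
  rw [← h3]; norm_num

theorem quad_cube (σ : S →* E) (h3 : (3 : E) = 0) {t : S} (hq : (σ t - 1) * (σ t - 1) = 0) :
    σ t * σ t * σ t = 1 := by
  have h3' := three_eq h3
  have h : σ t * σ t * σ t = 1 + (1 + 1 + 1) * (σ t - 1) + ((1 + 1 + 1) + (σ t - 1)) * ((σ t - 1) * (σ t - 1)) := by
    noncomm_ring
  rw [h, hq, h3']
  simp

/-- If `u` commutes with its conjugate by a quadratic element `t`, then `t` centralises it. -/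
theorem trick (σ : S →* E) (h3 : (3 : E) = 0) {t u : S} (hq : (σ t - 1) * (σ t - 1) = 0)
    (hc : σ u * σ (t * u * t⁻¹) = σ (t * u * t⁻¹) * σ u)
    (hsq : σ (t * u * t⁻¹) * σ (t * u * t⁻¹) = σ u * σ u) : σ (t * u * t⁻¹) = σ u := by
  have h3' : (1 : E) + 1 + 1 = 0 := three_eq h3
  have hT : σ t * σ t * σ t = 1 := quad_cube σ h3 hq
  have hTi : σ t⁻¹ = σ t * σ t := by
    calc σ t⁻¹ = σ t⁻¹ * (σ t * σ t * σ t) := by rw [hT, mul_one]
      _ = (σ t⁻¹ * σ t) * (σ t * σ t) := by simp only [mul_assoc]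
      _ = _ := by rw [sigma_inv_mul, one_mul]
  have hii : σ t * σ t⁻¹ = 1 := sigma_mul_inv σ t
  have hii' : σ t⁻¹ * σ t = 1 := sigma_inv_mul σ t
  set T := σ t with hTdef
  set Ti := σ t⁻¹ with hTidef
  set U := σ u with hUdef
  set U1 := σ (t * u * t⁻¹) with hU1def
  have hU1 : U1 = T * U * Ti := by rw [hU1def, map_mul, map_mul]
  have cj : ∀ X Y : E, T * X * Ti * (T * Y * Ti) = T * (X * Y) * Ti := fun X Y => by
    calc T * X * Ti * (T * Y * Ti) = T * X * (Ti * T) * Y * Ti := by simp only [mul_assoc]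
      _ = _ := by rw [hii', mul_one]; simp only [mul_assoc]
  set U2 := T * U1 * Ti with hU2
  have hTiTi : Ti * Ti = T := by
    rw [hTi]
    calc T * T * (T * T) = T * T * T * T := by simp only [mul_assoc]
      _ = T := by rw [hT, one_mul]
  have h20 : T * U2 * Ti = U := by
    rw [hU2, hU1]
    calc T * (T * (T * U * Ti) * Ti) * Ti = (T * T * T) * U * (Ti * (Ti * Ti)) := by simp only [mul_assoc]
      _ = U := by rw [hT, hTiTi, hii', one_mul, mul_one]
  have c01 : U * U1 = U1 * U := hc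
  have c12 : U1 * U2 = U2 * U1 := by
    rw [hU2]
    conv_lhs => arg 1; rw [hU1]
    conv_rhs => arg 2; rw [hU1]
    rw [cj, cj, c01]
  have c20 : U2 * U = U * U2 := by
    have : T * U1 * Ti * (T * U2 * Ti) = T * U2 * Ti * (T * U1 * Ti) := by rw [cj, cj, c12]
    rwa [h20, ← hU2] at this
  have s2 : U2 * U2 = U * U := by
    rw [hU2, cj, hsq, ← hsq]
    conv_rhs => rw [hU1, cj]
    rw [hsq]
  -- the sum of the three conjugates squares to zero
  have hS : (U + U1 + U2) * (U + U1 + U2) = 0 := by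
    have hx : ∀ x : E, x * x = 0 → T = 1 + x → T * T = 1 + 2 * x →
        U + U1 + U2 = x * U * x + (1 + 1 + 1) * (U + x * U + U * x + x * U * x) := by
      intro x hx0 e1 e2
      have hU2' : U2 = (T * T) * U * T := by
        rw [hU2, hU1]
        calc T * (T * U * Ti) * Ti = T * T * U * (Ti * Ti) := by simp only [mul_assoc]
          _ = _ := by rw [hTiTi]
      rw [hU2', hU1, hTi, e2, e1]
      noncomm_ring
    have e2 : T * T = 1 + 2 * (T - 1) := by
      have : T * T = 1 + 2 * (T - 1) + (T - 1) * (T - 1) := by noncomm_ring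
      rwa [hq, add_zero] at this
    rw [hx (T - 1) hq (by noncomm_ring) e2, h3', zero_mul, add_zero]
    calc (T - 1) * U * (T - 1) * ((T - 1) * U * (T - 1))
        = (T - 1) * U * ((T - 1) * (T - 1)) * U * (T - 1) := by simp only [mul_assoc]
      _ = 0 := by rw [hq]; simp
  have hσ2 : U * U1 + U * U2 + U1 * U2 = 0 := by
    have e : (U + U1 + U2) * (U + U1 + U2) =
        (U * U + U1 * U1 + U2 * U2) + (U * U1 + U1 * U + (U * U2 + U2 * U) + (U1 * U2 + U2 * U1)) := by
      noncomm_ring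
    rw [hS, hsq, s2, ← c01, c20, ← c12] at e
    have e3 : U * U + U * U + U * U = (1 + 1 + 1) * (U * U) := by noncomm_ring
    rw [e3, h3', zero_mul, zero_add] at e
    have e4 : U * U1 + U * U2 + U1 * U2 =
        (1 + 1 + 1) * (U * U1 + U * U2 + U1 * U2) - (U * U1 + U * U1 + (U * U2 + U * U2) + (U1 * U2 + U1 * U2)) := by
      noncomm_ring
    rw [e4, h3', ← e]
    simp
  -- normalise by `u`
  set Ui := σ u⁻¹ with hUidef
  have hu1 : U * Ui = 1 := sigma_mul_inv σ u
  have hu2 : Ui * U = 1 := sigma_inv_mul σ u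
  have ci : ∀ X : E, U * X = X * U → Ui * X = X * Ui := fun X hX => by
    calc Ui * X = Ui * (X * U) * Ui := by rw [mul_assoc Ui, mul_assoc X, hu1, mul_one]
      _ = Ui * (U * X) * Ui := by rw [hX]
      _ = _ := by rw [← mul_assoc, hu2, one_mul]
  have ci1 : Ui * U1 = U1 * Ui := ci U1 c01
  have ci2 : Ui * U2 = U2 * Ui := ci U2 c20.symm
  set g := Ui * U1 with hg
  set h := Ui * U2 with hh
  have hgg : g * g = 1 := by
    calc g * g = Ui * (U1 * Ui) * U1 := by rw [hg]; simp only [mul_assoc]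
      _ = Ui * Ui * (U1 * U1) := by rw [← ci1]; simp only [hg, hh, mul_assoc]
      _ = Ui * (Ui * U) * U := by rw [hsq]; simp only [mul_assoc]
      _ = 1 := by rw [hu2, mul_one, hu2]
  have hhh : h * h = 1 := by
    calc h * h = Ui * (U2 * Ui) * U2 := by rw [hh]; simp only [mul_assoc]
      _ = Ui * Ui * (U2 * U2) := by rw [← ci2]; simp only [hg, hh, mul_assoc]
      _ = Ui * (Ui * U) * U := by rw [s2]; simp only [mul_assoc]
      _ = 1 := by rw [hu2, mul_one, hu2]
  have hghg : g * h = h * g := by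
    calc g * h = Ui * (U1 * Ui) * U2 := by rw [hg, hh]; simp only [mul_assoc]
      _ = Ui * Ui * (U1 * U2) := by rw [← ci1]; simp only [hg, hh, mul_assoc]
      _ = Ui * Ui * (U2 * U1) := by rw [c12]
      _ = Ui * (U2 * Ui) * U1 := by rw [← ci2]; simp only [hg, hh, mul_assoc]
      _ = h * g := by rw [hg, hh]; simp only [mul_assoc]
  have hsum : g + h + g * h = 0 := by
    have e : Ui * Ui * (U * U1 + U * U2 + U1 * U2) = g + h + g * h := by
      rw [mul_add, mul_add]
      congr 1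
      · congr 1
        · calc Ui * Ui * (U * U1) = Ui * (Ui * U) * U1 := by simp only [mul_assoc]
            _ = g := by rw [hu2, mul_one]
        · calc Ui * Ui * (U * U2) = Ui * (Ui * U) * U2 := by simp only [mul_assoc]
            _ = h := by rw [hu2, mul_one]
      · calc Ui * Ui * (U1 * U2) = Ui * (U1 * Ui) * U2 := by rw [← ci1]; simp only [hg, hh, mul_assoc]
          _ = g * h := by rw [hg, hh]; simp only [mul_assoc]
    rw [hσ2, mul_zero] at e
    exact e.symm
  have h1 : g + h = -(g * h) := eq_neg_of_add_eq_zero_left hsum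
  have hgh1 : g * h = 1 := by
    have e : (g + h) * (g + h) = g * g + h * h + (g * h + h * g) := by noncomm_ring
    have e' : (g + h) * (g + h) = 1 := by
      rw [h1, neg_mul_neg]
      calc g * h * (g * h) = g * (h * g) * h := by simp only [mul_assoc]
        _ = (g * g) * (h * h) := by rw [← hghg]; simp only [mul_assoc]
        _ = 1 := by rw [hgg, hhh, mul_one]
    rw [e', hgg, hhh, ← hghg] at e
    have e2 : g * h = (1 + 1 + 1) * (g * h) - (1 + 1 + (g * h + g * h)) + (1 + 1 + 1) - 1 := by noncomm_ring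
    rw [e2, ← e, h3', zero_mul]
    have e3 : (0 : E) - 1 + 0 - 1 = 1 - (1 + 1 + 1) := by noncomm_ring
    rw [e3, h3', sub_zero]
  have hhg : h = g := by
    calc h = (g * g) * h := by rw [hgg, one_mul]
      _ = g := by rw [mul_assoc, hgh1, mul_one]
  rw [hhg, hgg] at hsum
  have hg1 : g = 1 := by
    have : g = (1 + 1 + 1) * g - (g + g + 1) + 1 := by noncomm_ring
    rw [this, hsum, h3']; simp
  calc U1 = (U * Ui) * U1 := by rw [hu1, one_mul]
    _ = U := by rw [mul_assoc, ← hg, hg1, mul_one]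

theorem conj_mem_commutator {B : Subgroup S} {a b : S} (hb : b ∈ B) (ha : a ∈ ⁅B, B⁆) :
    b * a * b⁻¹ ∈ ⁅B, B⁆ := by
  have hmap : B.map (MulAut.conj b).toMonoidHom ≤ B := by
    rintro _ ⟨x, hx, rfl⟩
    exact mul_mem (mul_mem hb hx) (inv_mem hb)
  have := Subgroup.mem_map_of_mem (MulAut.conj b).toMonoidHom ha
  rw [Subgroup.map_commutator] at this
  exact Subgroup.commutator_mono hmap hmap this

variable (σ : S →* E)

/-- The elements of `R` which `a` fixes under `σ`. -/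
def fixed (R : Subgroup S) (a : S) : Subgroup S where
  carrier := {u | u ∈ R ∧ σ (a * u * a⁻¹) = σ u}
  one_mem' := ⟨one_mem _, by simp⟩
  mul_mem' := fun {u v} hu hv => ⟨mul_mem hu.1 hv.1, by
    rw [show a * (u * v) * a⁻¹ = (a * u * a⁻¹) * (a * v * a⁻¹) by group, map_mul, hu.2, hv.2, map_mul]⟩
  inv_mem' := fun {u} hu => ⟨inv_mem hu.1, by
    rw [show a * u⁻¹ * a⁻¹ = (a * u * a⁻¹)⁻¹ by group]
    calc σ (a * u * a⁻¹)⁻¹ = σ (a * u * a⁻¹)⁻¹ * (σ (a * u * a⁻¹) * σ u⁻¹) := by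
          rw [hu.2, sigma_mul_inv, mul_one]
      _ = σ u⁻¹ := by rw [← mul_assoc, sigma_inv_mul, one_mul]⟩

theorem core [Finite S] [Nontrivial E] (h3 : (3 : E) = 0) (R B : Subgroup S) (hR2 : IsPGroup 2 R)
    (hB : IsPGroup 3 B) (hBR : B ≤ Subgroup.normalizer (R : Set S))
    (hquad : ∀ a ∈ ⁅B, B⁆, ∀ a' ∈ ⁅B, B⁆, (σ a - 1) * (σ a' - 1) = 0)
    (hcent : ∀ a ∈ ⁅B, B⁆, ∀ u ∈ R, σ (a * (u * u) * a⁻¹) = σ (u * u))
    (hD : ∀ u ∈ R, ∀ v ∈ R, σ ⁅u, v⁆ = 1 ∨ σ ⁅u, v⁆ = -1) :
    ∀ a ∈ ⁅B, B⁆, ∀ u ∈ R, σ (a * u * a⁻¹) = σ u := by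
  classical
  set A := ⁅B, B⁆ with hA
  have hAB : A ≤ B := Subgroup.commutator_le_self B
  have hconjR : ∀ {b : S}, b ∈ B → ∀ {u : S}, u ∈ R → b * u * b⁻¹ ∈ R := fun hb _ hu =>
    (Subgroup.mem_normalizer_iff.mp (hBR hb) _).mp hu
  have hAcomm : ∀ a ∈ A, ∀ a' ∈ A, σ a * σ a' = σ a' * σ a := fun a ha a' ha' => by
    have e : σ a * σ a' - σ a' * σ a = (σ a - 1) * (σ a' - 1) - (σ a' - 1) * (σ a - 1) := by noncomm_ring
    rw [hquad a ha a' ha', hquad a' ha' a ha, sub_zero] at e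
    exact sub_eq_zero.mp e
  let K : S → Subgroup S := fixed σ R
  have hKmem : ∀ {a u : S}, u ∈ K a ↔ u ∈ R ∧ σ (a * u * a⁻¹) = σ u := Iff.rfl
  -- membership only depends on the image
  have hKσ : ∀ {a u v : S}, u ∈ K a → v ∈ R → σ v = σ u → v ∈ K a := fun {a u v} hu hv he => by
    refine ⟨hv, ?_⟩
    rw [map_mul, map_mul, he, ← map_mul, ← map_mul]
    exact hu.2
  have hKinv : ∀ {a a' u : S}, a ∈ A → a' ∈ A → u ∈ K a → a' * u * a'⁻¹ ∈ K a := by
    intro a a' u ha ha' hu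
    refine ⟨hconjR (hAB ha') hu.1, ?_⟩
    rw [show a * (a' * u * a'⁻¹) * a⁻¹ = (a * a') * u * (a'⁻¹ * a⁻¹) by group]
    have e1 : σ (a * a') = σ (a' * a) := by rw [map_mul, map_mul, hAcomm a ha a' ha']
    have e2 : σ (a'⁻¹ * a⁻¹) = σ (a⁻¹ * a'⁻¹) := by
      rw [map_mul, map_mul, hAcomm _ (inv_mem ha') _ (inv_mem ha)]
    rw [map_mul, map_mul σ (a * a') u, e1, e2, ← map_mul, ← map_mul,
      show a' * a * u * (a⁻¹ * a'⁻¹) = a' * (a * u * a⁻¹) * a'⁻¹ by group, map_mul, map_mul, hu.2,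
      ← map_mul, ← map_mul]
  -- `σ` of commutators is bimultiplicative
  have hcl : ∀ u ∈ R, ∀ v ∈ R, ∀ w ∈ R, σ ⁅u * v, w⁆ = σ ⁅u, w⁆ * σ ⁅v, w⁆ := by
    intro u hu v hv w hw
    rw [show ⁅u * v, w⁆ = u * ⁅v, w⁆ * u⁻¹ * ⁅u, w⁆ by simp only [commutatorElement_def]; group,
      map_mul, map_mul, map_mul]
    rcases hD v hv w hw with e | e <;> rw [e] <;> simp [sigma_mul_inv]
  have hsw : ∀ u ∈ R, ∀ v ∈ R, σ ⁅v, u⁆ = σ ⁅u, v⁆ := by
    intro u hu v hv
    have h1 : σ ⁅u, v⁆ * σ ⁅v, u⁆ = 1 := by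
      rw [← commutatorElement_inv u v, sigma_mul_inv]
    rcases hD u hu v hv with e | e <;> rw [e] at h1 ⊢
    · simpa using h1
    · simpa [neg_eq_iff_eq_neg] using h1
  have hcr : ∀ u ∈ R, ∀ v ∈ R, ∀ w ∈ R, σ ⁅u, v * w⁆ = σ ⁅u, v⁆ * σ ⁅u, w⁆ := by
    intro u hu v hv w hw
    rw [hsw _ (mul_mem hv hw) u hu, hcl v hv w hw u hu, hsw u hu v hv, hsw u hu w hw]
  -- `f u = 1` forces `u` fixed
  have hfix : ∀ a ∈ A, ∀ u ∈ R, σ ⁅u, a * u * a⁻¹⁆ = 1 → u ∈ K a := by
    intro a ha u hu h1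
    refine ⟨hu, trick σ h3 (hquad a ha a ha) ?_ ?_⟩
    · have h2 : σ ⁅u, a * u * a⁻¹⁆ * σ (a * u * a⁻¹ * u) = σ (u * (a * u * a⁻¹)) := by
        rw [← map_mul]; congr 1; simp only [commutatorElement_def]; group
      rw [h1, one_mul, map_mul σ (a * u * a⁻¹) u, map_mul σ u (a * u * a⁻¹)] at h2
      exact h2.symm
    · rw [← map_mul, ← map_mul, ← hcent a ha u hu]
      congr 1; group
  have hne1 : (-1 : E) ≠ 1 := fun e => one_ne_zero (α := E) (by
    have : (1 : E) = (1 + 1 + 1) * 1 - (1 - (-1)) := by noncomm_ring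
    rw [this, three_eq h3, e]; simp)
  have hf : ∀ a ∈ A, ∀ u ∈ R, u ∉ K a → σ ⁅u, a * u * a⁻¹⁆ = -1 := fun a ha u hu hn =>
    (hD u hu _ (hconjR (hAB ha) hu)).resolve_left fun e => hn (hfix a ha u hu e)
  -- the key property: `a` moves every coset outside `K a`
  have hP1 : ∀ a ∈ A, ∀ u ∈ R, u⁻¹ * (a * u * a⁻¹) ∈ K a → u ∈ K a := by
    intro a ha u hu hk
    set k := u⁻¹ * (a * u * a⁻¹) with hkdef
    refine ⟨hu, ?_⟩
    have hak : σ a * σ k * σ a⁻¹ = σ k := by rw [← map_mul, ← map_mul]; exact hk.2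
    have e1 : σ a * σ u * σ a⁻¹ = σ u * σ k := by
      rw [← map_mul, ← map_mul, ← map_mul, hkdef]; congr 1; group
    have hcjm : ∀ X Y : E, σ a * (X * Y) * σ a⁻¹ = (σ a * X * σ a⁻¹) * (σ a * Y * σ a⁻¹) := fun X Y => by
      calc σ a * (X * Y) * σ a⁻¹ = σ a * X * (σ a⁻¹ * σ a) * Y * σ a⁻¹ := by
            rw [sigma_inv_mul, mul_one]; simp only [mul_assoc]
        _ = _ := by simp only [mul_assoc]
    have e2 : σ a * (σ a * σ u * σ a⁻¹) * σ a⁻¹ = σ u * σ k * σ k := by rw [e1, hcjm, e1, hak]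
    have e3 : σ a * (σ a * (σ a * σ u * σ a⁻¹) * σ a⁻¹) * σ a⁻¹ = σ u * σ k * σ k * σ k := by
      rw [e2, hcjm, hcjm, e1, hak]
    have hT := quad_cube σ h3 (hquad a ha a ha)
    have hTi : σ a⁻¹ * σ a⁻¹ * σ a⁻¹ = 1 := by
      calc σ a⁻¹ * σ a⁻¹ * σ a⁻¹ = (σ a * σ a * σ a) * (σ a⁻¹ * σ a⁻¹ * σ a⁻¹) := by rw [hT, one_mul]
        _ = σ a * σ a * (σ a * σ a⁻¹) * σ a⁻¹ * σ a⁻¹ := by simp only [mul_assoc]
        _ = 1 := by
          rw [sigma_mul_inv, mul_one, mul_assoc (σ a) (σ a) (σ a⁻¹), sigma_mul_inv, mul_one, sigma_mul_inv]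
    have e4 : σ u * σ k * σ k * σ k = σ u := by
      rw [← e3]
      calc σ a * (σ a * (σ a * σ u * σ a⁻¹) * σ a⁻¹) * σ a⁻¹
          = (σ a * σ a * σ a) * σ u * (σ a⁻¹ * σ a⁻¹ * σ a⁻¹) := by simp only [mul_assoc]
        _ = σ u := by rw [hT, hTi, one_mul, mul_one]
    have hk3 : σ (k ^ 3) = 1 := by
      calc σ (k ^ 3) = σ u⁻¹ * (σ u * σ k * σ k * σ k) := by
            rw [show σ u * σ k * σ k * σ k = σ u * σ (k ^ 3) by
              rw [pow_succ, pow_two, map_mul σ (k * k) k, map_mul σ k k]; simp only [mul_assoc],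
              ← mul_assoc, sigma_inv_mul, one_mul]
        _ = 1 := by rw [e4, sigma_inv_mul]
    have hk1 : σ k = 1 := by
      obtain ⟨n, hn⟩ := hR2 ⟨k, hk.1⟩
      have hn' : k ^ 2 ^ n = 1 := congrArg Subtype.val hn
      have hd : orderOf (σ.toHomUnits k) = 1 := by
        refine Nat.eq_one_of_dvd_coprimes (Nat.Coprime.pow_left n (show Nat.Coprime 2 3 by norm_num)) ?_ ?_
        · exact orderOf_dvd_of_pow_eq_one (by rw [← map_pow, hn', map_one])
        · exact orderOf_dvd_of_pow_eq_one (by rw [← map_pow]; exact Units.ext hk3)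
      have := congrArg Units.val (orderOf_eq_one_iff.mp hd)
      simpa using this
    rw [map_mul, map_mul, e1, hk1, mul_one]
  -- two moved elements span `R` modulo `K a`
  have hspan : ∀ a ∈ A, ∀ u ∈ R, u ∉ K a → ∀ w ∈ R, w ∈ K a ∨ u * w ∈ K a ∨
      (u⁻¹ * (a * u * a⁻¹)) * w ∈ K a ∨ (a * u * a⁻¹) * w ∈ K a := by
    intro a ha u hu hun w hw
    set v := u⁻¹ * (a * u * a⁻¹) with hv'
    have hau : a * u * a⁻¹ = u * v := by rw [hv']; group
    rw [hau]
    have hv : v ∈ R := mul_mem (inv_mem hu) (hconjR (hAB ha) hu)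
    by_contra hcon
    push Not at hcon
    obtain ⟨h1, h2, h3', h4⟩ := hcon
    have huv : u * v ∉ K a := by
      intro h
      rw [← hau] at h
      apply hun
      have := hKinv ha (inv_mem ha) h
      simpa [mul_assoc] using this
    have hvn : v ∉ K a := fun h => hun (hP1 a ha u hu h)
    let c : S → S → E := fun x y => σ ⁅x, a * y * a⁻¹⁆
    have exp : ∀ x ∈ R, ∀ y ∈ R, c (x * y) (x * y) = c x x * c x y * (c y x * c y y) := by
      intro x hx y hy
      have hx' := hconjR (hAB ha) hx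
      have hy' := hconjR (hAB ha) hy
      show σ ⁅x * y, a * (x * y) * a⁻¹⁆ = _
      rw [show a * (x * y) * a⁻¹ = (a * x * a⁻¹) * (a * y * a⁻¹) by group,
        hcl x hx y hy _ (mul_mem hx' hy'), hcr x hx _ hx' _ hy', hcr y hy _ hx' _ hy']
    have pm : ∀ x ∈ R, ∀ y ∈ R, c x y = 1 ∨ c x y = -1 := fun x hx y hy => hD x hx _ (hconjR (hAB ha) hy)
    have e : ∀ x ∈ R, ∀ y ∈ R, x ∉ K a → y ∉ K a → x * y ∉ K a → c x y * c y x = -1 := by
      intro x hx y hy hxn hyn hxyn
      have := exp x hx y hy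
      rw [show c (x * y) (x * y) = -1 from hf a ha _ (mul_mem hx hy) hxyn,
        show c x x = -1 from hf a ha x hx hxn, show c y y = -1 from hf a ha y hy hyn] at this
      rw [this]
      rcases pm x hx y hy with e1 | e1 <;> rcases pm y hy x hx with e2 | e2 <;> rw [e1, e2] <;> simp
    have euv := e u hu v hv hun hvn huv
    have euw := e u hu w hw hun h1 h2
    have evw := e v hv w hw hvn h1 h3'
    have euvw := e (u * v) (mul_mem hu hv) w hw huv h1 h4
    have hlin1 : c (u * v) w = c u w * c v w := hcl u hu v hv _ (hconjR (hAB ha) hw)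
    have hlin2 : c w (u * v) = c w u * c w v := by
      show σ ⁅w, a * (u * v) * a⁻¹⁆ = _
      rw [show a * (u * v) * a⁻¹ = (a * u * a⁻¹) * (a * v * a⁻¹) by group]
      exact hcr w hw _ (hconjR (hAB ha) hu) _ (hconjR (hAB ha) hv)
    have comm1 : c v w * c w u = c w u * c v w := by
      rcases pm v hv w hw with e | e <;> rw [e] <;> simp
    rw [hlin1, hlin2] at euvw
    have : c u w * c v w * (c w u * c w v) = (c u w * c w u) * (c v w * c w v) := by
      calc c u w * c v w * (c w u * c w v) = c u w * (c v w * c w u) * c w v := by simp only [mul_assoc]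
        _ = _ := by rw [comm1]; simp only [mul_assoc]
    rw [this, euw, evw, neg_mul_neg, one_mul] at euvw
    exact hne1 euvw.symm
  -- comparable fixed groups are equal
  have hcomp : ∀ a ∈ A, ∀ a' ∈ A, K a ≤ K a' → ¬ R ≤ K a' → K a' ≤ K a := by
    intro a ha a' ha' hle hprop u hu
    by_contra hun
    apply hprop
    intro w hw
    have hv : a * u * a⁻¹ ∈ K a' := hKinv ha' ha hu
    rcases hspan a ha u hu.1 hun w hw with h | h | h | h
    · exact hle h
    · have := mul_mem (inv_mem hu) (hle h)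
      simpa [mul_assoc] using this
    · have := mul_mem (inv_mem (mul_mem (inv_mem hu) hv)) (hle h)
      simpa [mul_assoc] using this
    · have := mul_mem (inv_mem hv) (hle h)
      simpa [mul_assoc] using this
  -- all nontrivial `a` have the same fixed group
  have hsame : ∀ a ∈ A, ∀ a' ∈ A, ¬ R ≤ K a → ¬ R ≤ K a' → K a = K a' := by
    intro a ha a' ha' hpa hpa'
    by_contra hne
    have hnle : ¬ K a ≤ K a' := fun h => hne (le_antisymm h (hcomp a ha a' ha' h hpa'))
    obtain ⟨u, huK, hun⟩ := SetLike.not_le_iff_exists.mp hnle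
    have hprod : ∀ w ∈ R, ∃ c ∈ K a, ∃ d ∈ K a', w = c * d := by
      intro w hw
      have hu' : a' * u * a'⁻¹ ∈ K a := hKinv ha ha' huK
      rcases hspan a' ha' u huK.1 hun w hw with h | h | h | h
      · exact ⟨1, one_mem _, w, h, (one_mul w).symm⟩
      · exact ⟨u⁻¹, inv_mem huK, _, h, (inv_mul_cancel_left _ _).symm⟩
      · exact ⟨_, inv_mem (mul_mem (inv_mem huK) hu'), _, h, (inv_mul_cancel_left _ _).symm⟩
      · exact ⟨_, inv_mem hu', _, h, (inv_mul_cancel_left _ _).symm⟩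
    have hL : K (a * a') ≤ K a ∧ K (a * a') ≤ K a' := by
      have key : ∀ w ∈ K (a * a'), w ∈ K a ∧ w ∈ K a' := by
        intro w hw
        obtain ⟨c, hc, d, hd, rfl⟩ := hprod w hw.1
        have hc' : a' * c * a'⁻¹ ∈ K a := hKinv ha ha' hc
        have e1 : σ (a * a' * (c * d) * (a * a')⁻¹) = σ (a' * c * a'⁻¹) * σ (a * d * a⁻¹) := by
          rw [show a * a' * (c * d) * (a * a')⁻¹ =
            (a * (a' * c * a'⁻¹) * a⁻¹) * (a * (a' * d * a'⁻¹) * a⁻¹) by group, map_mul, hc'.2]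
          congr 1
          rw [map_mul, map_mul, hd.2, ← map_mul, ← map_mul]
        have e2 : σ (c⁻¹ * (a' * c * a'⁻¹)) = σ (d * (a * d * a⁻¹)⁻¹) := by
          have h := hw.2
          rw [e1] at h
          have h' : σ c⁻¹ * (σ (a' * c * a'⁻¹) * σ (a * d * a⁻¹)) * σ (a * d * a⁻¹)⁻¹ =
              σ c⁻¹ * σ (c * d) * σ (a * d * a⁻¹)⁻¹ := by rw [h]
          rw [map_mul, map_mul σ d]
          calc σ c⁻¹ * σ (a' * c * a'⁻¹)
              = σ c⁻¹ * (σ (a' * c * a'⁻¹) * σ (a * d * a⁻¹)) * σ (a * d * a⁻¹)⁻¹ := by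
                rw [mul_assoc (σ c⁻¹), mul_assoc (σ (a' * c * a'⁻¹)), sigma_mul_inv, mul_one]
            _ = σ c⁻¹ * σ (c * d) * σ (a * d * a⁻¹)⁻¹ := h'
            _ = _ := by rw [map_mul σ c, ← mul_assoc (σ c⁻¹), sigma_inv_mul, one_mul]
        have hx : c⁻¹ * (a' * c * a'⁻¹) ∈ K a' :=
          hKσ (mul_mem hd (inv_mem (hKinv ha' ha hd))) (mul_mem (inv_mem hc.1) hc'.1) e2
        have hcK := hP1 a' ha' c hc.1 hx
        refine ⟨mul_mem hc ?_, mul_mem hcK hd⟩
        have h := hw.2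
        rw [e1, hcK.2, map_mul σ c d] at h
        refine ⟨hd.1, ?_⟩
        calc σ (a * d * a⁻¹) = σ c⁻¹ * (σ c * σ (a * d * a⁻¹)) := by rw [← mul_assoc, sigma_inv_mul, one_mul]
          _ = σ d := by rw [h, ← mul_assoc, sigma_inv_mul, one_mul]
      exact ⟨fun w hw => (key w hw).1, fun w hw => (key w hw).2⟩
    have hle := hcomp (a * a') (mul_mem ha ha') a ha hL.1 hpa
    exact hnle (hle.trans hL.2)
  -- final step
  by_contra hcon
  push Not at hcon
  obtain ⟨a, ha, u, hu, hau⟩ := hcon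
  have hun : u ∉ K a := fun h => hau h.2
  have hpa : ¬ R ≤ K a := fun h => hun (h hu)
  have hKB : ∀ b ∈ B, ∀ w ∈ K a, b * w * b⁻¹ ∈ K a := by
    intro b hb w hw
    have hab : b * a * b⁻¹ ∈ A :=
      conj_mem_commutator hb ha
    have hmem : ∀ x, x ∈ K a → b * x * b⁻¹ ∈ K (b * a * b⁻¹) := fun x hx => by
      refine ⟨hconjR hb hx.1, ?_⟩
      rw [show b * a * b⁻¹ * (b * x * b⁻¹) * (b * a * b⁻¹)⁻¹ = b * (a * x * a⁻¹) * b⁻¹ by group,
        map_mul, map_mul, hx.2, ← map_mul, ← map_mul]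
    have hp : ¬ R ≤ K (b * a * b⁻¹) := by
      intro h
      apply hau
      have h2 := (h (hconjR hb hu)).2
      rw [show b * a * b⁻¹ * (b * u * b⁻¹) * (b * a * b⁻¹)⁻¹ = b * (a * u * a⁻¹) * b⁻¹ by group] at h2
      have h3 : σ b⁻¹ * σ (b * (a * u * a⁻¹) * b⁻¹) * σ b = σ b⁻¹ * σ (b * u * b⁻¹) * σ b := by rw [h2]
      rw [← map_mul, ← map_mul, ← map_mul, ← map_mul] at h3
      simpa [mul_assoc] using h3
    rw [hsame a ha _ hab hpa hp]
    exact hmem w hw
  have hsqK : ∀ w ∈ R, w * w ∈ K a := fun w hw => ⟨mul_mem hw hw, hcent a ha w hw⟩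
  haveI hKn : ((K a).subgroupOf R).Normal := by
    refine ⟨fun k hk r => ?_⟩
    show (r : S) * (k : S) * (r : S)⁻¹ ∈ K a
    rw [show (r : S) * (k : S) * (r : S)⁻¹ =
      ((r : S) * r) * (((r : S)⁻¹ * k) * ((r : S)⁻¹ * k)) * (k : S)⁻¹ by group]
    exact mul_mem (mul_mem (hsqK r r.2) (hsqK _ (mul_mem (inv_mem r.2) k.2))) (inv_mem hk)
  set Q := R ⧸ (K a).subgroupOf R with hQ
  let ψ : B →* MulAut Q :=
    { toFun := fun b => QuotientGroup.congr ((K a).subgroupOf R) ((K a).subgroupOf R)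
        ((Subgroup.normalizerMonoidHom R) ⟨(b : S), hBR b.2⟩) (by
          apply le_antisymm
          · rintro _ ⟨x, hx, rfl⟩
            exact hKB b b.2 _ hx
          · intro x hx
            refine ⟨⟨(b : S)⁻¹ * x * b, by simpa using hconjR (inv_mem b.2) x.2⟩, ?_, ?_⟩
            · show (b : S)⁻¹ * x * b ∈ K a
              simpa using hKB _ (inv_mem b.2) _ hx
            · apply Subtype.ext
              show (b : S) * ((b : S)⁻¹ * x * b) * (b : S)⁻¹ = x
              group)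
      map_one' := by
        refine MulEquiv.ext fun q => QuotientGroup.induction_on q fun x => ?_
        show QuotientGroup.mk _ = _
        congr 1
        apply Subtype.ext
        show ((1 : B) : S) * x * ((1 : B) : S)⁻¹ = x
        simp
      map_mul' := fun b b' => by
        refine MulEquiv.ext fun q => QuotientGroup.induction_on q fun x => ?_
        show QuotientGroup.mk _ = QuotientGroup.mk _
        congr 1
        apply Subtype.ext
        show ((b * b' : B) : S) * x * ((b * b' : B) : S)⁻¹ = (b : S) * ((b' : S) * x * (b' : S)⁻¹) * (b : S)⁻¹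
        simp [mul_assoc] }
  have hcardQ : Nat.card Q ≤ 4 := by
    have hv : u⁻¹ * (a * u * a⁻¹) ∈ R := mul_mem (inv_mem hu) (hconjR (hAB ha) hu)
    let F : Fin 4 → Q := ![1, (QuotientGroup.mk (⟨u, hu⟩ : R))⁻¹, (QuotientGroup.mk (⟨_, hv⟩ : R))⁻¹,
      (QuotientGroup.mk (⟨_, hconjR (hAB ha) hu⟩ : R))⁻¹]
    have hF : Function.Surjective F := by
      intro q
      induction q using QuotientGroup.induction_on with
      | _ w =>
        rcases hspan a ha u hu hun w w.2 with h | h | h | h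
        · exact ⟨0, ((QuotientGroup.eq_one_iff w).mpr h).symm⟩
        · exact ⟨1, inv_eq_of_mul_eq_one_right ((QuotientGroup.eq_one_iff _).mpr
              (show (⟨u, hu⟩ * w : R) ∈ (K a).subgroupOf R from h))⟩
        · exact ⟨2, inv_eq_of_mul_eq_one_right ((QuotientGroup.eq_one_iff _).mpr
              (show (⟨_, hv⟩ * w : R) ∈ (K a).subgroupOf R from h))⟩
        · exact ⟨3, inv_eq_of_mul_eq_one_right
            ((QuotientGroup.eq_one_iff _).mpr
              (show (⟨_, hconjR (hAB ha) hu⟩ * w : R) ∈ (K a).subgroupOf R from h))⟩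
    simpa using Nat.card_le_card_of_surjective F hF
  haveI : IsCyclic ψ.range := by
    haveI : Fact (Nat.Prime 3) := ⟨Nat.prime_three⟩
    obtain ⟨n, hn⟩ := (hB.of_surjective ψ.rangeRestrict ψ.rangeRestrict_surjective).exists_card_eq
    let emb : MulAut Q → Equiv.Perm {q : Q // q ≠ 1} := fun e =>
      (e.toEquiv.subtypeEquiv fun q => (map_ne_one_iff e e.injective).symm)
    have hemb : Function.Injective emb := by
      intro e e' h
      refine MulEquiv.ext fun q => ?_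
      by_cases hq : q = 1
      · rw [hq, map_one, map_one]
      · exact congrArg Subtype.val (Equiv.congr_fun h ⟨q, hq⟩)
    have hle : Nat.card (MulAut Q) ≤ 6 := by
      refine (Nat.card_le_card_of_injective emb hemb).trans ?_
      rw [Nat.card_perm]
      refine (Nat.factorial_le (m := Nat.card {q : Q // q ≠ 1}) (n := 3) ?_).trans le_rfl
      haveI := Fintype.ofFinite Q
      rw [Nat.card_eq_fintype_card, Fintype.card_subtype_compl, Fintype.card_subtype_eq]
      rw [Nat.card_eq_fintype_card] at hcardQ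
      omega
    have hn1 : n ≤ 1 := by
      by_contra h
      have h9 : 3 ^ 2 ≤ 3 ^ n := Nat.pow_le_pow_right (by norm_num) (by omega)
      have := (Nat.card_le_card_of_injective _ (Subtype.val_injective (p := fun x => x ∈ ψ.range))).trans hle
      rw [hn] at this
      omega
    rcases Nat.eq_zero_or_pos n with rfl | h
    · haveI := (Nat.card_eq_one_iff_unique.mp (hn.trans (pow_zero 3))).1
      infer_instance
    · exact isCyclic_of_prime_card (p := 3) (by rw [hn, show n = 1 by omega, pow_one])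
  have hkill : A.subgroupOf B ≤ ψ.ker := by
    intro b hb
    have hBB : (commutator B).map B.subtype = A := by
      rw [commutator_def, Subgroup.map_commutator, ← MonoidHom.range_eq_map, Subgroup.range_subtype]
    have hb' : b ∈ commutator B := by
      obtain ⟨c, hc, hcb⟩ := (hBB.ge hb : (b : S) ∈ _)
      exact (Subtype.ext hcb : c = b) ▸ hc
    have hle : commutator B ≤ ψ.rangeRestrict.ker := by
      haveI := IsCyclic.commutative (α := ψ.range)
      rw [commutator_def, Subgroup.commutator_le]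
      intro x _ y _
      rw [MonoidHom.mem_ker, map_commutatorElement, commutatorElement_eq_one_iff_mul_comm]
      exact IsMulCommutative.is_comm.comm _ _
    rw [MonoidHom.ker_rangeRestrict] at hle
    exact hle hb'
  have hmk := congrArg (fun e : MulAut Q => e (QuotientGroup.mk (⟨u, hu⟩ : R)))
    (MonoidHom.mem_ker.mp (hkill (x := ⟨a, hAB ha⟩) ha))
  have hmk' : (QuotientGroup.mk (⟨a * u * a⁻¹, hconjR (hAB ha) hu⟩ : R) : Q) = QuotientGroup.mk ⟨u, hu⟩ := hmk
  have hmem : ((⟨u, hu⟩ : R)⁻¹ * ⟨a * u * a⁻¹, hconjR (hAB ha) hu⟩ : R) ∈ (K a).subgroupOf R :=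
    QuotientGroup.eq.mp hmk'.symm
  exact hun (hP1 a ha u hu hmem)

end H32.HH
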