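import Cfsg.Agent.H32.HHCore
import Cfsg.Agent.H10.QuadGroup
import Cfsg.Agent.H10.PSolvableDual
import Cfsg.Agent.H1.CoprimeAction
import Cfsg.Agent.CompLayer
import Cfsg.Agent.H6.Basic

/-!
`p = 3`: a `3`-group whose derived group kills `[V, B, B]` on a faithful module is abelian when
`O_3` of the linear group is trivial and the group is `3`-soluble.
-/

set_option autoImplicit false
set_option linter.style.haveILetI false

namespace H32.HH

open Cfsg
open scoped commutatorElement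

variable {K : Type*} [Field K] {V : Type*} [AddCommGroup V] [Module K V]
  {H : Type*} [Group H] [Finite H] (ρ : H →* Module.End K V)

/-- The stabiliser of a subspace. -/
def stab (W : Submodule K V) : Subgroup H where
  carrier := {h | ∀ v, ρ h v ∈ W ↔ v ∈ W}
  one_mem' := fun v => by simp
  mul_mem' := fun {g h} hg hh v => by
    rw [map_mul, Module.End.mul_apply]; exact (hg _).trans (hh v)
  inv_mem' := fun {g} hg v => by
    have := (hg (ρ g⁻¹ v)).symm
    rwa [← Module.End.mul_apply, sigma_mul_inv, Module.End.one_apply] at this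

/-- The representation of the stabiliser on the subspace. -/
def stabRep (W : Submodule K V) : stab ρ W →* Module.End K W where
  toFun h := (ρ (h : H)).restrict fun v hv => (h.2 v).mpr hv
  map_one' := LinearMap.ext fun v => Subtype.ext (by
    show ρ ((1 : stab ρ W) : H) v = v
    simp)
  map_mul' g h := LinearMap.ext fun v => Subtype.ext (by
    show ρ ((g * h : stab ρ W) : H) v = ρ (g : H) (ρ (h : H) v)
    rw [Subgroup.coe_mul, map_mul, Module.End.mul_apply])

theorem stabRep_apply (W : Submodule K V) (h : stab ρ W) (v : W) :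
    ((stabRep ρ W h v : W) : V) = ρ (h : H) v := rfl

theorem three_end [CharP K 3] (W : Submodule K V) : (3 : Module.End K W) = 0 := by
  have h : ((3 : ℕ) : K) = 0 := CharP.cast_eq_zero K 3
  have e : (3 : Module.End K W) = algebraMap K (Module.End K W) ((3 : ℕ) : K) := by
    rw [map_natCast]; rfl
  rw [e, h, map_zero]

theorem three_end' [CharP K 3] : (3 : Module.End K V) = 0 := by
  have h : ((3 : ℕ) : K) = 0 := CharP.cast_eq_zero K 3
  have e : (3 : Module.End K V) = algebraMap K (Module.End K V) ((3 : ℕ) : K) := by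
    rw [map_natCast]; rfl
  rw [e, h, map_zero]

/-- The subgroup acting trivially on `W`. -/
def fixer (W : Submodule K V) : Subgroup H where
  carrier := {h | ∀ v ∈ W, ρ h v = v}
  one_mem' := fun v _ => by simp
  mul_mem' := fun {g h} hg hh v hv => by rw [map_mul, Module.End.mul_apply, hh v hv, hg v hv]
  inv_mem' := fun {g} hg v hv => by
    calc ρ g⁻¹ v = ρ g⁻¹ (ρ g v) := by rw [hg v hv]
      _ = v := by rw [← Module.End.mul_apply, sigma_inv_mul, Module.End.one_apply]

theorem eq_zero_of_three {w : Fin 3 → V} (χ : Fin 3 → H → K) (z z' : H)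
    (hw : ∀ i, ρ z (w i) = χ i z • w i) (hw' : ∀ i, ρ z' (w i) = χ i z' • w i)
    (h1 : χ 0 z ≠ χ 1 z) (h2 : χ 0 z' ≠ χ 2 z') (hsum : w 0 + w 1 + w 2 = 0) : w 0 = 0 := by
  have e1 : (χ 0 z - χ 1 z) • w 0 + (χ 2 z - χ 1 z) • w 2 = 0 := by
    have := congrArg (fun v => ρ z v - χ 1 z • v) hsum
    simp only [map_add, hw, map_zero, smul_zero, sub_zero, smul_add] at this
    rw [sub_smul, sub_smul, ← this]
    abel
  have e2 : ((χ 0 z - χ 1 z) * (χ 0 z' - χ 2 z')) • w 0 = 0 := by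
    have := congrArg (fun v => ρ z' v - χ 2 z' • v) e1
    simp only [map_add, map_smul, hw', map_zero, smul_zero, sub_zero, smul_add, smul_smul] at this
    rw [← this, mul_sub, sub_smul]
    rw [mul_comm (χ 2 z') (χ 0 z - χ 1 z), mul_comm (χ 2 z') (χ 2 z - χ 1 z)]
    abel
  exact (smul_eq_zero.mp e2).resolve_left (mul_ne_zero (sub_ne_zero.mpr h1) (sub_ne_zero.mpr h2))

variable [CharP K 3] [FiniteDimensional K V]

/-- A joint eigenvector of commuting involutions, on which a given one is `-1`. -/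
theorem exists_eigen (D : Subgroup H) (hcomm : ∀ z ∈ D, ∀ z' ∈ D, Commute z z')
    (hsq : ∀ z ∈ D, z * z = 1) {z0 : H} (hz0 : z0 ∈ D) (hne : ρ z0 ≠ 1) :
    ∃ (w : V) (χ : H → K), w ≠ 0 ∧ χ z0 = -1 ∧ ∀ z ∈ D, ρ z w = χ z • w ∧ (χ z = 1 ∨ χ z = -1) := by
  classical
  have hz2 : ∀ z ∈ D, ∀ v, ρ z (ρ z v) = v := fun z hz v => by
    rw [← Module.End.mul_apply, ← map_mul, hsq z hz, map_one, Module.End.one_apply]
  have hcv : ∀ z ∈ D, ∀ z' ∈ D, ∀ v, ρ z (ρ z' v) = ρ z' (ρ z v) := fun z hz z' hz' v => by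
    rw [← Module.End.mul_apply, ← map_mul, (hcomm z hz z' hz').eq, map_mul, Module.End.mul_apply]
  let P : Submodule K V → Prop := fun W => W ≠ ⊥ ∧ (∀ z ∈ D, ∀ v ∈ W, ρ z v ∈ W) ∧ ∀ v ∈ W, ρ z0 v = -v
  have hex : ∃ W, P W := by
    refine ⟨LinearMap.ker (ρ z0 + 1), ?_, ?_, fun v hv => ?_⟩
    · intro hbot
      apply hne
      refine LinearMap.ext fun v => ?_
      have hmem : ρ z0 v - v ∈ LinearMap.ker (ρ z0 + 1) := by
        rw [LinearMap.mem_ker, LinearMap.add_apply, Module.End.one_apply, map_sub, hz2 z0 hz0]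
        abel
      rw [hbot, Submodule.mem_bot, sub_eq_zero] at hmem
      exact hmem
    · intro z hz v hv
      rw [LinearMap.mem_ker, LinearMap.add_apply, Module.End.one_apply] at hv ⊢
      rw [hcv z0 hz0 z hz, ← map_add, hv, map_zero]
    · rw [LinearMap.mem_ker, LinearMap.add_apply, Module.End.one_apply] at hv
      exact eq_neg_of_add_eq_zero_left hv
  have hex' : ∃ d, ∃ W, P W ∧ Module.finrank K W = d := by
    obtain ⟨W, hW⟩ := hex
    exact ⟨_, W, hW, rfl⟩
  obtain ⟨W, ⟨hW1, hW2, hW3⟩, hWd⟩ := Nat.find_spec hex'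
  have hsplit : ∀ z ∈ D, (∀ v ∈ W, ρ z v = v) ∨ ∀ v ∈ W, ρ z v = -v := by
    intro z hz
    set W' := W ⊓ LinearMap.ker (ρ z - 1) with hW'
    have hW'm : ∀ v, v ∈ W' ↔ v ∈ W ∧ ρ z v = v := fun v => by
      rw [hW', Submodule.mem_inf, LinearMap.mem_ker, LinearMap.sub_apply, Module.End.one_apply, sub_eq_zero]
    by_cases hb : W' = ⊥
    · right
      intro v hv
      have hmem : v + ρ z v ∈ W' := (hW'm _).mpr
        ⟨add_mem hv (hW2 z hz v hv), by rw [map_add, hz2 z hz, add_comm]⟩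
      rw [hb, Submodule.mem_bot] at hmem
      exact eq_neg_of_add_eq_zero_right hmem
    · left
      have hP : P W' := ⟨hb, fun z' hz' v hv => (hW'm _).mpr
        ⟨hW2 z' hz' v ((hW'm v).mp hv).1, by rw [hcv z hz z' hz', ((hW'm v).mp hv).2]⟩,
        fun v hv => hW3 v ((hW'm v).mp hv).1⟩
      have hle := Nat.find_min' hex' ⟨W', hP, rfl⟩
      rw [← hWd] at hle
      have heq : W' = W := Submodule.eq_of_le_of_finrank_le inf_le_left hle
      intro v hv
      exact ((hW'm v).mp (heq.ge hv)).2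
  obtain ⟨w, hwW, hw0⟩ := Submodule.exists_mem_ne_zero_of_ne_bot hW1
  have h12 : (1 : K) ≠ -1 := fun e => by
    have h3 : ((3 : ℕ) : K) = 0 := CharP.cast_eq_zero K 3
    push_cast at h3
    exact one_ne_zero (α := K) (by linear_combination h3 - e)
  refine ⟨w, fun z => if ρ z w = w then 1 else -1, hw0, ?_, fun z hz => ?_⟩
  · show (if ρ z0 w = w then (1 : K) else -1) = -1
    rw [if_neg]
    intro e
    rw [hW3 w hwW] at e
    have : (2 : K) • w = 0 := by rw [two_smul]; nth_rw 1 [← e]; exact neg_add_cancel w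
    rcases smul_eq_zero.mp this with h | h
    · exact h12 (by linear_combination h)
    · exact hw0 h
  · by_cases h : ρ z w = w
    · exact ⟨by show _ = (if ρ z w = w then (1 : K) else -1) • w; rw [if_pos h, one_smul, h], Or.inl (if_pos h)⟩
    · refine ⟨?_, Or.inr (if_neg h)⟩
      show _ = (if ρ z w = w then (1 : K) else -1) • w
      rw [if_neg h, neg_one_smul]
      exact ((hsplit z hz).resolve_left fun e => h (e w hwW)) w hwW

/-- The `2`-group case. -/
theorem two_case (hinj : Function.Injective ρ) (R B : Subgroup H) (hR2 : IsPGroup 2 R)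
    (hB : IsPGroup 3 B) (hBR : B ≤ Subgroup.normalizer (R : Set H))
    (hrel : ∀ a ∈ ⁅B, B⁆, ∀ b ∈ B, ∀ c ∈ B, (ρ a - 1) * (ρ b - 1) * (ρ c - 1) = 0)
    (hquad : ∀ a ∈ ⁅B, B⁆, ∀ a' ∈ ⁅B, B⁆, (ρ a - 1) * (ρ a' - 1) = 0)
    (Φ : Subgroup H) (hΦR : Φ ≤ R) (hsqΦ : ∀ u ∈ R, u * u ∈ Φ) (hcomΦ : ∀ u ∈ R, ∀ v ∈ R, ⁅u, v⁆ ∈ Φ)
    (hΦA : ∀ z ∈ Φ, ∀ a ∈ ⁅B, B⁆, Commute z a) (hΦR' : ∀ z ∈ Φ, ∀ u ∈ R, Commute z u)
    (hgen : R ≤ ⁅R, ⁅B, B⁆⁆) : R ≤ Subgroup.centralizer ((⁅B, B⁆ : Subgroup H) : Set H) := by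
  classical
  set A := ⁅B, B⁆ with hA
  have hAB : A ≤ B := Subgroup.commutator_le_self B
  have hconjR : ∀ {b : H}, b ∈ B → ∀ {u : H}, u ∈ R → b * u * b⁻¹ ∈ R := fun hb _ hu =>
    (Subgroup.mem_normalizer_iff.mp (hBR hb) _).mp hu
  set D := ⁅R, R⁆ with hD
  have hDΦ : D ≤ Φ := Subgroup.commutator_le.mpr hcomΦ
  have hDsq : ∀ z ∈ D, z * z = 1 := by
    let T : Subgroup H :=
      { carrier := {z | z ∈ Φ ∧ z * z = 1}
        one_mem' := ⟨one_mem _, mul_one 1⟩
        mul_mem' := fun {x y} hx hy => ⟨mul_mem hx.1 hy.1, by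
          have hc : y * x = x * y := (hΦR' y hy.1 x (hΦR hx.1)).eq
          rw [show x * y * (x * y) = x * (y * x) * y by group, hc,
            show x * (x * y) * y = (x * x) * (y * y) by group, hx.2, hy.2, mul_one]⟩
        inv_mem' := fun {x} hx => ⟨inv_mem hx.1, by rw [← mul_inv_rev, hx.2, inv_one]⟩ }
    have hle : D ≤ T := by
      rw [hD, Subgroup.commutator_le]
      intro u hu v hv
      refine ⟨hcomΦ u hu v hv, ?_⟩
      have hc : Commute ⁅u, v⁆ u := hΦR' _ (hcomΦ u hu v hv) u hu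
      have h2 : ⁅u * u, v⁆ = ⁅u, v⁆ * ⁅u, v⁆ := by
        rw [show ⁅u * u, v⁆ = u * ⁅u, v⁆ * u⁻¹ * ⁅u, v⁆ by simp only [commutatorElement_def]; group,
          ← hc.eq, mul_inv_cancel_right]
      rw [← h2, commutatorElement_eq_one_iff_commute]
      exact hΦR' _ (hsqΦ u hu) v hv
    exact fun z hz => (hle hz).2
  by_cases hDbot : D = ⊥
  · intro u hu
    rw [Subgroup.mem_centralizer_iff]
    intro a ha
    rcases subsingleton_or_nontrivial V with hV | hV
    · exact hinj (LinearMap.ext fun v => Subsingleton.elim _ _)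
    have h := core ρ three_end' R B hR2 hB hBR hquad (fun a ha u hu => by
        congr 1
        rw [← (hΦA _ (hsqΦ u hu) a ha).eq, mul_inv_cancel_right])
      (fun u hu v hv => Or.inl (by
        have : ⁅u, v⁆ ∈ D := Subgroup.commutator_mem_commutator hu hv
        rw [hDbot, Subgroup.mem_bot] at this
        rw [this, map_one])) a ha u hu
    exact mul_inv_eq_iff_eq_mul.mp (hinj h)
  exfalso
  obtain ⟨z0, hz0, hz01⟩ := (Subgroup.ne_bot_iff_exists_ne_one).mp hDbot |>.elim
    fun z hz => (⟨(z : H), z.2, fun e => hz (Subtype.ext e)⟩ : ∃ z0 ∈ D, z0 ≠ 1)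
  obtain ⟨w, χ, hw, hχ0, hχ⟩ := exists_eigen ρ D
    (fun z hz z' hz' => hΦR' z (hDΦ hz) z' (hΦR (hDΦ hz'))) hDsq hz0
    (fun e => hz01 (hinj (by rw [e, map_one])))
  let E : Submodule K V := ⨅ z : D, LinearMap.ker (ρ (z : H) - χ (z : H) • 1)
  have hEm : ∀ v, v ∈ E ↔ ∀ z ∈ D, ρ z v = χ z • v := by
    intro v
    simp only [E, Submodule.mem_iInf, LinearMap.mem_ker, LinearMap.sub_apply, LinearMap.smul_apply,
      Module.End.one_apply, sub_eq_zero]
    exact ⟨fun h z hz => h ⟨z, hz⟩, fun h z => h z z.2⟩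
  have hwE : w ∈ E := (hEm w).mpr fun z hz => (hχ z hz).1
  have hDconj : ∀ {b z : H}, b ∈ B → z ∈ D → b⁻¹ * z * b ∈ D := by
    intro b z hb hz
    have hmap : R.map (MulAut.conj b⁻¹).toMonoidHom ≤ R := by
      rintro _ ⟨x, hx, rfl⟩
      exact hconjR (inv_mem hb) hx
    have := Subgroup.mem_map_of_mem (MulAut.conj b⁻¹).toMonoidHom hz
    rw [hD, Subgroup.map_commutator] at this
    simpa using Subgroup.commutator_mono hmap hmap this
  have hcen : ∀ {g : H}, (∀ z ∈ D, Commute z g) → g ∈ stab ρ E := by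
    have key : ∀ g : H, (∀ z ∈ D, Commute z g) → ∀ x, x ∈ E → ρ g x ∈ E := by
      intro g hg x hx
      rw [hEm] at hx ⊢
      intro z hz
      rw [← Module.End.mul_apply, ← map_mul, (hg z hz).eq, map_mul, Module.End.mul_apply, hx z hz, map_smul]
    intro g hg v
    refine ⟨fun h => ?_, key g hg v⟩
    have := key g⁻¹ (fun z hz => (hg z hz).inv_right) _ h
    rwa [← Module.End.mul_apply, sigma_inv_mul, Module.End.one_apply] at this
  have hRE : R ≤ stab ρ E := fun u hu => hcen fun z hz => hΦR' z (hDΦ hz) u hu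
  -- nothing in `⁅R, A⁆ = R` may fix `E`
  have hnofix : ¬ ∀ a ∈ A, ∀ u ∈ R, ∀ v ∈ E, ρ (a * u * a⁻¹) v = ρ u v := by
    intro h
    have hle : ⁅R, A⁆ ≤ fixer ρ E := by
      rw [Subgroup.commutator_le]
      intro u hu a ha v hv
      have hu' : ρ u⁻¹ v ∈ E := ((hRE (inv_mem hu)) v).mpr hv
      have := h a ha u⁻¹ (inv_mem hu) v hv
      rw [show ⁅u, a⁆ = u * (a * u⁻¹ * a⁻¹) by simp only [commutatorElement_def]; group, map_mul,
        Module.End.mul_apply, this, ← Module.End.mul_apply, sigma_mul_inv, Module.End.one_apply]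
    have hfix := hle (hgen (Subgroup.commutator_le_self R hz0)) w hwE
    rw [(hχ z0 hz0).1, hχ0, neg_one_smul] at hfix
    have h2w : (2 : K) • w = 0 := by rw [two_smul]; nth_rw 1 [← hfix]; exact neg_add_cancel w
    rcases smul_eq_zero.mp h2w with h | h
    · have h3 : ((3 : ℕ) : K) = 0 := CharP.cast_eq_zero K 3
      push_cast at h3
      exact one_ne_zero (α := K) (by linear_combination h3 - h)
    · exact hw h
  -- `B` fixes the character
  have hBfix : ∀ b ∈ B, ∀ z ∈ D, χ (b⁻¹ * z * b) = χ z := by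
    by_contra hmove
    push Not at hmove
    obtain ⟨b, hb, z1, hz1, hne1⟩ := hmove
    have hne2 : ∃ z ∈ D, χ ((b * b)⁻¹ * z * (b * b)) ≠ χ z := by
      by_contra h
      push Not at h
      apply hne1
      have hpow : ∀ j : ℕ, ∀ z ∈ D, χ (((b * b) ^ j)⁻¹ * z * (b * b) ^ j) = χ z := by
        intro j
        induction j with
        | zero => intro z _; simp
        | succ j ih =>
          intro z hz
          have hbj : (b * b) ^ j ∈ B := pow_mem (mul_mem hb hb) j
          rw [pow_succ, mul_inv_rev,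
            show (b * b)⁻¹ * ((b * b) ^ j)⁻¹ * z * ((b * b) ^ j * (b * b)) =
              (b * b)⁻¹ * (((b * b) ^ j)⁻¹ * z * (b * b) ^ j) * (b * b) by group,
            h _ (hDconj hbj hz), ih z hz]
      obtain ⟨k, hk⟩ := hB ⟨b, hb⟩
      have hk' : b ^ 3 ^ k = 1 := congrArg Subtype.val hk
      obtain ⟨m, hm⟩ : Odd (3 ^ k) := Odd.pow (by decide)
      have hbb : (b * b) ^ (m + 1) = b := by
        rw [← pow_two, ← pow_mul, show 2 * (m + 1) = 3 ^ k + 1 by omega, pow_succ, hk', one_mul]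
      have := hpow (m + 1) z1 hz1
      rwa [hbb] at this
    obtain ⟨z2, hz2, hne2'⟩ := hne2
    apply hnofix
    have hfixA : ∀ a ∈ A, ∀ v ∈ E, ρ a v = v := by
      intro a ha v hv
      have hvE := (hEm v).mp hv
      let w3 : Fin 3 → V := ![ρ a v - v, (-2 : K) • (ρ a (ρ b v) - ρ b v), ρ a (ρ b (ρ b v)) - ρ b (ρ b v)]
      let χ3 : Fin 3 → H → K := ![χ, fun z => χ (b⁻¹ * z * b), fun z => χ ((b * b)⁻¹ * z * (b * b))]
      have heig : ∀ g ∈ B, ∀ z ∈ D, ρ z (ρ g v) = χ (g⁻¹ * z * g) • ρ g v := by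
        intro g hg z hz
        have h1 := hvE _ (hDconj hg hz)
        calc ρ z (ρ g v) = ρ g (ρ (g⁻¹ * z * g) v) := by
              rw [← Module.End.mul_apply, ← map_mul, ← Module.End.mul_apply, ← map_mul]
              congr 2; group
          _ = _ := by rw [h1, map_smul]
      have heig2 : ∀ z ∈ D, ∀ (u : V) (c : K), ρ z u = c • u → ρ z (ρ a u - u) = c • (ρ a u - u) := by
        intro z hz u c hu
        rw [map_sub, ← Module.End.mul_apply, ← map_mul, (hΦA z (hDΦ hz) a ha).eq, map_mul,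
          Module.End.mul_apply, hu, map_smul, smul_sub]
      have hw3 : ∀ z ∈ D, ∀ i, ρ z (w3 i) = χ3 i z • w3 i := by
        intro z hz i
        fin_cases i
        · exact heig2 z hz v _ (hvE z hz)
        · show ρ z ((-2 : K) • (ρ a (ρ b v) - ρ b v)) = χ (b⁻¹ * z * b) • ((-2 : K) • (ρ a (ρ b v) - ρ b v))
          rw [map_smul, heig2 z hz _ _ (heig b hb z hz), smul_comm]
        · show ρ z (ρ a (ρ b (ρ b v)) - ρ b (ρ b v)) =
            χ ((b * b)⁻¹ * z * (b * b)) • (ρ a (ρ b (ρ b v)) - ρ b (ρ b v))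
          refine heig2 z hz _ _ ?_
          have := heig (b * b) (mul_mem hb hb) z hz
          rwa [map_mul, Module.End.mul_apply] at this
      have hsum : w3 0 + w3 1 + w3 2 = 0 := by
        show (ρ a v - v) + (-2 : K) • (ρ a (ρ b v) - ρ b v) + (ρ a (ρ b (ρ b v)) - ρ b (ρ b v)) = 0
        have h := congrArg (fun f : Module.End K V => f v) (hrel a ha b hb b hb)
        simp only [Module.End.mul_apply, LinearMap.sub_apply, Module.End.one_apply, map_sub, LinearMap.zero_apply] at h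
        rw [neg_smul, two_smul]
        rw [← h]
        abel
      have h := eq_zero_of_three ρ χ3 z1 z2 (hw3 z1 hz1) (hw3 z2 hz2) (fun e => hne1 e.symm)
        (fun e => hne2' e.symm) hsum
      exact sub_eq_zero.mp h
    intro a ha u hu v hv
    rw [show a * u * a⁻¹ = a * (u * a⁻¹) by group, map_mul, map_mul, Module.End.mul_apply,
      Module.End.mul_apply, hfixA a⁻¹ (inv_mem ha) v hv, hfixA a ha _ (((hRE hu) v).mpr hv)]
  have hBE : B ≤ stab ρ E := by
    intro b hb v
    rw [hEm, hEm]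
    have key : ∀ g ∈ B, ∀ x, (∀ z ∈ D, ρ z x = χ z • x) → ∀ z ∈ D, ρ z (ρ g x) = χ z • ρ g x := by
      intro g hg x hx z hz
      calc ρ z (ρ g x) = ρ g (ρ (g⁻¹ * z * g) x) := by
            rw [← Module.End.mul_apply, ← map_mul, ← Module.End.mul_apply, ← map_mul]
            congr 2; group
        _ = _ := by rw [hx _ (hDconj hg hz), map_smul, hBfix g hg z hz]
    refine ⟨fun h => ?_, key b hb v⟩
    have := key b⁻¹ (inv_mem hb) _ h
    rwa [← Module.End.mul_apply, sigma_inv_mul, Module.End.one_apply] at this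
  -- restrict to `E`
  haveI : Nontrivial E := ⟨⟨⟨w, hwE⟩, 0, fun e => hw (congrArg Subtype.val e)⟩⟩
  set S := stab ρ E with hS
  apply hnofix
  intro a ha u hu v hv
  have hBR' : B.subgroupOf S ≤ Subgroup.normalizer ((R.subgroupOf S : Subgroup S) : Set S) := by
    intro b hb
    rw [Subgroup.mem_normalizer_iff]
    intro x
    show (x : H) ∈ R ↔ (b : H) * x * (b : H)⁻¹ ∈ R
    exact Subgroup.mem_normalizer_iff.mp (hBR hb) x
  have hcommB : (⁅B.subgroupOf S, B.subgroupOf S⁆).map S.subtype = A := by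
    rw [Subgroup.map_commutator, Subgroup.subgroupOf_map_subtype, inf_eq_left.mpr hBE]
  have hin : ∀ {x : S}, x ∈ ⁅B.subgroupOf S, B.subgroupOf S⁆ → (x : H) ∈ A := fun hx =>
    hcommB.le ⟨_, hx, rfl⟩
  have h := core (stabRep ρ E) (three_end E) (R.subgroupOf S) (B.subgroupOf S)
    (hR2.of_equiv (Subgroup.subgroupOfEquivOfLe hRE).symm)
    (hB.of_equiv (Subgroup.subgroupOfEquivOfLe hBE).symm) hBR'
    (fun x hx y hy => LinearMap.ext fun v => Subtype.ext (by
      have := congrArg (fun f : Module.End K V => f (v : V)) (hquad _ (hin hx) _ (hin hy))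
      simpa [stabRep_apply] using this))
    (fun x hx y hy => by
      congr 1
      apply Subtype.ext
      show (x : H) * ((y : H) * y) * (x : H)⁻¹ = (y : H) * y
      rw [← (hΦA ((y : H) * y) (hsqΦ _ hy) _ (hin hx)).eq, mul_inv_cancel_right])
    (fun x hx y hy => by
      have hz : ⁅(x : H), (y : H)⁆ ∈ D := Subgroup.commutator_mem_commutator hx hy
      rcases (hχ _ hz).2 with e | e
      · left
        refine LinearMap.ext fun v => Subtype.ext ?_
        show ρ ⁅(x : H), (y : H)⁆ v = v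
        rw [(hEm v).mp v.2 _ hz, e, one_smul]
      · right
        refine LinearMap.ext fun v => Subtype.ext ?_
        show ρ ⁅(x : H), (y : H)⁆ v = -(v : V)
        rw [(hEm v).mp v.2 _ hz, e, neg_one_smul])
  obtain ⟨a', ha', ha''⟩ := hcommB.ge ha
  have h2 := congrArg (fun f : Module.End K E => ((f ⟨v, hv⟩ : E) : V)) (h a' ha' ⟨u, hRE hu⟩ hu)
  subst ha''
  exact h2

theorem le_of_exists_sylow_le {G : Type*} [Group G] [Finite G] {N X : Subgroup G}
    (h : ∀ p : ℕ, p.Prime → ∃ P : Sylow p N, (P : Subgroup N).map N.subtype ≤ X) : N ≤ X := by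
  rw [← Subgroup.subgroupOf_eq_top]
  refine Subgroup.eq_top_of_card_eq _ (Nat.dvd_antisymm (Subgroup.card_subgroup_dvd_card _) ?_)
  rw [← Nat.factorization_prime_le_iff_dvd Nat.card_pos.ne' Nat.card_pos.ne']
  intro p hp
  haveI := Fact.mk hp
  obtain ⟨P, hP⟩ := h p hp
  have hd := Subgroup.card_dvd_of_le (show (P : Subgroup N) ≤ X.subgroupOf N from fun x hx => hP ⟨x, hx, rfl⟩)
  rw [P.card_eq_multiplicity] at hd
  exact (hp.pow_dvd_iff_le_factorization Nat.card_pos.ne').mp hd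

/-- The `3`-group `B` with `[V, B, B, B'] = 0` is abelian. -/
theorem commutator_eq_bot {n : ℕ} {H : Type*} [Group H] [Finite H]
    (ρ : H →* Module.End (AlgebraicClosure (ZMod 3)) (Fin n → AlgebraicClosure (ZMod 3)))
    [Fact (Nat.Prime 3)] (hinj : Function.Injective ρ) (hs : IsPSolvable 3 H) (hO : pCore 3 H = ⊥)
    (B : Subgroup H) (hB : IsPGroup 3 B)
    (hrel : ∀ a ∈ ⁅B, B⁆, ∀ b ∈ B, ∀ c ∈ B, (ρ a - 1) * (ρ b - 1) * (ρ c - 1) = 0) : ⁅B, B⁆ = ⊥ := by
  classical
  set A := ⁅B, B⁆ with hA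
  have hAB : A ≤ B := Subgroup.commutator_le_self B
  have hquad : ∀ a ∈ A, ∀ a' ∈ A, (ρ a - 1) * (ρ a' - 1) = 0 := by
    intro a ha
    let T : Subgroup H :=
      { carrier := {x | (ρ a - 1) * (ρ x - 1) = 0}
        one_mem' := by simp
        mul_mem' := fun {x y} hx hy => by
          show (ρ a - 1) * (ρ (x * y) - 1) = 0
          rw [map_mul, show ρ x * ρ y - 1 = (ρ x - 1) * ρ y + (ρ y - 1) by rw [sub_mul, one_mul]; abel, mul_add,
            ← mul_assoc, show (ρ a - 1) * (ρ x - 1) = 0 from hx,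
            show (ρ a - 1) * (ρ y - 1) = 0 from hy, zero_mul, add_zero]
        inv_mem' := fun {x} hx => by
          show (ρ a - 1) * (ρ x⁻¹ - 1) = 0
          have e : (ρ x - 1) * ρ x⁻¹ = 1 - ρ x⁻¹ := by
            rw [sub_mul, sigma_mul_inv, one_mul]
          have h0 : (ρ a - 1) * ((ρ x - 1) * ρ x⁻¹) = 0 := by
            rw [← mul_assoc, show (ρ a - 1) * (ρ x - 1) = 0 from hx, zero_mul]
          rw [e, mul_sub] at h0
          rw [mul_sub]
          exact sub_eq_zero.mpr (sub_eq_zero.mp h0).symm }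
    have hle : A ≤ T := by
      rw [hA, Subgroup.commutator_le]
      intro b hb c hc
      show (ρ a - 1) * (ρ ⁅b, c⁆ - 1) = 0
      have e : ρ ⁅b, c⁆ - 1 = (ρ b * ρ c - ρ c * ρ b) * ρ (b⁻¹ * c⁻¹) := by
        rw [sub_mul, ← map_mul, ← map_mul, ← map_mul, ← map_mul,
          show c * b * (b⁻¹ * c⁻¹) = 1 by group, map_one,
          show b * c * (b⁻¹ * c⁻¹) = ⁅b, c⁆ by simp only [commutatorElement_def]; group]
      have e2 : ρ b * ρ c - ρ c * ρ b = (ρ b - 1) * (ρ c - 1) - (ρ c - 1) * (ρ b - 1) := by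
        simp only [sub_mul, mul_sub, one_mul, mul_one]; abel
      rw [e, e2, ← mul_assoc, mul_sub, ← mul_assoc, ← mul_assoc, hrel a ha b hb c hc, hrel a ha c hc b hb,
        sub_zero, zero_mul]
    exact fun a' ha' => hle ha'
  by_contra hAne
  obtain ⟨⟨a0, ha0⟩, ha01⟩ := (Subgroup.ne_bot_iff_exists_ne_one).mp hAne
  set Q := pPrimeCore 3 H with hQ
  have hBQ : B ≤ Subgroup.normalizer (Q : Set H) := by
    rw [Subgroup.normalizer_eq_top]; exact le_top
  have hQ3 : (Nat.card Q).Coprime 3 := H10.pPrimeCore_coprime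
  obtain ⟨kB, hkB⟩ := hB.exists_card_eq
  have hcopBQ : (Nat.card B).Coprime (Nat.card Q) := by rw [hkB]; exact hQ3.symm.pow_left kB
  have hnc : ¬ A ≤ Subgroup.centralizer (Q : Set H) := by
    intro h
    have h1 := (H10.centralizer_pPrimeCore_le hs hO) (h ha0)
    have hbot := H10.inf_eq_bot_of_isPGroup_coprime (P := A) (Q := Q) (hB.to_le hAB) hQ3
    exact ha01 (Subtype.ext (Subgroup.mem_bot.mp (hbot ▸ ⟨ha0, h1⟩)))
  -- an invariant Sylow subgroup not centralised by `A`
  obtain ⟨q, hq, R0, hR0q, hR0Q, hR0n, hR0c⟩ : ∃ q, q.Prime ∧ ∃ R : Subgroup H, IsPGroup q R ∧ R ≤ Q ∧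
      B ≤ Subgroup.normalizer (R : Set H) ∧ ¬ A ≤ Subgroup.centralizer (R : Set H) := by
    by_contra hcon
    push Not at hcon
    apply hnc
    rw [Subgroup.le_centralizer_iff]
    refine le_of_exists_sylow_le fun q hq => ?_
    haveI := Fact.mk hq
    haveI : Group.IsNilpotent B := hB.isNilpotent
    obtain ⟨P', hP'⟩ := H1.exists_invariant_sylow (A := B) (K := Q) hBQ hcopBQ
      (Or.inl inferInstance) q
    have hall := hcon q hq _ (P'.isPGroup'.map Q.subtype) (Subgroup.map_subtype_le _) hP'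
    rw [Subgroup.le_centralizer_iff] at hall
    exact ⟨P', hall⟩
  haveI := Fact.mk hq
  -- a minimal one
  have hex : ∃ m, ∃ R : Subgroup H, (IsPGroup q R ∧ R ≤ Q ∧ B ≤ Subgroup.normalizer (R : Set H) ∧
      ¬ A ≤ Subgroup.centralizer (R : Set H)) ∧ Nat.card R = m := ⟨_, R0, ⟨hR0q, hR0Q, hR0n, hR0c⟩, rfl⟩
  obtain ⟨R, ⟨hRq, hRQ, hRn, hRc⟩, hRm⟩ := Nat.find_spec hex
  have hmin : ∀ X : Subgroup H, X < R → B ≤ Subgroup.normalizer (X : Set H) →
      A ≤ Subgroup.centralizer (X : Set H) := by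
    intro X hX hXn
    by_contra hXc
    have hle := Nat.find_min' hex ⟨X, ⟨hRq.to_le hX.le, hX.le.trans hRQ, hXn, hXc⟩, rfl⟩
    rw [← hRm] at hle
    exact hX.ne (Subgroup.eq_of_le_of_card_ge hX.le hle)
  obtain ⟨a, ha, hac⟩ := SetLike.not_le_iff_exists.mp hRc
  have hR3 : (Nat.card R).Coprime 3 := hQ3.coprime_dvd_left (Subgroup.card_dvd_of_le hRQ)
  by_cases hq2 : q = 2
  swap
  · -- an abelian Sylow `2`-subgroup
    have haR : Subgroup.zpowers a ≤ Subgroup.normalizer (R : Set H) := Subgroup.zpowers_le.mpr (hRn (hAB ha))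
    set T := R ⊔ Subgroup.zpowers a
    haveI hRT : (R.subgroupOf T).Normal :=
      Subgroup.normal_subgroupOf_of_le_normalizer (sup_le Subgroup.le_normalizer haR)
    have ha3 : a ^ 3 = 1 := hinj (by
      rw [map_pow, map_one, pow_succ, pow_two]
      exact quad_cube ρ three_end' (hquad a ha a ha))
    have hodd : ¬ 2 ∣ Nat.card T := by
      intro h2
      have hd := H10.card_sup_dvd_mul (R.subgroupOf T) ((Subgroup.zpowers a).subgroupOf T)
      rw [← Subgroup.subgroupOf_sup le_sup_left le_sup_right, Subgroup.subgroupOf_self, Subgroup.card_top,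
        Nat.card_congr (Subgroup.subgroupOfEquivOfLe le_sup_left).toEquiv,
        Nat.card_congr (Subgroup.subgroupOfEquivOfLe le_sup_right).toEquiv, Nat.card_zpowers] at hd
      rcases Nat.prime_two.dvd_mul.mp (h2.trans hd) with h | h
      · obtain ⟨k, hk⟩ := hRq.exists_card_eq
        rw [hk] at h
        exact hq2 ((Nat.prime_dvd_prime_iff_eq Nat.prime_two hq).mp (Nat.prime_two.dvd_of_dvd_pow h)).symm
      · have := (Nat.prime_dvd_prime_iff_eq Nat.prime_two Nat.prime_three).mp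
          (h.trans (orderOf_dvd_of_pow_eq_one ha3))
        norm_num at this
    have hab : ∀ S : Sylow 2 T, IsMulCommutative S := by
      intro S
      haveI := Fact.mk Nat.prime_two
      have hbot : (S : Subgroup T) = ⊥ := by
        obtain ⟨k, hk⟩ := S.isPGroup'.exists_card_eq
        rcases Nat.eq_zero_or_pos k with rfl | h
        · exact Subgroup.card_eq_one.mp (hk.trans (pow_zero 2))
        · exact absurd (((dvd_pow_self 2 h.ne').trans (dvd_of_eq hk.symm)).trans
            (Subgroup.card_subgroup_dvd_card _)) hodd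
      refine ⟨⟨fun x y => Subtype.ext ?_⟩⟩
      have hx : (x : T) = 1 := Subgroup.mem_bot.mp (hbot ▸ x.2)
      have hy : (y : T) = 1 := Subgroup.mem_bot.mp (hbot ▸ y.2)
      rw [Subgroup.coe_mul, Subgroup.coe_mul, hx, hy]
    have hmem := H10.end_mem_pCore_of_comm (p := 3) (ρ := ρ.comp T.subtype) (by norm_num)
      (hinj.comp T.subtype_injective) hab (a := ⟨a, Subgroup.mem_sup_right (Subgroup.mem_zpowers a)⟩)
      (hquad a ha a ha)
    apply hac
    rw [Subgroup.mem_centralizer_iff]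
    intro r hr
    have hdis : Disjoint (R.subgroupOf T) (pCore 3 T) := by
      rw [disjoint_comm, disjoint_iff]
      refine H10.inf_eq_bot_of_isPGroup_coprime H10.pCore_isPGroup ?_
      rw [Nat.card_congr (Subgroup.subgroupOfEquivOfLe (le_sup_left : R ≤ T)).toEquiv]
      exact hR3
    exact congrArg Subtype.val (Subgroup.commute_of_normal_of_disjoint _ _ hRT inferInstance hdis
      ⟨r, Subgroup.mem_sup_left hr⟩ _ hr hmem).eq
  -- `q = 2`
  subst hq2
  have hBA : A ≤ Subgroup.normalizer (R : Set H) := hAB.trans hRn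
  have hRne : R ≠ ⊥ := fun h => hac (by
    rw [Subgroup.mem_centralizer_iff, h]
    intro x hx
    rw [Subgroup.mem_bot.mp hx]; group)
  haveI : Nontrivial R := (Subgroup.nontrivial_iff_ne_bot R).mpr hRne
  set Φ := (frattini R).map R.subtype with hΦ
  have hΦR : Φ ≤ R := Subgroup.map_subtype_le _
  have hBΦ : B ≤ Subgroup.normalizer (Φ : Set H) := hRn.trans (Cfsg.Comp.le_normalizer_map_subtype _)
  have hΦlt : Φ < R := by
    refine lt_of_le_of_ne hΦR fun h => ?_
    have htop : frattini R = ⊤ := by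
      apply Subgroup.map_injective R.subtype_injective
      rw [← MonoidHom.range_eq_map, Subgroup.range_subtype]
      exact h
    have hb : (⊥ : Subgroup R) = ⊤ := frattini_nongenerating (by rw [htop, sup_top_eq])
    exact bot_ne_top hb
  have hΦA : ∀ z ∈ Φ, ∀ a ∈ A, Commute z a := fun z hz a ha =>
    Subgroup.mem_centralizer_iff.mp (hmin Φ hΦlt hBΦ ha) z hz
  -- `R = [R, A]`
  have hle : ⁅R, A⁆ ≤ R := H1.commutator_le_left_of_le_normalizer hBA
  have hgen : R ≤ ⁅R, A⁆ := by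
    by_contra hno
    have hlt : ⁅R, A⁆ < R := lt_of_le_of_ne hle fun h => hno h.ge
    have hn : B ≤ Subgroup.normalizer ((⁅R, A⁆ : Subgroup H) : Set H) := by
      intro b hb
      refine Subgroup.mem_normalizer_fintype fun x hx => ?_
      have h1 := Subgroup.mem_map_of_mem (MulAut.conj b).toMonoidHom hx
      rw [Subgroup.map_commutator] at h1
      refine Subgroup.commutator_mono ?_ ?_ h1
      · rintro _ ⟨y, hy, rfl⟩
        exact (Subgroup.mem_normalizer_iff.mp (hRn hb) y).mp hy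
      · rintro _ ⟨y, hy, rfl⟩
        exact conj_mem_commutator hb hy
    have hc := hmin _ hlt hn
    apply hac
    rw [Subgroup.mem_centralizer_iff]
    intro r hr
    have hw : ⁅r, a⁆ ∈ ⁅R, A⁆ := Subgroup.commutator_mem_commutator hr ha
    have hcomm : Commute ⁅r, a⁆ a := Subgroup.mem_centralizer_iff.mp (hc ha) _ hw
    have ha3 : a ^ 3 = 1 := hinj (by
      rw [map_pow, map_one, pow_succ, pow_two]
      exact quad_cube ρ three_end' (hquad a ha a ha))
    have hw3 : ⁅r, a⁆ ^ 3 = 1 := by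
      have e : r * a * r⁻¹ = ⁅r, a⁆ * a := by simp only [commutatorElement_def]; group
      have := congrArg (· ^ 3) e
      simp only [conj_pow, hcomm.mul_pow, ha3, mul_one, mul_inv_cancel] at this
      exact this.symm
    obtain ⟨k, hk⟩ := hRq ⟨_, hle hw⟩
    have hk' : ⁅r, a⁆ ^ 2 ^ k = 1 := congrArg Subtype.val hk
    have h1 : ⁅r, a⁆ = 1 := orderOf_eq_one_iff.mp (Nat.eq_one_of_dvd_coprimes
      (Nat.Coprime.pow_left k (show Nat.Coprime 2 3 by norm_num))
      (orderOf_dvd_of_pow_eq_one hk') (orderOf_dvd_of_pow_eq_one hw3))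
    exact (commutatorElement_eq_one_iff_mul_comm.mp h1)
  have hcom : ∀ u ∈ R, ∀ v ∈ R, ⁅u, v⁆ ∈ Φ := fun u hu v hv =>
    ⟨⁅(⟨u, hu⟩ : R), ⟨v, hv⟩⁆, H6.commutator_le_frattini hRq
      (Subgroup.commutator_mem_commutator (Subgroup.mem_top _) (Subgroup.mem_top _)), rfl⟩
  have hΦR' : ∀ z ∈ Φ, ∀ u ∈ R, Commute z u := by
    have hΦn : ⁅R, Φ⁆ ≤ Φ := by
      rw [Subgroup.commutator_le]
      intro u hu z hz
      exact hcom u hu z (hΦR hz)
    have h1 : ⁅⁅Φ, A⁆, R⁆ = ⊥ := by
      rw [Subgroup.commutator_eq_bot_iff_le_centralizer.mpr (fun z hz =>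
        Subgroup.mem_centralizer_iff.mpr fun a ha => ((hΦA z hz a ha).eq).symm),
        Subgroup.commutator_bot_left]
    have h2 : ⁅⁅R, Φ⁆, A⁆ = ⊥ := by
      rw [eq_bot_iff]
      refine (Subgroup.commutator_mono hΦn le_rfl).trans (le_of_eq ?_)
      exact Subgroup.commutator_eq_bot_iff_le_centralizer.mpr fun z hz =>
        Subgroup.mem_centralizer_iff.mpr fun a ha => ((hΦA z hz a ha).eq).symm
    have h3 : ⁅⁅A, R⁆, Φ⁆ = ⊥ := Subgroup.commutator_commutator_eq_bot_of_rotate h2 h1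
    rw [Subgroup.commutator_comm A R, le_antisymm hle hgen] at h3
    intro z hz u hu
    exact (Cfsg.Comp.commute_of_commutator_eq_bot h3 hu hz).symm
  have h := two_case ρ hinj R B hRq hB hRn hrel hquad Φ hΦR
    (fun u hu => ⟨(⟨u, hu⟩ : R) ^ 2, H6.pow_prime_mem_frattini hRq _, by simp [pow_two]⟩) hcom hΦA hΦR' hgen
  exact hRc (Subgroup.le_centralizer_iff.mp h)

end H32.HH
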