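import Cfsg.Agent.H32.HalfFixCount

/-!
Small lemmas for the bound on fixed spaces: ranks, the commuting algebra, pairings on an elementary
abelian section.
-/

set_option autoImplicit false
set_option linter.style.haveILetI false

namespace H32.HalfFix

theorem finrank_range_mul_le {K X : Type*} [Field K] [AddCommGroup X] [Module K X]
    [FiniteDimensional K X] (a P b : Module.End K X) :
    Module.finrank K (LinearMap.range (a * P * b)) ≤ Module.finrank K (LinearMap.range P) := by
  rw [mul_assoc, Module.End.mul_eq_comp, LinearMap.range_comp]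
  refine (Submodule.finrank_map_le _ _).trans (Submodule.finrank_mono ?_)
  rw [Module.End.mul_eq_comp]
  exact LinearMap.range_comp_le_range _ _

/-- The operators commuting with `T` contain `Hom(V / im (T - 1), ker (T - 1))` and the scalars. -/
theorem sq_add_one_le_finrank_commute {K V : Type*} [Field K] [AddCommGroup V] [Module K V]
    [FiniteDimensional K V] (T : Module.End K V) (hT : T ≠ 1)
    (Φ : Module.End K (Module.End K V)) (hΦ : ∀ S, T * S = S * T → Φ S = S) :
    Module.finrank K (LinearMap.ker (T - 1)) ^ 2 + 1 ≤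
      Module.finrank K (LinearMap.ker (Φ - 1)) := by
  set F := LinearMap.ker (T - 1) with hF
  set R := LinearMap.range (T - 1) with hR
  let mk : ((V ⧸ R) →ₗ[K] F) × K →ₗ[K] Module.End K V :=
    { toFun := fun p => F.subtype ∘ₗ p.1 ∘ₗ R.mkQ + p.2 • 1
      map_add' := fun p p' => by
        ext v
        simp [add_smul]
        abel
      map_smul' := fun c p => by
        ext v
        simp [smul_add, smul_smul] }
  have hmem : ∀ p, mk p ∈ LinearMap.ker (Φ - 1) := by
    intro p
    rw [LinearMap.mem_ker, LinearMap.sub_apply, sub_eq_zero, Module.End.one_apply]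
    refine hΦ _ ?_
    refine LinearMap.ext fun v => ?_
    have h1 : T ((p.1 (R.mkQ v) : F) : V) = ((p.1 (R.mkQ v) : F) : V) := by
      have := LinearMap.mem_ker.mp (p.1 (R.mkQ v)).2
      rwa [LinearMap.sub_apply, sub_eq_zero] at this
    have h2 : R.mkQ (T v) = R.mkQ v := by
      rw [← sub_eq_zero, ← map_sub]
      exact (Submodule.Quotient.mk_eq_zero R).mpr ⟨v, by simp⟩
    show T (F.subtype (p.1 (R.mkQ v)) + p.2 • v) = F.subtype (p.1 (R.mkQ (T v))) + p.2 • T v
    rw [map_add, map_smul, h2]
    exact congrArg (· + _) h1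
  have hinj : Function.Injective (mk.codRestrict _ hmem) := by
    rw [← LinearMap.ker_eq_bot, LinearMap.ker_codRestrict, eq_bot_iff]
    rintro ⟨φ, c⟩ h
    have hv : ∀ v, ((φ (R.mkQ v) : F) : V) + c • v = 0 := fun v => LinearMap.congr_fun (LinearMap.mem_ker.mp h) v
    have hc : c = 0 := by
      by_contra hc
      apply hT
      refine LinearMap.ext fun v => ?_
      have hmemF : c • v ∈ F := by
        rw [eq_neg_of_add_eq_zero_right (hv v)]
        exact neg_mem (φ (R.mkQ v)).2
      have hvF : v ∈ F := (Submodule.smul_mem_iff F hc).mp hmemF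
      have := LinearMap.mem_ker.mp hvF
      rwa [LinearMap.sub_apply, sub_eq_zero] at this
    have hφ : φ = 0 := by
      refine LinearMap.ext fun u => ?_
      obtain ⟨v, rfl⟩ := R.mkQ_surjective u
      have := hv v
      rw [hc, zero_smul, add_zero] at this
      exact Subtype.ext this
    rw [hc, hφ]
    exact Submodule.zero_mem _
  have h1 := LinearMap.finrank_le_finrank_of_injective hinj
  rw [Module.finrank_prod, Module.finrank_linearMap, Module.finrank_self] at h1
  have hq : Module.finrank K (V ⧸ R) = Module.finrank K F := by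
    have e1 := Submodule.finrank_quotient_add_finrank R
    have e2 := LinearMap.finrank_range_add_finrank_ker (T - 1)
    rw [← hR, ← hF] at e2
    omega
  rw [hq, ← pow_two] at h1
  exact h1

/-- A minimal normal abelian subgroup is elementary abelian. -/
theorem pow_eq_one_of_minimal {G : Type*} [Group G] [Finite G] (A : Subgroup G) [A.Normal]
    [IsMulCommutative A] (hne : A ≠ ⊥)
    (hmin : ∀ N : Subgroup G, N.Normal → N ≤ A → N ≠ ⊥ → N = A) :
    ∃ q : ℕ, q.Prime ∧ ∀ a ∈ A, a ^ q = 1 := by
  classical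
  have hcard : Nat.card A ≠ 1 := fun h => hne (Subgroup.card_eq_one.mp h)
  obtain ⟨q, hq, hdvd⟩ := Nat.exists_prime_and_dvd hcard
  haveI := Fact.mk hq
  obtain ⟨a, ha⟩ := exists_prime_orderOf_dvd_card' q hdvd
  have hc : ∀ u ∈ A, ∀ v ∈ A, Commute u v := fun u hu v hv =>
    congrArg Subtype.val ((inferInstance : IsMulCommutative A).is_comm.comm ⟨u, hu⟩ ⟨v, hv⟩)
  let T : Subgroup G :=
    { carrier := {u | u ∈ A ∧ u ^ q = 1}
      one_mem' := ⟨A.one_mem, one_pow q⟩
      mul_mem' := fun {u v} hu hv => ⟨A.mul_mem hu.1 hv.1, by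
        rw [(hc u hu.1 v hv.1).mul_pow, hu.2, hv.2, one_mul]⟩
      inv_mem' := fun {u} hu => ⟨A.inv_mem hu.1, by rw [inv_pow, hu.2, inv_one]⟩ }
  have hTn : T.Normal := ⟨fun u hu g => ⟨(inferInstance : A.Normal).conj_mem u hu.1 g, by
    rw [conj_pow, hu.2, mul_one, mul_inv_cancel]⟩⟩
  have haT : (a : G) ∈ T := ⟨a.2, by
    rw [← Subgroup.coe_pow, ← ha, pow_orderOf_eq_one, OneMemClass.coe_one]⟩
  have hT : T = A := hmin T hTn (fun u hu => hu.1) (fun h => by
    have : a = 1 := Subtype.ext (Subgroup.mem_bot.mp (h ▸ haT))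
    rw [this, orderOf_one] at ha
    exact hq.one_lt.ne ha)
  exact ⟨q, hq, fun u hu => (hT.ge hu).2⟩

/-- An automorphism of prime order `p > 3` of a group of exponent `q` with a nondegenerate
invariant alternating pairing: its fixed points are few, or it is a transvection. -/
theorem fixed_bound {W M : Type*} [CommGroup W] [Finite W] [CommGroup M] {q p : ℕ} (hq : q.Prime)
    (hp : p.Prime) (hp3 : 3 < p) (hexp : ∀ w : W, w ^ q = 1) (χ : W →* (W →* M))
    (hinj : Function.Injective χ) (halt : ∀ w, χ w w = 1) (φ : W ≃* W)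
    (hinv : ∀ u w, χ (φ w) (φ u) = χ w u) (hφ : ∀ a, (φ : W → W)^[p] a = a) (hne : ∃ a, φ a ≠ a) :
    4 * (Nat.card W + (p - 1) * Nat.card {a // φ a = a}) ≤ p * Nat.card W ∨
      (q = p ∧ ∀ a, φ (φ a / a) = φ a / a) := by
  classical
  let δ : W →* W :=
    { toFun := fun a => φ a / a
      map_one' := by simp
      map_mul' := fun a b => by rw [map_mul, mul_div_mul_comm] }
  set D := δ.range with hD
  have hker : ∀ a, a ∈ δ.ker ↔ φ a = a := fun a => by
    rw [MonoidHom.mem_ker]; exact div_eq_one
  have hfixcard : Nat.card {a // φ a = a} = Nat.card δ.ker :=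
    Nat.card_congr (Equiv.subtypeEquivRight fun a => (hker a).symm)
  have hcard : Nat.card W = Nat.card D * Nat.card δ.ker := by
    rw [Subgroup.card_eq_card_quotient_mul_card_subgroup δ.ker,
      Nat.card_congr (QuotientGroup.quotientKerEquivRange δ).toEquiv]
  haveI := Fact.mk hq
  haveI := Fact.mk hp
  have hWq : IsPGroup q W := fun w => ⟨1, by rw [pow_one]; exact hexp w⟩
  obtain ⟨k, hk⟩ := (hWq.to_subgroup D).exists_card_eq
  obtain ⟨a₀, ha₀⟩ := hne
  have hk0 : k ≠ 0 := by
    intro h
    rw [h, pow_zero, Subgroup.card_eq_one] at hk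
    exact ha₀ ((hker a₀).mp (MonoidHom.mem_ker.mpr
      (Subgroup.mem_bot.mp (hk ▸ (⟨a₀, rfl⟩ : δ a₀ ∈ D)))))
  set j := Nat.card D with hj
  -- a numerical criterion
  have hcrit : 4 * (p - 1) ≤ (p - 4) * j →
      4 * (Nat.card W + (p - 1) * Nat.card {a // φ a = a}) ≤ p * Nat.card W := by
    intro h
    rw [hfixcard, hcard]
    obtain ⟨p', rfl⟩ : ∃ p', p = p' + 4 := ⟨p - 4, by omega⟩
    simp only [Nat.add_sub_cancel] at h
    have e : p' + 4 - 1 = p' + 3 := by omega
    rw [e] at h ⊢
    have := Nat.mul_le_mul_right (Nat.card δ.ker) h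
    nlinarith [this]
  by_cases hDC : ∃ u ∈ D, φ u = u ∧ u ≠ 1
  · obtain ⟨u, ⟨a, rfl⟩, hu, hu1⟩ := hDC
    have hau : φ a = δ a * a := (div_mul_cancel (φ a) a).symm
    have hiter : ∀ i, (φ : W → W)^[i] a = δ a ^ i * a := by
      intro i
      induction i with
      | zero => simp
      | succ i ih =>
        rw [Function.iterate_succ_apply', ih, map_mul, map_pow, hu, hau, pow_succ]
        ac_rfl
    have hup : δ a ^ p = 1 := by
      have := hiter p
      rw [hφ a] at this
      exact right_eq_mul.mp this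
    have hqp : q = p := by
      have e1 := orderOf_eq_prime hup hu1
      have e2 := orderOf_eq_prime (hexp (δ a)) hu1
      rw [← e1, ← e2]
    subst hqp
    rcases Nat.lt_or_ge k 2 with hk2 | hk2
    · refine Or.inr ⟨rfl, fun b => ?_⟩
      have hk1 : k = 1 := by omega
      rw [hk1, pow_one] at hk
      have hgen : Subgroup.zpowers (δ a) = D := by
        refine Subgroup.eq_of_le_of_card_ge (Subgroup.zpowers_le.mpr ⟨a, rfl⟩) ?_
        rw [Nat.card_zpowers, orderOf_eq_prime hup hu1]
        exact hk.le
      obtain ⟨i, hi⟩ : δ b ∈ Subgroup.zpowers (δ a) := hgen ▸ ⟨b, rfl⟩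
      show φ (δ b) = δ b
      rw [← hi, map_zpow, hu]
    · refine Or.inl (hcrit ?_)
      have h25 : q ^ 2 ≤ j := hk ▸ Nat.pow_le_pow_right hp.pos hk2
      obtain ⟨r', rfl⟩ : ∃ r', q = r' + 5 := ⟨q - 5, by
        have : q ≠ 4 := fun h => by rw [h] at hp; norm_num at hp
        omega⟩
      have e1 : r' + 5 - 1 = r' + 4 := by omega
      have e2 : r' + 5 - 4 = r' + 1 := by omega
      rw [e1, e2]
      nlinarith [h25]
  · push Not at hDC
    refine Or.inl (hcrit ?_)
    have hmaps : ∀ u ∈ D, φ u ∈ D := by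
      rintro _ ⟨b, rfl⟩
      exact ⟨φ b, by show φ (φ b) / φ b = φ (φ b / b); rw [map_div]⟩
    let f : Function.End D := fun u => ⟨φ u, hmaps u u.2⟩
    have hfp : f ^ p ^ 1 = 1 := by
      rw [pow_one]
      funext u
      have key : ∀ i : ℕ, ((f ^ i) u : W) = (φ : W → W)^[i] (u : W) := by
        intro i
        induction i with
        | zero => rfl
        | succ i ih => rw [Function.iterate_succ_apply', pow_succ', ← ih]; rfl
      exact Subtype.ext ((key p).trans (hφ _))
    haveI := Fintype.ofFinite D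
    haveI : Fintype (Function.fixedPoints f) := Fintype.ofFinite _
    have hmod := Equiv.Perm.card_fixedPoints_modEq (f := f) hfp
    have hone : Fintype.card (Function.fixedPoints f) = 1 := by
      rw [Fintype.card_eq_one_iff]
      refine ⟨⟨1, Subtype.ext (map_one φ)⟩, fun ⟨u, hu⟩ => Subtype.ext (Subtype.ext ?_)⟩
      exact hDC u u.2 (congrArg Subtype.val hu)
    have hmod' : Nat.card D ≡ Nat.card (Function.fixedPoints f) [MOD p] := by
      rw [Nat.card_eq_fintype_card, Nat.card_eq_fintype_card]
      convert hmod using 2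
    rw [← Nat.card_eq_fintype_card] at hone
    rw [hone, ← hj] at hmod'
    have hj1 : 1 < j := by rw [hk]; exact Nat.one_lt_pow hk0 hq.one_lt
    have hdvd : p ∣ j - 1 := (Nat.modEq_iff_dvd' hj1.le).mp hmod'.symm
    have hjp : p + 1 ≤ j := by
      have := Nat.le_of_dvd (by omega) hdvd
      omega
    have hncyc : ¬ j.Prime := by
      intro hjP
      haveI : IsCyclic D := by
        haveI := Fact.mk hjP
        exact isCyclic_of_prime_card rfl
      obtain ⟨⟨w₀, hw₀⟩, hgen⟩ := IsCyclic.exists_generator (α := D)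
      have hw1 : w₀ = 1 := by
        refine hinj ?_
        rw [map_one]
        have hD0 : ∀ u ∈ D, χ w₀ u = 1 := by
          intro u hu
          obtain ⟨i, hi⟩ := hgen ⟨u, hu⟩
          rw [show u = w₀ ^ i from (congrArg Subtype.val hi).symm, map_zpow, halt, one_zpow]
        have hC0 : ∀ c, φ c = c → χ w₀ c = 1 := by
          intro c hc
          obtain ⟨a, ha⟩ := hw₀
          have h1 : χ c w₀ = 1 := by
            rw [← ha]
            show χ c (φ a / a) = 1
            rw [map_div, div_eq_one]
            conv_lhs => rw [← hc]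
            exact hinv a c
          have h2 := halt (c * w₀)
          simp only [map_mul, MonoidHom.mul_apply, halt, h1, one_mul, mul_one] at h2
          simpa using h2
        have hDCbot : D ⊓ δ.ker = ⊥ := by
          rw [eq_bot_iff]
          exact fun u hu => Subgroup.mem_bot.mpr (hDC u hu.1 ((hker u).mp hu.2))
        have hmu : Function.Injective fun x : D × δ.ker => (x.1 : W) * x.2 :=
          Subgroup.mul_injective_of_disjoint (disjoint_iff.mpr hDCbot)
        have hsurj := (Nat.bijective_iff_injective_and_card _).mpr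
          ⟨hmu, by rw [Nat.card_prod, ← hj, ← hcard]⟩
        refine MonoidHom.ext fun u => ?_
        rw [MonoidHom.one_apply]
        obtain ⟨⟨⟨d, hd⟩, ⟨c, hc⟩⟩, rfl⟩ := hsurj.2 u
        rw [map_mul, hD0 d hd, hC0 c ((hker c).mp hc), one_mul]
      have htriv : ∀ u : D, u = 1 := fun u => by
        obtain ⟨i, hi⟩ := hgen u
        rw [← hi]
        exact Subtype.ext (by simp [hw1])
      haveI : Subsingleton D := ⟨fun u v => by rw [htriv u, htriv v]⟩
      have : j = 1 := Nat.card_of_subsingleton (1 : D)
      omega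
    have hp5 : 5 ≤ p := by
      have : p ≠ 4 := fun h => by rw [h] at hp; norm_num at hp
      omega
    rcases Nat.lt_or_ge p 7 with hp7 | hp7
    · have hp5' : p = 5 := by
        have : p ≠ 6 := fun h => by rw [h] at hp; norm_num at hp
        omega
      subst hp5'
      by_contra hlt
      have : j = 6 ∨ j = 11 := by omega
      rcases this with h6 | h11
      · rw [h6] at hk
        have h2 := (Nat.prime_dvd_prime_iff_eq Nat.prime_two hq).mp
          (Nat.prime_two.dvd_of_dvd_pow (hk ▸ (by norm_num : 2 ∣ 6)))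
        have h3 := (Nat.prime_dvd_prime_iff_eq Nat.prime_three hq).mp
          (Nat.prime_three.dvd_of_dvd_pow (hk ▸ (by norm_num : 3 ∣ 6)))
        omega
      · exact hncyc (h11 ▸ by norm_num)
    · obtain ⟨p', rfl⟩ : ∃ p', p = p' + 7 := ⟨p - 7, by omega⟩
      have e1 : p' + 7 - 1 = p' + 6 := by omega
      have e2 : p' + 7 - 4 = p' + 3 := by omega
      rw [e1, e2]
      nlinarith [hjp]

end H32.HalfFix
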