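import Mathlib

/-!
The character projections of an abelian normal subgroup in a representation, and the action of the
group on the characters.
-/

set_option autoImplicit false
set_option linter.style.haveILetI false

namespace H32.HalfFix

variable {G : Type*} [Group G] {K : Type*} [Field K] [IsAlgClosed K]
variable {X : Type*} [AddCommGroup X] [Module K X]

open scoped IsMulCommutative

/-- The conjugate of a character of a normal subgroup. -/
def conjChar (A : Subgroup G) [A.Normal] (g : G) (χ : A →* Kˣ) : A →* Kˣ :=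
  χ.comp (MulAut.conjNormal g⁻¹ : MulAut A).toMonoidHom

theorem conjChar_apply (A : Subgroup G) [A.Normal] (g : G) (χ : A →* Kˣ) (a : A) :
    conjChar A g χ a = χ (MulAut.conjNormal g⁻¹ a) := rfl

theorem conjChar_mul (A : Subgroup G) [A.Normal] (g h : G) (χ : A →* Kˣ) :
    conjChar A (g * h) χ = conjChar A g (conjChar A h χ) := by
  ext a
  simp only [conjChar_apply, mul_inv_rev, map_mul, MulAut.mul_apply]

theorem conjChar_one (A : Subgroup G) [A.Normal] (χ : A →* Kˣ) : conjChar A 1 χ = χ := by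
  ext a
  simp only [conjChar_apply, inv_one, map_one, MulAut.one_apply]

/-- Conjugation on the characters as a permutation. -/
def conjPerm (A : Subgroup G) [A.Normal] : G →* Equiv.Perm (A →* Kˣ) where
  toFun g :=
    { toFun := conjChar A g
      invFun := conjChar A g⁻¹
      left_inv := fun χ => by rw [← conjChar_mul, inv_mul_cancel, conjChar_one]
      right_inv := fun χ => by rw [← conjChar_mul, mul_inv_cancel, conjChar_one] }
  map_one' := Equiv.ext fun χ => conjChar_one A χ
  map_mul' g h := Equiv.ext fun χ => conjChar_mul A g h χ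

/-- The projection attached to a character. -/
noncomputable def proj (ρ : G →* Module.End K X) (A : Subgroup G) [Fintype A] (χ : A →* Kˣ) :
    Module.End K X :=
  (Fintype.card A : K)⁻¹ • ∑ a : A, ((χ a⁻¹ : Kˣ) : K) • ρ (a : G)

variable (ρ : G →* Module.End K X) (A : Subgroup G) [Fintype A]

theorem rho_mul_proj (χ : A →* Kˣ) (a : A) : ρ (a : G) * proj ρ A χ = (χ a : K) • proj ρ A χ := by
  rw [proj, mul_smul_comm, smul_comm]
  congr 1
  rw [Finset.mul_sum, Finset.smul_sum]
  refine Fintype.sum_equiv (Equiv.mulLeft a) _ _ fun b => ?_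
  rw [mul_smul_comm, ← map_mul, ← Subgroup.coe_mul, smul_smul, ← Units.val_mul, Equiv.coe_mulLeft]
  congr 3
  rw [mul_inv_rev, map_mul, mul_left_comm, ← map_mul χ a, mul_inv_cancel, map_one, mul_one]

variable [NeZero (Fintype.card A : K)] [IsMulCommutative A]

theorem exists_apply_ne {χ ψ : A →* Kˣ} (h : χ ≠ ψ) : ∃ a, χ a ≠ ψ a := by
  by_contra hc
  push Not at hc
  exact h (MonoidHom.ext hc)

theorem sum_char_eq_zero {χ ψ : A →* Kˣ} (h : χ ≠ ψ) :
    ∑ a : A, ((χ a⁻¹ : Kˣ) : K) * (ψ a : K) = 0 := by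
  obtain ⟨b, hb⟩ := exists_apply_ne A h
  set f : A → K := fun a => ((χ a⁻¹ : Kˣ) : K) * (ψ a : K) with hf
  have h1 : ∑ a, f a = f b * ∑ a, f a := by
    rw [Finset.mul_sum]
    refine (Fintype.sum_equiv (Equiv.mulLeft b) _ _ fun a => ?_).symm
    simp only [hf, Equiv.coe_mulLeft, mul_inv_rev, map_mul, Units.val_mul]
    ring
  have h2 : f b ≠ 1 := by
    intro h2
    apply hb
    simp only [hf, map_inv] at h2
    rw [← Units.val_mul, Units.val_eq_one, inv_mul_eq_one] at h2
    exact h2
  have h3 : (f b - 1) * ∑ a, f a = 0 := by rw [sub_mul, ← h1, one_mul, sub_self]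
  exact (mul_eq_zero.mp h3).resolve_left (sub_ne_zero.mpr h2)

theorem proj_mul [DecidableEq (A →* Kˣ)] (χ ψ : A →* Kˣ) :
    proj ρ A χ * proj ρ A ψ = if χ = ψ then proj ρ A χ else 0 := by
  have e : proj ρ A χ * proj ρ A ψ =
      ((Fintype.card A : K)⁻¹ * ∑ a : A, ((χ a⁻¹ : Kˣ) : K) * (ψ a : K)) • proj ρ A ψ := by
    conv_lhs => rw [proj]
    rw [smul_mul_assoc, Finset.sum_mul, mul_smul, Finset.sum_smul]
    congr 1
    exact Finset.sum_congr rfl fun a _ => by rw [smul_mul_assoc, rho_mul_proj, smul_smul]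
  split_ifs with h
  · subst h
    rw [e]
    have : ∀ a : A, ((χ a⁻¹ : Kˣ) : K) * (χ a : K) = 1 := fun a => by
      rw [← Units.val_mul, ← map_mul, inv_mul_cancel, map_one, Units.val_one]
    rw [Finset.sum_congr rfl fun a _ => this a, Finset.sum_const, Finset.card_univ, nsmul_one,
      inv_mul_cancel₀ (NeZero.ne _), one_smul]
  · rw [e, sum_char_eq_zero A h, mul_zero, zero_smul]

theorem rho_mul_proj_conj [A.Normal] (g : G) (χ : A →* Kˣ) :
    ρ g * proj ρ A χ = proj ρ A (conjChar A g χ) * ρ g := by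
  rw [proj, proj, mul_smul_comm, smul_mul_assoc, Finset.mul_sum, Finset.sum_mul]
  congr 1
  refine Fintype.sum_equiv (MulAut.conjNormal g : MulAut A).toEquiv _ _ fun a => ?_
  rw [mul_smul_comm, smul_mul_assoc, ← map_mul, ← map_mul]
  congr 2
  · rw [conjChar_apply, MulEquiv.toEquiv_eq_coe, MulEquiv.coe_toEquiv, ← map_inv,
      ← MulAut.mul_apply, ← map_mul, inv_mul_cancel, map_one, MulAut.one_apply]
  · rw [MulEquiv.toEquiv_eq_coe, MulEquiv.coe_toEquiv, MulAut.conjNormal_apply]
    group

theorem hasRoots : HasEnoughRootsOfUnity K (Monoid.exponent A) := by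
  haveI : NeZero (Monoid.exponent A : K) := ⟨fun h => NeZero.ne (Fintype.card A : K) (by
    obtain ⟨m, hm⟩ := (Group.exponent_dvd_nat_card (G := A))
    rw [← Nat.card_eq_fintype_card, hm, Nat.cast_mul, h, zero_mul])⟩
  infer_instance

theorem card_char : Nat.card (A →* Kˣ) = Fintype.card A := by
  haveI := hasRoots (K := K) A
  rw [CommGroup.card_monoidHom_of_hasEnoughRootsOfUnity, Nat.card_eq_fintype_card]

theorem finite_char : Finite (A →* Kˣ) := by
  refine Nat.finite_of_card_ne_zero ?_
  rw [card_char A]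
  exact Fintype.card_ne_zero

theorem sum_proj [Fintype (A →* Kˣ)] : ∑ χ : A →* Kˣ, proj ρ A χ = 1 := by
  classical
  haveI := hasRoots (K := K) A
  unfold proj
  rw [← Finset.smul_sum, Finset.sum_comm, Finset.sum_eq_single (1 : A)]
  · simp only [inv_one, map_one, Units.val_one, OneMemClass.coe_one, one_smul, Finset.sum_const,
      Finset.card_univ]
    rw [← Nat.card_eq_fintype_card (α := A →* Kˣ), card_char A, ← Nat.cast_smul_eq_nsmul K,
      smul_smul, inv_mul_cancel₀ (NeZero.ne _), one_smul]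
  · intro a _ ha
    rw [← Finset.sum_smul]
    obtain ⟨φ, hφ⟩ := CommGroup.exists_apply_ne_one_of_hasEnoughRootsOfUnity A K (inv_ne_one.mpr ha)
    have h1 : ∑ χ : A →* Kˣ, ((χ a⁻¹ : Kˣ) : K) = 0 := by
      set S := ∑ χ : A →* Kˣ, ((χ a⁻¹ : Kˣ) : K)
      have : S = (φ a⁻¹ : K) * S := by
        rw [Finset.mul_sum]
        refine (Fintype.sum_equiv (Equiv.mulLeft φ) _ _ fun χ => ?_).symm
        simp
      have h2 : ((φ a⁻¹ : K) - 1) * S = 0 := by rw [sub_mul, ← this, one_mul, sub_self]
      exact (mul_eq_zero.mp h2).resolve_left (sub_ne_zero.mpr (fun h => hφ (Units.val_eq_one.mp h)))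
    rw [h1, zero_smul]
  · intro h; exact absurd (Finset.mem_univ _) h

end H32.HalfFix
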