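import Cfsg.Agent.H32.HalfFixCoset
import Cfsg.Agent.H32.HalfFixProj
import Cfsg.Agent.H32.HalfFixLemmas
import Cfsg.Agent.H35.DerivedLinear

/-!
Abelian normal subgroups of an irreducible faithful soluble linear group generated by the conjugates
of an element `x` of prime order `p > 3`: scalar, or the fixed space of `x` is less than a half.
-/

set_option autoImplicit false
set_option linter.style.haveILetI false
set_option linter.unusedSectionVars false

namespace H32.HalfFix

universe u v w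

variable {G : Type u} [Group G] [Finite G] {K : Type v} [Field K]
  {V : Type w} [AddCommGroup V] [Module K V] [FiniteDimensional K V] [Nontrivial V]
  {ρ : G →* Module.End K V}

/-- Irreducibility. -/
def Irred (ρ : G →* Module.End K V) : Prop :=
  ∀ U : Submodule K V, (∀ g, ∀ v ∈ U, ρ g v ∈ U) → U = ⊥ ∨ U = ⊤

theorem not_dvd_card {ℓ : ℕ} [Fact ℓ.Prime] [CharP K ℓ] (hinj : Function.Injective ρ) (hirr : Irred ρ) (A : Subgroup G) [A.Normal]
    (hA : IsMulCommutative A) : ¬ ℓ ∣ Nat.card A := by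
  intro hd
  obtain ⟨a, ha⟩ := exists_prime_orderOf_dvd_card' ℓ hd
  have hc : ∀ u ∈ A, ∀ v ∈ A, Commute u v := fun u hu v hv =>
    congrArg Subtype.val (hA.is_comm.comm ⟨u, hu⟩ ⟨v, hv⟩)
  let T : Subgroup G :=
    { carrier := {u | u ∈ A ∧ u ^ ℓ = 1}
      one_mem' := ⟨A.one_mem, one_pow ℓ⟩
      mul_mem' := fun {u} {v} hu hv => ⟨A.mul_mem hu.1 hv.1, by
        rw [(hc u hu.1 v hv.1).mul_pow, hu.2, hv.2, one_mul]⟩
      inv_mem' := fun {u} hu => ⟨A.inv_mem hu.1, by rw [inv_pow, hu.2, inv_one]⟩ }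
  have hTn : ∀ u ∈ T, ∀ g, g * u * g⁻¹ ∈ T := fun u hu g =>
    ⟨(inferInstance : A.Normal).conj_mem u hu.1 g, by
      rw [conj_pow, hu.2, mul_one, mul_inv_cancel]⟩
  have hTp : IsPGroup ℓ T := fun u => ⟨1, Subtype.ext (by rw [pow_one]; exact u.2.2)⟩
  obtain ⟨v, hv0, hv⟩ := H35.exists_fixed_vector hTp (ρ.comp T.subtype)
  let U : Submodule K V :=
    { carrier := {v | ∀ t ∈ T, ρ t v = v}
      add_mem' := fun {a b} ha hb t ht => by rw [map_add, ha t ht, hb t ht]
      zero_mem' := fun t _ => map_zero _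
      smul_mem' := fun c a ha t ht => by rw [map_smul, ha t ht] }
  rcases hirr U (fun g y hy t ht => by
    have h := hy _ (hTn t ht g⁻¹)
    calc ρ t (ρ g y) = (ρ t * ρ g) y := rfl
      _ = (ρ g * ρ (g⁻¹ * t * g⁻¹⁻¹)) y := by rw [← map_mul, ← map_mul]; group
      _ = ρ g y := by rw [Module.End.mul_apply, h]) with hU | hU
  · exact hv0 ((Submodule.mem_bot K).mp (hU.le fun t ht => hv ⟨t, ht⟩))
  · have haT : (a : G) ∈ T := ⟨a.2, by
      rw [← Subgroup.coe_pow, ← ha, pow_orderOf_eq_one, OneMemClass.coe_one]⟩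
    have : (a : G) = 1 := hinj (LinearMap.ext fun y => by
      rw [map_one, Module.End.one_apply]
      exact hU.ge (Submodule.mem_top (x := y)) _ haT)
    rw [show a = 1 from Subtype.ext this, orderOf_one] at ha
    exact (Fact.out : ℓ.Prime).one_lt.ne ha

theorem scalar_or_bound (ℓ : ℕ) [Fact ℓ.Prime] [CharP K ℓ] [IsAlgClosed K] [Group.IsSolvable G] {p : ℕ} (hp : p.Prime) (hp3 : 3 < p)
    (x : G) (hx : x ^ p = 1) (hgen : Subgroup.normalClosure {x} = ⊤) (hinj : Function.Injective ρ)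
    (hirr : Irred ρ) (A : Subgroup G) [A.Normal] [IsMulCommutative A] :
    (∀ a ∈ A, ∃ c : K, ρ a = c • 1) ∨
      2 * Module.finrank K (LinearMap.ker (ρ x - 1)) < Module.finrank K V := by
  classical
  haveI := Fintype.ofFinite A
  haveI : NeZero (Fintype.card A : K) := ⟨fun h => by
    rw [← Nat.card_eq_fintype_card, CharP.cast_eq_zero_iff K ℓ] at h
    exact not_dvd_card hinj hirr A inferInstance h⟩
  haveI := finite_char (K := K) A
  haveI := Fintype.ofFinite (A →* Kˣ)
  obtain ⟨χ₀, hχ₀⟩ : ∃ χ : A →* Kˣ, proj ρ A χ ≠ 0 := by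
    by_contra h
    push Not at h
    have h1 := sum_proj ρ A
    rw [Finset.sum_eq_zero fun χ _ => h χ] at h1
    exact zero_ne_one h1
  set O : Finset (A →* Kˣ) := Finset.univ.filter fun χ => ∃ g, conjPerm A g χ₀ = χ with hO
  have hzero : ∀ χ ∉ O, proj ρ A χ = 0 := by
    set S := ∑ χ ∈ O, proj ρ A χ with hS
    have hcomm : ∀ g, ρ g * S = S * ρ g := by
      intro g
      rw [hS, Finset.mul_sum, Finset.sum_mul]
      refine Finset.sum_equiv (conjPerm A g) (fun χ => ?_) fun χ _ => rho_mul_proj_conj ρ A g χ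
      simp only [hO, Finset.mem_filter, Finset.mem_univ, true_and]
      refine ⟨fun ⟨h, e⟩ => ⟨g * h, by rw [map_mul, Equiv.Perm.mul_apply, e]⟩, fun ⟨h, e⟩ =>
        ⟨g⁻¹ * h, by rw [map_mul, Equiv.Perm.mul_apply, e, map_inv]; exact Equiv.symm_apply_apply _ _⟩⟩
    have hSe : S * proj ρ A χ₀ = proj ρ A χ₀ := by
      rw [hS, Finset.sum_mul, Finset.sum_eq_single χ₀]
      · rw [proj_mul, if_pos rfl]
      · intro χ _ hne; rw [proj_mul, if_neg hne]
      · intro h
        exact absurd (Finset.mem_filter.mpr ⟨Finset.mem_univ _, 1, by simp⟩) h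
    have hsurj : LinearMap.range S = ⊤ := by
      refine (hirr _ fun g v hv => ?_).resolve_left fun h => hχ₀ ?_
      · obtain ⟨u, rfl⟩ := hv
        exact ⟨ρ g u, (LinearMap.congr_fun (hcomm g) u).symm⟩
      · rw [LinearMap.range_eq_bot] at h
        rw [← hSe, h, zero_mul]
    intro χ hχ
    have h0 : proj ρ A χ * S = 0 := by
      rw [hS, Finset.mul_sum, Finset.sum_eq_zero]
      intro ψ hψ
      rw [proj_mul, if_neg fun h : χ = ψ => hχ (h ▸ hψ)]
    refine LinearMap.ext fun v => ?_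
    obtain ⟨u, rfl⟩ := hsurj.ge (Submodule.mem_top (x := v))
    exact LinearMap.congr_fun h0 u
  let H : Subgroup G := (MulAction.stabilizer (Equiv.Perm (A →* Kˣ)) χ₀).comap (conjPerm A)
  have hH : ∀ g, g ∈ H ↔ conjPerm A g χ₀ = χ₀ := fun g => Iff.rfl
  rcases eq_top_or_exists_le_coatom H with hHtop | ⟨M, hM, hHM⟩
  · left
    have hone : proj ρ A χ₀ = 1 := by
      rw [← sum_proj ρ A, Finset.sum_eq_single χ₀]
      · intro χ _ hne
        refine hzero χ fun h => hne ?_
        obtain ⟨g, hg⟩ := (Finset.mem_filter.mp h).2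
        rw [← hg]
        exact (hH g).mp (hHtop ▸ Subgroup.mem_top g)
      · intro h; exact absurd (Finset.mem_univ _) h
    intro a ha
    refine ⟨(χ₀ ⟨a, ha⟩ : K), ?_⟩
    have := rho_mul_proj ρ A χ₀ ⟨a, ha⟩
    rwa [hone, mul_one] at this
  right
  haveI := Fintype.ofFinite (G ⧸ M)
  let S : G ⧸ M → Finset (A →* Kˣ) := fun B =>
    Finset.univ.filter fun χ => ∃ g : G, (g : G ⧸ M) = B ∧ conjPerm A g χ₀ = χ
  let P : G ⧸ M → Module.End K V := fun B => ∑ χ ∈ S B, proj ρ A χ
  have huniq : ∀ B B' χ, χ ∈ S B → χ ∈ S B' → B = B' := by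
    intro B B' χ h h'
    obtain ⟨g, rfl, hg⟩ := (Finset.mem_filter.mp h).2
    obtain ⟨g', rfl, hg'⟩ := (Finset.mem_filter.mp h').2
    refine QuotientGroup.eq.mpr (hHM ((hH _).mpr ?_))
    rw [map_mul, Equiv.Perm.mul_apply, hg', ← hg, map_inv]
    exact Equiv.symm_apply_apply _ _
  have hsum : ∑ B, P B = 1 := by
    have h1 : ∀ B, P B = ∑ χ : A →* Kˣ, if χ ∈ S B then proj ρ A χ else 0 := fun B => by
      rw [← Finset.sum_filter]
      exact Finset.sum_congr (by ext χ; simp) fun _ _ => rfl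
    rw [Finset.sum_congr rfl fun B _ => h1 B, Finset.sum_comm, ← sum_proj ρ A]
    refine Finset.sum_congr rfl fun χ _ => ?_
    by_cases hχ : χ ∈ O
    · obtain ⟨g, hg⟩ := (Finset.mem_filter.mp hχ).2
      have hgS : χ ∈ S (g : G ⧸ M) := Finset.mem_filter.mpr ⟨Finset.mem_univ _, g, rfl, hg⟩
      rw [Finset.sum_eq_single (g : G ⧸ M), if_pos hgS]
      · intro B _ hne
        rw [if_neg fun h => hne (huniq _ _ χ h hgS)]
      · intro h; exact absurd (Finset.mem_univ _) h
    · rw [hzero χ hχ]; simp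
  have hequiv : ∀ (g : G) (B : G ⧸ M), ρ g * P B = P (g • B) * ρ g := by
    intro g B
    simp only [P]
    rw [Finset.mul_sum, Finset.sum_mul]
    refine Finset.sum_equiv (conjPerm A g) (fun χ => ?_) fun χ _ => rho_mul_proj_conj ρ A g χ
    simp only [S, Finset.mem_filter, Finset.mem_univ, true_and]
    constructor
    · rintro ⟨h, rfl, e⟩
      exact ⟨g * h, rfl, by rw [map_mul, Equiv.Perm.mul_apply, e]⟩
    · rintro ⟨h, hh, e⟩
      refine ⟨g⁻¹ * h, ?_, by
        rw [map_mul, Equiv.Perm.mul_apply, e, map_inv]; exact Equiv.symm_apply_apply _ _⟩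
      show g⁻¹ • (h : G ⧸ M) = B
      rw [hh, inv_smul_smul]
  have horth : ∀ B B', P B * P B' = if B = B' then P B else 0 := by
    intro B B'
    simp only [P]
    rw [Finset.sum_mul_sum]
    simp only [proj_mul, Finset.sum_ite_eq]
    split_ifs with h
    · subst h
      exact Finset.sum_congr rfl fun χ hχ => if_pos hχ
    · exact Finset.sum_eq_zero fun χ hχ => if_neg fun h' => h (huniq _ _ χ hχ h')
  set d := Module.finrank K (LinearMap.range (P ((1 : G) : G ⧸ M))) with hd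
  have hrank : ∀ B, Module.finrank K (LinearMap.range (P B)) = d := by
    intro B
    obtain ⟨g, rfl⟩ := QuotientGroup.mk_surjective B
    have hconj : ∀ (h : G) B', P (h • B') = ρ h * P B' * ρ h⁻¹ := fun h B' => by
      rw [hequiv, mul_assoc, ← map_mul, mul_inv_cancel, map_one, mul_one]
    refine le_antisymm ?_ ?_
    · have : (g : G ⧸ M) = g • ((1 : G) : G ⧸ M) := by
        show (g : G ⧸ M) = ((g * 1 : G) : G ⧸ M); rw [mul_one]
      rw [this, hconj]; exact finrank_range_mul_le _ _ _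
    · have : ((1 : G) : G ⧸ M) = g⁻¹ • (g : G ⧸ M) := by
        show ((1 : G) : G ⧸ M) = ((g⁻¹ * g : G) : G ⧸ M); rw [inv_mul_cancel]
      rw [hd, this, hconj]; exact finrank_range_mul_le _ _ _
  have hd0 : 0 < d := by
    rw [hd, Nat.pos_iff_ne_zero]
    intro h0
    rw [Submodule.finrank_eq_zero, LinearMap.range_eq_bot] at h0
    apply hχ₀
    have hmem : χ₀ ∈ S ((1 : G) : G ⧸ M) :=
      Finset.mem_filter.mpr ⟨Finset.mem_univ _, 1, rfl, by simp⟩
    have h1 : P ((1 : G) : G ⧸ M) * proj ρ A χ₀ = proj ρ A χ₀ := by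
      simp only [P]
      rw [Finset.sum_mul, Finset.sum_eq_single χ₀]
      · rw [proj_mul, if_pos rfl]
      · intro χ _ hne; rw [proj_mul, if_neg hne]
      · intro h; exact absurd hmem h
    rw [← h1, h0, zero_mul]
  have hσ : (MulAction.toPermHom G (G ⧸ M) x) ^ p = 1 := by rw [← map_pow, hx, map_one]
  have h1 := finrank_fixed_le (MulAction.toPermHom G (G ⧸ M) x) hp hσ P hsum (ρ x)
    (fun B => hequiv x B) d (fun B => (hrank B).le)
  have h2 := card_mul_le_finrank P horth d fun B => (hrank B).ge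
  have h3 := four_mul_fixed_coset hp hp3 M hM x hx hgen
  rw [← Nat.card_eq_fintype_card] at h1 h2
  set N := Nat.card (G ⧸ M)
  set f := Module.finrank K (LinearMap.ker (ρ x - 1))
  have hN : 0 < N := Nat.card_pos
  change p * f ≤ (N + (p - 1) * Nat.card {B : G ⧸ M // x • B = B}) * d at h1
  set c := Nat.card {B : G ⧸ M // x • B = B}
  obtain ⟨p', rfl⟩ : ∃ p', p = p' + 4 := ⟨p - 4, by omega⟩
  have e : p' + 4 - 1 = p' + 3 := by omega
  rw [e] at h1
  have hNd : 0 < N * d := Nat.mul_pos hN hd0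
  have h4 : 4 * ((p' + 4) * f) ≤ (p' + 7) * (N * d) := by
    calc 4 * ((p' + 4) * f) ≤ 4 * ((N + (p' + 3) * c) * d) := Nat.mul_le_mul_left _ h1
      _ = (4 * N + (p' + 3) * (4 * c)) * d := by ring
      _ ≤ (4 * N + (p' + 3) * N) * d :=
          Nat.mul_le_mul_right _ (Nat.add_le_add_left (Nat.mul_le_mul_left _ h3) _)
      _ = _ := by ring
  nlinarith

end H32.HalfFix
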