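import Cfsg.Agent.H32.HalfFixCount

/-!
An element of prime order `p > 3` whose conjugates generate a finite soluble group fixes at most a
quarter of the cosets of a maximal subgroup.
-/

set_option autoImplicit false
set_option linter.style.haveILetI false

namespace H32.HalfFix

open scoped IsMulCommutative commutatorElement Pointwise

theorem four_mul_fixed_coset_core_free {Q : Type*} [Group Q] [Finite Q] [Group.IsSolvable Q]
    {p : ℕ} (hp : p.Prime) (hp3 : 3 < p) (M : Subgroup Q) (hM : IsCoatom M)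
    (hcore : ∀ N : Subgroup Q, N.Normal → N ≤ M → N = ⊥) (x : Q) (hx : x ^ p = 1) (hxM : x ∈ M)
    (hgen : Subgroup.normalClosure {x} = ⊤) :
    4 * Nat.card {B : Q ⧸ M // x • B = B} ≤ Nat.card (Q ⧸ M) := by
  classical
  haveI : Nontrivial Q := by
    by_contra h
    rw [not_nontrivial_iff_subsingleton] at h
    exact hM.1 (Subgroup.eq_top_iff' M |>.mpr fun g => Subsingleton.elim (1 : Q) g ▸ one_mem M)
  obtain ⟨n, hn⟩ := (Group.isSolvable_def (G := Q)).mp inferInstance
  have hex : ∃ k, derivedSeries Q k = ⊥ := ⟨n, hn⟩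
  have hpos : 0 < Nat.find hex := by
    rw [Nat.pos_iff_ne_zero]
    intro h
    have := Nat.find_spec hex
    rw [h, derivedSeries_zero] at this
    exact top_ne_bot this
  set A := derivedSeries Q (Nat.find hex - 1) with hA
  have hAne : A ≠ ⊥ := Nat.find_min hex (by omega)
  haveI hAn : A.Normal := derivedSeries_normal Q _
  haveI hAc : IsMulCommutative A := ⟨⟨fun a b => Subtype.ext (by
    have h : ⁅(a : Q), (b : Q)⁆ ∈ derivedSeries Q (Nat.find hex) := by
      rw [show Nat.find hex = (Nat.find hex - 1) + 1 by omega, derivedSeries_succ]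
      exact Subgroup.commutator_mem_commutator a.2 b.2
    rw [Nat.find_spec hex, Subgroup.mem_bot, commutatorElement_eq_one_iff_commute] at h
    exact h.eq)⟩⟩
  have hAM : ¬ A ≤ M := fun h => hAne (hcore A hAn h)
  have htop : M ⊔ A = ⊤ := hM.2 _ (lt_of_le_of_ne le_sup_left fun h => hAM (h ▸ le_sup_right))
  have hinf : A ⊓ M = ⊥ := by
    refine hcore _ ?_ inf_le_right
    rw [← Subgroup.normalizer_eq_top_iff, eq_top_iff, ← htop]
    refine sup_le (fun m hm => ?_) (fun a ha => ?_)
    · rw [Subgroup.mem_normalizer_iff]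
      intro h
      refine ⟨fun hh => ⟨hAn.conj_mem h hh.1 m, M.mul_mem (M.mul_mem hm hh.2) (M.inv_mem hm)⟩,
        fun hh => ⟨?_, ?_⟩⟩
      · simpa [mul_assoc] using hAn.conj_mem _ hh.1 m⁻¹
      · simpa [mul_assoc] using M.mul_mem (M.mul_mem (M.inv_mem hm) hh.2) hm
    · rw [Subgroup.mem_normalizer_iff]
      intro h
      have hcm : ∀ u ∈ A, a * u * a⁻¹ = u := fun u hu => by
        rw [show a * u = u * a from congrArg Subtype.val (hAc.is_comm.comm ⟨a, ha⟩ ⟨u, hu⟩),
          mul_inv_cancel_right]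
      refine ⟨fun hh => by rw [hcm h hh.1]; exact hh, fun hh => ?_⟩
      have hhA : h ∈ A := by simpa [mul_assoc] using hAn.conj_mem _ hh.1 a⁻¹
      rwa [hcm h hhA] at hh
  let ψ : A → Q ⧸ M := fun a => ((a : Q) : Q ⧸ M)
  have hψ : Function.Bijective ψ := by
    refine ⟨fun a b h => ?_, fun B => ?_⟩
    · have h1 : (a : Q)⁻¹ * b ∈ A ⊓ M := ⟨A.mul_mem (A.inv_mem a.2) b.2, QuotientGroup.eq.mp h⟩
      rw [hinf, Subgroup.mem_bot, inv_mul_eq_one] at h1
      exact Subtype.ext h1
    · obtain ⟨g, rfl⟩ := QuotientGroup.mk_surjective B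
      have hg : g ∈ ((A : Set Q) * (M : Set Q) : Set Q) := by
        rw [← Subgroup.normal_mul, sup_comm, htop]
        trivial
      obtain ⟨a, ha, m, hm, rfl⟩ := hg
      refine ⟨⟨a, ha⟩, QuotientGroup.eq.mpr ?_⟩
      simpa using hm
  let φ : A ≃* A := MulAut.conjNormal x
  have hψφ : ∀ a : A, ψ (φ a) = x • ψ a := fun a => by
    show ((x * a * x⁻¹ : Q) : Q ⧸ M) = ((x * (a : Q) : Q) : Q ⧸ M)
    refine QuotientGroup.eq.mpr ?_
    simpa [mul_assoc] using hxM
  let e : {a // φ a = a} ≃ {B : Q ⧸ M // x • B = B} :=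
    (Equiv.ofBijective ψ hψ).subtypeEquiv fun a => by
      show φ a = a ↔ x • ψ a = ψ a
      rw [← hψφ]
      exact hψ.1.eq_iff.symm
  rw [← Nat.card_congr e, ← Nat.card_congr (Equiv.ofBijective ψ hψ)]
  refine four_mul_card_fixed_le φ hp hp3 (fun a => ?_) ?_
  · have hit : ∀ i : ℕ, (φ : A → A)^[i] a = MulAut.conjNormal (x ^ i) a := by
      intro i
      induction i with
      | zero => simp
      | succ i ih => rw [Function.iterate_succ_apply', ih, pow_succ', map_mul, MulAut.mul_apply]
    rw [hit, hx, map_one, MulAut.one_apply]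
  · by_contra hall
    push Not at hall
    have hC : Subgroup.normalClosure {x} ≤ Subgroup.centralizer (A : Set Q) := by
      refine Subgroup.normalClosure_le_normal (Set.singleton_subset_iff.mpr ?_)
      rw [SetLike.mem_coe, Subgroup.mem_centralizer_iff]
      intro a ha
      have h1 : x * a * x⁻¹ = a := congrArg Subtype.val (hall ⟨a, ha⟩)
      exact (mul_inv_eq_iff_eq_mul.mp h1).symm
    rw [hgen] at hC
    have hMn : M.Normal := by
      rw [← Subgroup.normalizer_eq_top_iff, eq_top_iff, ← htop]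
      refine sup_le Subgroup.le_normalizer fun a ha => ?_
      rw [Subgroup.mem_normalizer_iff]
      intro h
      rw [Subgroup.mem_centralizer_iff.mp (hC (Subgroup.mem_top h)) a ha, mul_inv_cancel_right]
    exact hM.1 (top_le_iff.mp
      (hgen ▸ Subgroup.normalClosure_le_normal (Set.singleton_subset_iff.mpr hxM)))

/-- An element of prime order `p > 3` whose conjugates generate a soluble group fixes at most a
quarter of the cosets of a maximal subgroup. -/
theorem four_mul_fixed_coset {G : Type*} [Group G] [Finite G] [Group.IsSolvable G]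
    {p : ℕ} (hp : p.Prime) (hp3 : 3 < p) (M : Subgroup G) (hM : IsCoatom M) (x : G)
    (hx : x ^ p = 1) (hgen : Subgroup.normalClosure {x} = ⊤) :
    4 * Nat.card {B : G ⧸ M // x • B = B} ≤ Nat.card (G ⧸ M) := by
  classical
  by_cases hne : IsEmpty {B : G ⧸ M // x • B = B}
  · rw [Nat.card_of_isEmpty, mul_zero]; exact Nat.zero_le _
  obtain ⟨⟨B₀, hB₀⟩⟩ := not_isEmpty_iff.mp hne
  obtain ⟨g, rfl⟩ := QuotientGroup.mk_surjective B₀
  set y := g⁻¹ * x * g with hy
  have hyM : y ∈ M := by
    have := QuotientGroup.eq.mp hB₀.symm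
    simpa [hy, mul_assoc] using this
  have hygen : Subgroup.normalClosure {y} = ⊤ := by
    rw [← top_le_iff, ← hgen]
    refine Subgroup.normalClosure_le_normal (Set.singleton_subset_iff.mpr ?_)
    have := (Subgroup.normalClosure_normal (s := ({y} : Set G))).conj_mem y
      (Subgroup.subset_normalClosure rfl) g
    simpa [hy, mul_assoc] using this
  have hyp : y ^ p = 1 := by
    rw [hy, show g⁻¹ * x * g = g⁻¹ * x * g⁻¹⁻¹ by group, conj_pow, hx]
    group
  set N := M.normalCore
  set q := QuotientGroup.mk' N with hq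
  have hqs : Function.Surjective q := QuotientGroup.mk'_surjective N
  haveI : Group.IsSolvable (G ⧸ N) := Group.isSolvable_of_surjective hqs
  set Mb := M.map q with hMb
  have hcomap : Mb.comap q = M := Subgroup.comap_map_eq_self (by
    rw [QuotientGroup.ker_mk']; exact M.normalCore_le)
  have hMbco : IsCoatom Mb := by
    refine ⟨fun h => hM.1 ?_, fun L hL => ?_⟩
    · rw [← hcomap, h, Subgroup.comap_top]
    · have : M < L.comap q := by
        refine lt_of_le_of_ne (hcomap.symm.le.trans (Subgroup.comap_mono hL.le)) fun h => hL.ne ?_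
        exact (congrArg (Subgroup.map q) h).trans (Subgroup.map_comap_eq_self_of_surjective hqs L)
      rw [← Subgroup.map_comap_eq_self_of_surjective hqs L, hM.2 _ this,
        Subgroup.map_top_of_surjective _ hqs]
  have key := four_mul_fixed_coset_core_free hp hp3 Mb hMbco (fun L hL hLM => ?_) (q y)
    (by rw [← map_pow, hyp, map_one]) (Subgroup.mem_map_of_mem q hyM)
    (by
      rw [← Set.image_singleton, ← Subgroup.map_normalClosure _ _ hqs, hygen,
        Subgroup.map_top_of_surjective _ hqs])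
  swap
  · haveI := hL
    rw [← Subgroup.map_comap_eq_self_of_surjective hqs L, Subgroup.map_eq_bot_iff,
      QuotientGroup.ker_mk']
    exact Subgroup.normal_le_normalCore.mpr ((Subgroup.comap_mono hLM).trans hcomap.le)
  have hmap : ∀ a b : G, (a : G ⧸ M) = b ↔ ((q a : G ⧸ N) : (G ⧸ N) ⧸ Mb) = q b := fun a b => by
    rw [QuotientGroup.eq, QuotientGroup.eq, ← map_inv, ← map_mul, ← Subgroup.mem_comap, hcomap]
  let F : G ⧸ M → (G ⧸ N) ⧸ Mb := fun B => Quotient.liftOn' B
    (fun a => ((q a : G ⧸ N) : (G ⧸ N) ⧸ Mb))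
    (fun a b h => (hmap a b).mp (Quotient.eq''.mpr h))
  have hF : Function.Bijective F := by
    refine ⟨?_, ?_⟩
    · rintro B B' h
      obtain ⟨a, rfl⟩ := QuotientGroup.mk_surjective B
      obtain ⟨b, rfl⟩ := QuotientGroup.mk_surjective B'
      exact (hmap a b).mpr h
    · intro B
      obtain ⟨a', rfl⟩ := QuotientGroup.mk_surjective B
      obtain ⟨a, rfl⟩ := hqs a'
      exact ⟨(a : G ⧸ M), rfl⟩
  let T : G ⧸ M ≃ (G ⧸ N) ⧸ Mb := (MulAction.toPerm g⁻¹).trans (Equiv.ofBijective F hF)
  let e : {B : G ⧸ M // x • B = B} ≃ {B : (G ⧸ N) ⧸ Mb // q y • B = B} :=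
    T.subtypeEquiv fun B => by
      obtain ⟨a, rfl⟩ := QuotientGroup.mk_surjective B
      show ((x * a : G) : G ⧸ M) = a ↔
        ((q y * q (g⁻¹ * a) : G ⧸ N) : (G ⧸ N) ⧸ Mb) = ((q (g⁻¹ * a) : G ⧸ N) : (G ⧸ N) ⧸ Mb)
      rw [← map_mul, ← hmap, QuotientGroup.eq, QuotientGroup.eq,
        show (y * (g⁻¹ * a))⁻¹ * (g⁻¹ * a) = (x * a)⁻¹ * a by rw [hy]; group]
  rw [Nat.card_congr e, Nat.card_congr T]
  exact key

end H32.HalfFix
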