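import Mathlib

/-!
Counting for fixed spaces of an element of prime order `p` permuting a family of projections.
-/

set_option autoImplicit false
set_option linter.style.haveILetI false

namespace H32.HalfFix

/-- If `T` permutes a complete family of projections of rank at most `d` along `σ` with `σ ^ p = 1`,
then the fixed space of `T` is at most `(N + (p - 1) * #fix) * d / p`. -/
theorem finrank_fixed_le {K X : Type*} [Field K] [AddCommGroup X] [Module K X]
    [FiniteDimensional K X] {Ω : Type*} [Fintype Ω] (σ : Equiv.Perm Ω) {p : ℕ} (hp : p.Prime)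
    (hσ : σ ^ p = 1) (P : Ω → Module.End K X) (hsum : ∑ w, P w = 1) (T : Module.End K X)
    (hT : ∀ w, T * P w = P (σ w) * T) (d : ℕ)
    (hd : ∀ w, Module.finrank K (LinearMap.range (P w)) ≤ d) :
    p * Module.finrank K (LinearMap.ker (T - 1)) ≤
      (Fintype.card Ω + (p - 1) * Nat.card {w // σ w = w}) * d := by
  classical
  let s : Setoid Ω := Equiv.Perm.SameCycle.setoid σ
  let rep : Quotient s → Ω := Quotient.out
  -- the fixed space embeds into the product over the representatives
  let Φ : LinearMap.ker (T - 1) →ₗ[K] ((q : Quotient s) → LinearMap.range (P (rep q))) :=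
    LinearMap.pi fun q => ((P (rep q)).rangeRestrict).comp (LinearMap.ker (T - 1)).subtype
  have hfix : ∀ v ∈ LinearMap.ker (T - 1), ∀ (i : ℕ) (w : Ω),
      P ((σ ^ i) w) v = (T ^ i) (P w v) := by
    intro v hv i
    induction i with
    | zero => simp
    | succ i ih =>
      intro w
      have hv' : T v = v := by
        have := LinearMap.mem_ker.mp hv
        rwa [LinearMap.sub_apply, Module.End.one_apply, sub_eq_zero] at this
      rw [pow_succ', Equiv.Perm.mul_apply, pow_succ', Module.End.mul_apply, ← ih w]
      calc P (σ ((σ ^ i) w)) v = (P (σ ((σ ^ i) w)) * T) v := by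
            rw [Module.End.mul_apply, hv']
        _ = _ := by rw [← hT, Module.End.mul_apply]
  have hinj : Function.Injective Φ := by
    rw [← LinearMap.ker_eq_bot, eq_bot_iff]
    intro v hv
    refine (Submodule.mem_bot K).mpr (Subtype.ext ?_)
    have hzero : ∀ w, P w (v : X) = 0 := by
      intro w
      have hsc : σ.SameCycle (rep ⟦w⟧) w := Quotient.exact (Quotient.out_eq (⟦w⟧ : Quotient s))
      obtain ⟨i, hi⟩ := hsc.exists_nat_pow_eq
      have h0 : P (rep ⟦w⟧) (v : X) = 0 := congrArg Subtype.val (congrFun (LinearMap.mem_ker.mp hv) ⟦w⟧)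
      rw [← hi, hfix v v.2 i, h0, map_zero]
    calc (v : X) = (∑ w, P w) (v : X) := by rw [hsum, Module.End.one_apply]
      _ = 0 := by rw [LinearMap.sum_apply, Finset.sum_eq_zero fun w _ => hzero w]
  have h1 : Module.finrank K (LinearMap.ker (T - 1)) ≤ Fintype.card (Quotient s) * d := by
    refine (LinearMap.finrank_le_finrank_of_injective hinj).trans ?_
    rw [Module.finrank_pi_fintype]
    refine (Finset.sum_le_card_nsmul _ _ d fun q _ => hd (rep q)).trans ?_
    rw [Finset.card_univ, smul_eq_mul]
  -- each class is a fixed point or has at least `p` elements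
  have h2 : p * Fintype.card (Quotient s) ≤
      Fintype.card Ω + (p - 1) * Nat.card {w // σ w = w} := by
    let fib : Quotient s → Finset Ω := fun q => Finset.univ.filter fun w => (⟦w⟧ : Quotient s) = q
    have hsumfib : ∑ q, (fib q).card = Fintype.card Ω := by
      rw [← Finset.card_univ]
      exact (Finset.card_eq_sum_card_fiberwise fun w _ => Finset.mem_univ _).symm
    let fx : Finset (Quotient s) := Finset.univ.filter fun q => σ (rep q) = rep q
    have hfx : fx.card ≤ Nat.card {w // σ w = w} := by
      rw [Nat.card_eq_fintype_card, Fintype.card_subtype]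
      refine Finset.card_le_card_of_injOn rep (fun q hq => ?_) ?_
      · simpa [fx] using hq
      · exact fun a _ b _ h => by
          rw [← Quotient.out_eq a, ← Quotient.out_eq b]; exact congrArg _ h
    have hbig : ∀ q, p ≤ (fib q).card + if q ∈ fx then p - 1 else 0 := by
      intro q
      have hmem : rep q ∈ fib q := by simp [fib, rep]
      by_cases hq : q ∈ fx
      · rw [if_pos hq]
        have := Finset.card_pos.mpr ⟨_, hmem⟩
        omega
      · rw [if_neg hq, Nat.add_zero]
        have hmove : σ (rep q) ≠ rep q := fun h => hq (by simpa [fx] using h)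
        haveI := Fact.mk hp
        have hper : Function.minimalPeriod σ (rep q) = p :=
          Function.minimalPeriod_eq_prime (show Function.IsPeriodicPt σ p (rep q) by
            show σ^[p] (rep q) = rep q
            rw [← Equiv.Perm.coe_pow, hσ]; rfl) hmove
        calc p = (Finset.range p).card := (Finset.card_range p).symm
          _ ≤ _ := Finset.card_le_card_of_injOn (fun i => σ^[i] (rep q)) (fun i _ => ?_) ?_
        · refine Finset.mem_coe.mpr ?_
          simp only [fib, Finset.mem_filter, Finset.mem_univ, true_and]
          refine (Quotient.sound ?_).trans (Quotient.out_eq q)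
          show σ.SameCycle _ _
          rw [← Equiv.Perm.coe_pow]
          exact Equiv.Perm.sameCycle_pow_left.mpr (Equiv.Perm.SameCycle.refl σ (rep q))
        · intro a ha b hb h
          exact (Function.iterate_eq_iterate_iff_of_lt_minimalPeriod
            (by rw [hper]; exact Finset.mem_range.mp ha) (by rw [hper]; exact Finset.mem_range.mp hb)).mp h
    calc p * Fintype.card (Quotient s) = ∑ _q : Quotient s, p := by
          rw [Finset.sum_const, Finset.card_univ, smul_eq_mul, mul_comm]
      _ ≤ ∑ q, ((fib q).card + if q ∈ fx then p - 1 else 0) := Finset.sum_le_sum fun q _ => hbig q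
      _ = Fintype.card Ω + fx.card * (p - 1) := by
          rw [Finset.sum_add_distrib, hsumfib, ← Finset.sum_filter, Finset.sum_const, smul_eq_mul]
          congr 2
          simp [fx]
      _ ≤ _ := by
          rw [mul_comm fx.card]
          exact Nat.add_le_add_left (Nat.mul_le_mul_left _ hfx) _
  calc p * Module.finrank K (LinearMap.ker (T - 1)) ≤ p * (Fintype.card (Quotient s) * d) :=
        Nat.mul_le_mul_left _ h1
    _ ≤ _ := by rw [← mul_assoc]; exact Nat.mul_le_mul_right _ h2

/-- An orthogonal family of idempotents: the ranks add up to at most the dimension. -/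
theorem card_mul_le_finrank {K X : Type*} [Field K] [AddCommGroup X] [Module K X]
    [FiniteDimensional K X] {Ω : Type*} [Fintype Ω] [DecidableEq Ω] (P : Ω → Module.End K X)
    (horth : ∀ a b, P a * P b = if a = b then P a else 0) (d : ℕ)
    (hd : ∀ w, d ≤ Module.finrank K (LinearMap.range (P w))) :
    Fintype.card Ω * d ≤ Module.finrank K X := by
  let Φ : X →ₗ[K] ((w : Ω) → LinearMap.range (P w)) := LinearMap.pi fun w => (P w).rangeRestrict
  have hsurj : Function.Surjective Φ := by
    intro y
    refine ⟨∑ w, (y w : X), funext fun a => Subtype.ext ?_⟩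
    show P a (∑ w, (y w : X)) = (y a : X)
    rw [map_sum]
    have h : ∀ w, P a (y w : X) = if a = w then (y w : X) else 0 := by
      intro w
      obtain ⟨v, hv⟩ := (y w).2
      rw [← hv, ← Module.End.mul_apply, horth]
      split_ifs with h
      · subst h; rfl
      · rfl
    rw [Finset.sum_congr rfl fun w _ => h w, Finset.sum_ite_eq]
    simp
  have h1 := LinearMap.finrank_le_finrank_of_surjective hsurj
  rw [Module.finrank_pi_fintype] at h1
  refine le_trans ?_ h1
  refine le_trans ?_ (Finset.card_nsmul_le_sum _ _ d fun w _ => hd w)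
  rw [Finset.card_univ, smul_eq_mul]

/-- A nontrivial automorphism of prime order `p > 3` fixes at most a quarter of a finite
commutative group. -/
theorem four_mul_card_fixed_le {W : Type*} [CommGroup W] [Finite W] (φ : W ≃* W) {p : ℕ}
    (hp : p.Prime) (hp3 : 3 < p) (hφ : ∀ a, (φ : W → W)^[p] a = a) (hne : ∃ a, φ a ≠ a) :
    4 * Nat.card {a // φ a = a} ≤ Nat.card W := by
  classical
  let δ : W →* W :=
    { toFun := fun a => φ a / a
      map_one' := by simp
      map_mul' := fun a b => by rw [map_mul, mul_div_mul_comm] }
  have hker : Nat.card δ.ker = Nat.card {a // φ a = a} :=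
    Nat.card_congr (Equiv.subtypeEquivRight fun a => by
      rw [MonoidHom.mem_ker]; exact div_eq_one)
  have hcard : Nat.card W = Nat.card δ.range * Nat.card δ.ker := by
    rw [Subgroup.card_eq_card_quotient_mul_card_subgroup δ.ker,
      Nat.card_congr (QuotientGroup.quotientKerEquivRange δ).toEquiv]
  rw [hcard, hker]
  refine Nat.mul_le_mul_right _ ?_
  by_contra hlt
  push Not at hlt
  obtain ⟨a, ha⟩ := hne
  apply ha
  have hmaps : ∀ u ∈ δ.range, φ u ∈ δ.range := by
    rintro _ ⟨b, rfl⟩
    exact ⟨φ b, by show φ (φ b) / φ b = φ (φ b / b); rw [map_div]⟩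
  have hfix : ∀ u ∈ δ.range, φ u = u := by
    intro u hu
    by_contra hmove
    haveI := Fact.mk hp
    have hper : Function.minimalPeriod φ u = p := Function.minimalPeriod_eq_prime (hφ u) hmove
    have hle : p ≤ Nat.card δ.range := by
      have hit : ∀ i, (φ : W → W)^[i] u ∈ δ.range := by
        intro i
        induction i with
        | zero => exact hu
        | succ i ih => rw [Function.iterate_succ_apply']; exact hmaps _ ih
      rw [← Nat.card_fin p]
      exact Nat.card_le_card_of_injective (fun i : Fin p => (⟨_, hit i⟩ : δ.range)) fun i j h =>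
        Fin.ext ((Function.iterate_eq_iterate_iff_of_lt_minimalPeriod (by rw [hper]; exact i.2)
          (by rw [hper]; exact j.2)).mp (congrArg Subtype.val h))
    omega
  set u := δ a with hu
  have hau : φ a = u * a := (div_mul_cancel (φ a) a).symm
  have hiter : ∀ i, (φ : W → W)^[i] a = u ^ i * a := by
    intro i
    induction i with
    | zero => simp
    | succ i ih =>
      rw [Function.iterate_succ_apply', ih, map_mul, map_pow, hfix u ⟨a, rfl⟩, hau, pow_succ]
      ac_rfl
  have hup : u ^ p = 1 := by
    have := hiter p
    rw [hφ a] at this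
    exact right_eq_mul.mp this
  have hu1 : u = 1 := by
    by_contra hu1
    haveI := Fact.mk hp
    have ho := orderOf_eq_prime hup hu1
    have := Nat.le_of_dvd Nat.card_pos (ho ▸ Subgroup.orderOf_dvd_natCard δ.range ⟨a, rfl⟩)
    omega
  rw [hau, hu1, one_mul]

end H32.HalfFix
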