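import Cfsg.Agent.H32.HalfFixAbelian
import Cfsg.Agent.H10.QuadGroup
import Cfsg.Agent.H10.PStability
import Cfsg.Agent.H84.PQLemma

/-!
In an irreducible soluble linear group over an algebraically closed field generated by the
conjugates of an element of prime order `p > 3`, that element fixes less than half of the space.
-/

set_option autoImplicit false
set_option linter.style.haveILetI false

namespace H32.HalfFix

open scoped commutatorElement IsMulCommutative

universe u v w

theorem commutator_mul_left_of_central {G : Type*} [Group G] {a b c : G}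
    (h : ∀ g, g * ⁅b, c⁆ = ⁅b, c⁆ * g) : ⁅a * b, c⁆ = ⁅a, c⁆ * ⁅b, c⁆ := by
  calc ⁅a * b, c⁆ = a * ⁅b, c⁆ * (c * a⁻¹ * c⁻¹) := by simp only [commutatorElement_def]; group
    _ = ⁅b, c⁆ * (a * (c * a⁻¹ * c⁻¹)) := by rw [h a, mul_assoc]
    _ = (a * (c * a⁻¹ * c⁻¹)) * ⁅b, c⁆ := (h _).symm
    _ = _ := by simp only [commutatorElement_def]; group

theorem commutator_mul_right_of_central {G : Type*} [Group G] {a b c : G}
    (h : ∀ g, g * ⁅a, c⁆ = ⁅a, c⁆ * g) : ⁅a, b * c⁆ = ⁅a, b⁆ * ⁅a, c⁆ := by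
  calc ⁅a, b * c⁆ = a * b * a⁻¹ * ⁅a, c⁆ * b⁻¹ := by simp only [commutatorElement_def]; group
    _ = ⁅a, c⁆ * (a * b * a⁻¹ * b⁻¹) := by rw [h (a * b * a⁻¹), mul_assoc]
    _ = (a * b * a⁻¹ * b⁻¹) * ⁅a, c⁆ := (h _).symm
    _ = _ := by simp only [commutatorElement_def]

/-- A transvection of prime order `p > 3` in a soluble group acting irreducibly on an elementary
abelian `p`-group is trivial. -/
theorem not_transvection {Q : Type u} [Group Q] [Finite Q] [Group.IsSolvable Q] {p : ℕ}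
    [Fact p.Prime] (hp3 : 3 < p) (A : Subgroup Q) [A.Normal]
    (hA : Cfsg.IsElementaryAbelian p A) (hne : A ≠ ⊥)
    (hmin : ∀ N : Subgroup Q, N.Normal → N ≤ A → N ≠ ⊥ → N = A) (x : Q)
    (hquad : H10.IsQuadOn A x) : x ∈ Subgroup.centralizer (A : Set Q) := by
  classical
  obtain ⟨n, ρ, hker, hq⟩ := H10.exists_rep A hA (H := (⊤ : Subgroup Q))
    (by rw [Subgroup.normalizer_eq_top])
  by_contra hxC
  set C := Subgroup.centralizer (A : Set Q) with hC
  let ρ₀ : Q →* Module.End (AlgebraicClosure (ZMod p)) (Fin n → AlgebraicClosure (ZMod p)) :=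
    ρ.comp Subgroup.topEquiv.symm.toMonoidHom
  have hker₀ : ∀ y, ρ₀ y = 1 ↔ y ∈ C := fun y => hker _
  let ρ₁ := QuotientGroup.lift C ρ₀ fun y hy => MonoidHom.mem_ker.mpr ((hker₀ y).mpr hy)
  have hinj : Function.Injective ρ₁ := by
    rw [← MonoidHom.ker_eq_bot_iff, eq_bot_iff]
    intro y hy
    obtain ⟨g, rfl⟩ := QuotientGroup.mk'_surjective C y
    exact Subgroup.mem_bot.mpr ((QuotientGroup.eq_one_iff g).mpr ((hker₀ g).mp hy))
  have hq1 : H10.IsQuadEnd ρ₁ (x : Q ⧸ C) := hq ⟨x, trivial⟩ hquad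
  have hcore : Cfsg.pCore p (Q ⧸ C) = ⊥ := by
    rw [eq_bot_iff]
    intro y hy
    obtain ⟨g, rfl⟩ := QuotientGroup.mk'_surjective C y
    set Y := (Cfsg.pCore p (Q ⧸ C)).comap (QuotientGroup.mk' C) with hY
    haveI : Y.Normal := Subgroup.Normal.comap inferInstance _
    obtain ⟨S⟩ : Nonempty (Sylow p Y) := inferInstance
    set S' := (S : Subgroup Y).map Y.subtype with hS'
    have hS'p : IsPGroup p S' := S.isPGroup'.map _
    have hAp : IsPGroup p A := fun a => ⟨1, Subtype.ext (by simpa using hA.2 _ a.2)⟩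
    have hAS : S' ≤ Subgroup.normalizer (A : Set Q) := by
      rw [Subgroup.normalizer_eq_top]; exact le_top
    have hYS : ∀ z ∈ Y, ∃ s ∈ S', ∃ c ∈ C, z = s * c := by
      intro z hz
      let f := (QuotientGroup.mk' C).comp Y.subtype
      have hfr : IsPGroup p f.range := by
        refine (H10.pCore_isPGroup (G := Q ⧸ C) (p := p)).to_le ?_
        rintro _ ⟨b, rfl⟩
        exact b.2
      let T := S.mapSurjective (f := f.rangeRestrict) f.rangeRestrict_surjective
      have hT : (T : Subgroup f.range) = ⊤ := by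
        rw [← Subgroup.index_eq_one]
        obtain ⟨k, hk⟩ := hfr.exists_card_eq
        have hd := (T : Subgroup f.range).index_dvd_card
        rw [hk] at hd
        obtain ⟨i, -, hi⟩ := (Nat.dvd_prime_pow (Fact.out : p.Prime)).mp hd
        rcases Nat.eq_zero_or_pos i with h0 | h0
        · rw [hi, h0, pow_zero]
        · exact absurd (hi ▸ dvd_pow_self p h0.ne') T.not_dvd_index
      obtain ⟨s, hs, hse⟩ := hT.ge (Subgroup.mem_top (f.rangeRestrict ⟨z, hz⟩))
      refine ⟨s, ⟨s, hs, rfl⟩, (s : Q)⁻¹ * z, ?_, by group⟩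
      exact QuotientGroup.eq.mp (congrArg Subtype.val hse)
    have hlt : ⁅A, S'⁆ < A := H84.commutator_lt_of_isPGroup hAp hS'p hAS hne
    have heq : ⁅A, Y⁆ ≤ ⁅A, S'⁆ := by
      rw [Subgroup.commutator_le]
      intro a ha z hz
      obtain ⟨s, hs, c, hc, rfl⟩ := hYS z hz
      have hca : c * a⁻¹ * c⁻¹ = a⁻¹ := by
        rw [mul_inv_eq_iff_eq_mul]
        exact (Subgroup.mem_centralizer_iff.mp hc _ (inv_mem ha)).symm
      have e : ⁅a, s * c⁆ = a * s * (c * a⁻¹ * c⁻¹) * s⁻¹ := by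
        simp only [commutatorElement_def]; group
      rw [e, hca, ← commutatorElement_def]
      exact Subgroup.commutator_mem_commutator ha hs
    have hbot : ⁅A, Y⁆ = ⊥ := by
      by_contra hb
      exact hlt.not_ge ((hmin _ (Subgroup.commutator_normal A Y) (heq.trans hlt.le) hb).ge.trans heq)
    refine Subgroup.mem_bot.mpr ((QuotientGroup.eq_one_iff g).mpr ?_)
    rw [Subgroup.commutator_comm, Subgroup.commutator_eq_bot_iff_le_centralizer] at hbot
    exact hbot hy
  have h3 := (H10.end_sl23_of_not_mem_pCore (show p ≠ 2 by omega) hinj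
    H10.isPSolvable_of_isSolvable hq1 (by
      rw [hcore, Subgroup.mem_bot]
      exact fun h => hxC ((QuotientGroup.eq_one_iff x).mp h))).1
  omega

theorem main {G : Type u} [Group G] [Finite G] [Group.IsSolvable G] {K : Type v} [Field K]
    [IsAlgClosed K] (ℓ : ℕ) [Fact ℓ.Prime] [CharP K ℓ] {V : Type w} [AddCommGroup V] [Module K V]
    [FiniteDimensional K V] [Nontrivial V] {p : ℕ} (hp : p.Prime) (hp3 : 3 < p) (x : G)
    (hx : x ^ p = 1) (hx1 : x ≠ 1) (hgen : Subgroup.normalClosure {x} = ⊤)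
    (ρ : G →* Module.End K V) (hinj : Function.Injective ρ) (hirr : Irred ρ) :
    2 * Module.finrank K (LinearMap.ker (ρ x - 1)) < Module.finrank K V := by
  classical
  haveI := Fact.mk hp
  by_contra hgoal
  have hsc : ∀ (A : Subgroup G) [A.Normal] [IsMulCommutative A], ∀ a ∈ A, ∃ c : K, ρ a = c • 1 :=
    fun A _ _ => (scalar_or_bound ℓ hp hp3 x hx hgen hinj hirr A).resolve_right hgoal
  have hcen : ∀ a : G, (∃ c : K, ρ a = c • 1) → a ∈ Subgroup.center G := by
    rintro a ⟨c, hc⟩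
    rw [Subgroup.mem_center_iff]
    exact fun g => hinj (by rw [map_mul, map_mul, hc, mul_smul_comm, smul_mul_assoc, mul_one, one_mul])
  have hle : ∀ (A : Subgroup G) [A.Normal] [IsMulCommutative A], A ≤ Subgroup.center G :=
    fun A _ _ a ha => hcen a (hsc A a ha)
  set Z := Subgroup.center G with hZ
  haveI : IsMulCommutative Z := ⟨⟨fun a b => Subtype.ext (Subgroup.mem_center_iff.mp b.2 a)⟩⟩
  have hxZ : x ∉ Z := by
    intro hxZ
    obtain ⟨c, hc⟩ := hsc Z x hxZ
    have hc1 : c ≠ 1 := fun h => hx1 (hinj (by rw [hc, h, one_smul, map_one]))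
    apply hgoal
    have hbot : LinearMap.ker (ρ x - 1) = ⊥ := by
      rw [LinearMap.ker_eq_bot']
      intro v hv
      rw [LinearMap.sub_apply, hc, LinearMap.smul_apply, Module.End.one_apply] at hv
      have h2 : (c - 1) • v = 0 := by rw [sub_smul, one_smul, hv]
      exact (smul_eq_zero.mp h2).resolve_left (sub_ne_zero.mpr hc1)
    rw [hbot, finrank_bot, mul_zero]
    exact Module.finrank_pos
  set π := QuotientGroup.mk' Z with hπ
  have hπs : Function.Surjective π := QuotientGroup.mk'_surjective Z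
  haveI : Group.IsSolvable (G ⧸ Z) := Group.isSolvable_of_surjective hπs
  haveI : Nontrivial (G ⧸ Z) := ⟨⟨π x, 1, fun h => hxZ ((QuotientGroup.eq_one_iff x).mp h)⟩⟩
  obtain ⟨A, ⟨hAn, hAne⟩, hmin'⟩ := Set.Finite.exists_minimal (Set.toFinite
    {N : Subgroup (G ⧸ Z) | N.Normal ∧ N ≠ ⊥}) ⟨⊤, Subgroup.normal_top, top_ne_bot⟩
  haveI := hAn
  have hmin : ∀ N : Subgroup (G ⧸ Z), N.Normal → N ≤ A → N ≠ ⊥ → N = A :=
    fun N hN hle hne => le_antisymm hle (hmin' ⟨hN, hne⟩ hle)
  haveI hAc : IsMulCommutative A := by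
    have hlt : ⁅A, A⁆ ≠ A := by
      intro h
      obtain ⟨n, hn⟩ := (Group.isSolvable_def (G := G ⧸ Z)).mp inferInstance
      apply hAne
      rw [eq_bot_iff, ← hn]
      clear hn
      induction n with
      | zero => rw [derivedSeries_zero]; exact le_top
      | succ n ih => rw [derivedSeries_succ]; exact h.ge.trans (Subgroup.commutator_mono ih ih)
    have hbot : ⁅A, A⁆ = ⊥ := by
      by_contra hb
      exact hlt (hmin _ (Subgroup.commutator_normal A A) (Subgroup.commutator_le_left A A) hb)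
    exact ⟨⟨fun a b => Subtype.ext (commutatorElement_eq_one_iff_commute.mp (Subgroup.mem_bot.mp
      (hbot ▸ Subgroup.commutator_mem_commutator a.2 b.2))).eq⟩⟩
  obtain ⟨q, hq, hexp⟩ := pow_eq_one_of_minimal A hAne hmin
  haveI := Fact.mk hq
  set E := A.comap π with hE
  haveI : E.Normal := Subgroup.Normal.comap inferInstance π
  have hZE : Z ≤ E := fun z hz => by
    rw [hE, Subgroup.mem_comap, show π z = 1 from (QuotientGroup.eq_one_iff z).mpr hz]
    exact one_mem A
  have hEnc : ¬ IsMulCommutative E := by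
    intro h
    apply hAne
    rw [eq_bot_iff]
    intro a ha
    obtain ⟨e, rfl⟩ := hπs a
    exact Subgroup.mem_bot.mpr ((QuotientGroup.eq_one_iff e).mpr (hle E ha))
  have hcomm : ∀ a ∈ E, ∀ b ∈ E, ⁅a, b⁆ ∈ Z := by
    intro a ha b hb
    refine (QuotientGroup.eq_one_iff _).mp ?_
    show π ⁅a, b⁆ = 1
    rw [map_commutatorElement, commutatorElement_eq_one_iff_commute]
    exact congrArg Subtype.val (hAc.is_comm.comm ⟨π a, ha⟩ ⟨π b, hb⟩)
  have hcent : ∀ a ∈ E, ∀ b ∈ E, ∀ g, g * ⁅a, b⁆ = ⁅a, b⁆ * g :=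
    fun a ha b hb g => Subgroup.mem_center_iff.mp (hcomm a ha b hb) g
  -- `x` moves the section
  have hmove : ∃ a : A, (MulAut.conjNormal (π x) : MulAut A) a ≠ a := by
    by_contra hall
    push Not at hall
    have hC : Subgroup.normalClosure {π x} ≤ Subgroup.centralizer (A : Set (G ⧸ Z)) := by
      refine Subgroup.normalClosure_le_normal (Set.singleton_subset_iff.mpr ?_)
      rw [SetLike.mem_coe, Subgroup.mem_centralizer_iff]
      intro a ha
      have h1 : π x * a * (π x)⁻¹ = a := congrArg Subtype.val (hall ⟨a, ha⟩)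
      exact (mul_inv_eq_iff_eq_mul.mp h1).symm
    rw [← Set.image_singleton, ← Subgroup.map_normalClosure _ _ hπs, hgen,
      Subgroup.map_top_of_surjective _ hπs] at hC
    obtain ⟨u, huA, hu1⟩ := (Subgroup.ne_bot_iff_exists_ne_one.mp hAne) |> fun ⟨⟨a, ha⟩, h⟩ =>
      (⟨a, ha, fun h' => h (Subtype.ext h')⟩ : ∃ a, a ∈ A ∧ a ≠ 1)
    have hzn : (Subgroup.zpowers u).Normal := ⟨fun z hz g => by
      obtain ⟨i, rfl⟩ := hz
      rw [← Subgroup.mem_centralizer_iff.mp (hC (Subgroup.mem_top g)) (u ^ i) (zpow_mem huA i),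
        mul_inv_cancel_right]
      exact ⟨i, rfl⟩⟩
    have hAu : Subgroup.zpowers u = A := hmin _ hzn (Subgroup.zpowers_le.mpr huA)
      (fun h => hu1 (Subgroup.zpowers_eq_bot.mp h))
    obtain ⟨e₀, he₀⟩ := hπs u
    apply hEnc
    refine ⟨⟨fun a b => Subtype.ext ?_⟩⟩
    have hdec : ∀ a : E, ∃ (i : ℤ), ∃ z ∈ Z, (a : G) = e₀ ^ i * z := by
      intro a
      obtain ⟨i, hi⟩ := hAu.ge a.2
      refine ⟨i, (e₀ ^ i)⁻¹ * a, (QuotientGroup.eq_one_iff _).mp ?_, by group⟩
      show π ((e₀ ^ i)⁻¹ * a) = 1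
      rw [map_mul, map_inv, map_zpow, he₀, inv_mul_eq_one]
      exact hi
    obtain ⟨i, z, hz, ha⟩ := hdec a
    obtain ⟨j, z', hz', hb⟩ := hdec b
    show (a : G) * b = b * a
    rw [ha, hb]
    have c1 : ∀ g, Commute g z := fun g => Subgroup.mem_center_iff.mp hz g
    have c2 : ∀ g, Commute g z' := fun g => Subgroup.mem_center_iff.mp hz' g
    have c0 : Commute (e₀ ^ i) (e₀ ^ j) := (Commute.refl e₀).zpow_zpow i j
    exact ((c0.mul_right (c2 _)).mul_left ((c1 _).symm.mul_right (c2 _))).eq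
  have hql : q ≠ ℓ := by
    intro h
    apply hEnc
    refine ⟨⟨fun a b => Subtype.ext ?_⟩⟩
    have hzn : (Subgroup.zpowers ⁅(a : G), (b : G)⁆).Normal := ⟨fun z hz g => by
      obtain ⟨i, rfl⟩ := hz
      have : g * ⁅(a : G), (b : G)⁆ ^ i = ⁅(a : G), (b : G)⁆ ^ i * g :=
        Subgroup.mem_center_iff.mp (zpow_mem (hcomm _ a.2 _ b.2) i) g
      rw [this, mul_inv_cancel_right]
      exact ⟨i, rfl⟩⟩
    have hnd := not_dvd_card (ℓ := ℓ) hinj hirr (Subgroup.zpowers ⁅(a : G), (b : G)⁆)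
      ⟨⟨fun u v => Subtype.ext (by
        obtain ⟨i, hi⟩ := u.2
        obtain ⟨j, hj⟩ := v.2
        show (u : G) * v = v * u
        rw [← hi, ← hj]
        exact (Commute.zpow_zpow (Commute.refl _) i j).eq)⟩⟩
    rw [Nat.card_zpowers] at hnd
    have hpow : ∀ i : ℕ, ⁅(a : G) ^ i, (b : G)⁆ = ⁅(a : G), (b : G)⁆ ^ i := by
      intro i
      induction i with
      | zero => simp [commutatorElement_def]
      | succ i ih =>
        rw [pow_succ, commutator_mul_left_of_central (hcent _ a.2 _ b.2), ih, pow_succ]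
    have hq1 : ⁅(a : G), (b : G)⁆ ^ q = 1 := by
      rw [← hpow, commutatorElement_eq_one_iff_commute]
      have : (a : G) ^ q ∈ Z := (QuotientGroup.eq_one_iff _).mp (by
        show π ((a : G) ^ q) = 1
        rw [map_pow]; exact hexp _ a.2)
      exact (Subgroup.mem_center_iff.mp this b).symm
    by_contra hab
    exact hnd (h ▸ (orderOf_eq_prime hq1 fun h1 =>
      hab (commutatorElement_eq_one_iff_commute.mp h1).eq).symm.dvd)
  haveI := Fintype.ofFinite A
  haveI : NeZero (Fintype.card A : K) := ⟨fun h => by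
    rw [← Nat.card_eq_fintype_card, CharP.cast_eq_zero_iff K ℓ] at h
    have hAq : IsPGroup q A := fun a => ⟨1, Subtype.ext (by simpa using hexp _ a.2)⟩
    obtain ⟨k, hk⟩ := hAq.exists_card_eq
    rw [hk] at h
    exact hql ((Nat.prime_dvd_prime_iff_eq (Fact.out : ℓ.Prime) hq).mp
      ((Fact.out : ℓ.Prime).dvd_of_dvd_pow h)).symm⟩
  -- the scalars of the centre
  obtain ⟨v₀, hv₀⟩ := exists_ne (0 : V)
  have huniq : ∀ c c' : K, (c • (1 : Module.End K V)) = c' • 1 → c = c' := fun c c' h =>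
    smul_left_injective K hv₀ (LinearMap.congr_fun h v₀)
  choose ζ₀ hζ₀ using fun z : Z => hsc Z z z.2
  let ζK : Z →* K :=
    { toFun := ζ₀
      map_one' := huniq _ _ (by rw [← hζ₀, one_smul, OneMemClass.coe_one, map_one])
      map_mul' := fun a b => huniq _ _ (by
        rw [← hζ₀, Subgroup.coe_mul, map_mul, hζ₀, hζ₀, smul_mul_smul_comm, one_mul]) }
  let ζ : Z →* Kˣ := ζK.toHomUnits
  have hζ : ∀ z : Z, ρ z = (ζ z : K) • 1 := fun z => hζ₀ z
  have hζinj : ∀ z : Z, ζ z = 1 → z = 1 := fun z h => Subtype.ext (hinj (by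
    rw [hζ, h, Units.val_one, one_smul, OneMemClass.coe_one, map_one]))
  choose s hs using fun a : A => hπs (a : G ⧸ Z)
  have hsE : ∀ a, s a ∈ E := fun a => by
    rw [hE, Subgroup.mem_comap, hs]; exact a.2
  let β : A → A → Z := fun w u => ⟨⁅s u, s w⁆, hcomm _ (hsE u) _ (hsE w)⟩
  have hind : ∀ (u : A) (a : G), π a = u → ∀ b ∈ E, ⁅a, b⁆ = ⁅s u, b⁆ ∧ ⁅b, a⁆ = ⁅b, s u⁆ := by
    intro u a ha b hb
    have hz : (s u)⁻¹ * a ∈ Z := (QuotientGroup.eq_one_iff _).mp (by
      show π ((s u)⁻¹ * a) = 1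
      rw [map_mul, map_inv, hs, ha, inv_mul_cancel])
    have h1 : ⁅(s u)⁻¹ * a, b⁆ = 1 :=
      commutatorElement_eq_one_iff_commute.mpr (Subgroup.mem_center_iff.mp hz b).symm
    have h2 : ⁅b, (s u)⁻¹ * a⁆ = 1 :=
      commutatorElement_eq_one_iff_commute.mpr (Subgroup.mem_center_iff.mp hz b)
    constructor
    · conv_lhs => rw [← mul_inv_cancel_left (s u) a]
      rw [commutator_mul_left_of_central (fun g => by rw [h1, mul_one, one_mul]), h1, mul_one]
    · conv_lhs => rw [← mul_inv_cancel_left (s u) a]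
      rw [commutator_mul_right_of_central (fun g => by rw [h2, mul_one, one_mul]), h2, mul_one]
  have hβu : ∀ w u u', β w (u * u') = β w u * β w u' := fun w u u' => Subtype.ext (by
    show ⁅s (u * u'), s w⁆ = ⁅s u, s w⁆ * ⁅s u', s w⁆
    rw [← (hind (u * u') (s u * s u') (by rw [map_mul, hs, hs]; rfl) _ (hsE w)).1,
      commutator_mul_left_of_central (hcent _ (hsE u') _ (hsE w))])
  have hβw : ∀ w w' u, β (w * w') u = β w u * β w' u := fun w w' u => Subtype.ext (by
    show ⁅s u, s (w * w')⁆ = ⁅s u, s w⁆ * ⁅s u, s w'⁆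
    rw [← (hind (w * w') (s w * s w') (by rw [map_mul, hs, hs]; rfl) _ (hsE u)).2,
      commutator_mul_right_of_central (hcent _ (hsE u) _ (hsE w'))])
  let χ : A →* A →* Kˣ := MonoidHom.mk' (fun w => MonoidHom.mk' (fun u => ζ (β w u))
    fun u u' => by rw [hβu, map_mul]) fun w w' => MonoidHom.ext fun u => by
      show ζ (β (w * w') u) = ζ (β w u) * ζ (β w' u)
      rw [hβw, map_mul]
  have hχinj : Function.Injective χ := by
    rw [← MonoidHom.ker_eq_bot_iff, eq_bot_iff]
    intro w hw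
    set CE := E ⊓ Subgroup.centralizer (E : Set G) with hCE
    haveI : IsMulCommutative CE :=
      ⟨⟨fun a b => Subtype.ext (Subgroup.mem_centralizer_iff.mp b.2.2 a a.2.1)⟩⟩
    have hwC : s w ∈ CE := by
      refine ⟨hsE w, Subgroup.mem_centralizer_iff.mpr fun e he => ?_⟩
      have h1 : ζ (β w ⟨π e, he⟩) = 1 := DFunLike.congr_fun (MonoidHom.mem_ker.mp hw) _
      have h2 : ⁅s ⟨π e, he⟩, s w⁆ = 1 := congrArg Subtype.val (hζinj _ h1)
      rw [← (hind ⟨π e, he⟩ e rfl _ (hsE w)).1, commutatorElement_eq_one_iff_commute] at h2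
      exact h2
    refine Subgroup.mem_bot.mpr (Subtype.ext ?_)
    rw [← hs w]
    exact (QuotientGroup.eq_one_iff _).mpr (hle CE hwC)
  have hhalt : ∀ w, χ w w = 1 := fun w => by
    show ζ (β w w) = 1
    rw [show β w w = 1 from Subtype.ext (commutatorElement_self _), map_one]
  let φ : A ≃* A := MulAut.conjNormal (π x)
  have hinv : ∀ u w, χ (φ w) (φ u) = χ w u := by
    intro u w
    show ζ (β (φ w) (φ u)) = ζ (β w u)
    congr 1
    refine Subtype.ext ?_
    show ⁅s (φ u), s (φ w)⁆ = ⁅s u, s w⁆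
    have hl : ∀ a : A, π (x * s a * x⁻¹) = (φ a : G ⧸ Z) := fun a => by
      rw [map_mul, map_mul, map_inv, hs]; rfl
    have hm : x * s w * x⁻¹ ∈ E := (inferInstance : E.Normal).conj_mem _ (hsE w) x
    rw [← (hind (φ w) _ (hl w) _ (hsE (φ u))).2, ← (hind (φ u) _ (hl u) _ hm).1,
      ← conjugate_commutatorElement, hcent _ (hsE u) _ (hsE w) x, mul_inv_cancel_right]
  have hφp : ∀ a, (φ : A → A)^[p] a = a := by
    intro a
    have hit : ∀ i : ℕ, (φ : A → A)^[i] a = MulAut.conjNormal (π x ^ i) a := by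
      intro i
      induction i with
      | zero => simp
      | succ i ih => rw [Function.iterate_succ_apply', ih, pow_succ', map_mul, MulAut.mul_apply]
    rw [hit, ← map_pow π, hx, map_one, map_one, MulAut.one_apply]
  rcases fixed_bound hq hp hp3 (fun w => Subtype.ext (by simpa using hexp _ w.2)) χ hχinj hhalt φ
    hinv hφp hmove with hcount | ⟨rfl, hquad⟩
  swap
  · have hAe : Cfsg.IsElementaryAbelian q A := ⟨inferInstance, hexp⟩
    obtain ⟨a, ha⟩ := hmove
    apply ha
    have hxc := not_transvection hp3 A hAe hAne hmin (π x) (by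
      show ⁅⁅A, Subgroup.zpowers (π x)⁆, Subgroup.zpowers (π x)⁆ = ⊥
      rw [Subgroup.commutator_eq_bot_iff_le_centralizer, Subgroup.commutator_le]
      intro a ha z hz
      obtain ⟨i, rfl⟩ := (mem_powers_iff_mem_zpowers (y := z) (x := π x)).mpr hz
      set d : A := φ ⟨a, ha⟩ / ⟨a, ha⟩ with hd
      have hdfix : φ d = d := hquad _
      have hau : φ ⟨a, ha⟩ = d * ⟨a, ha⟩ := (div_mul_cancel _ _).symm
      have hit : ∀ i : ℕ, MulAut.conjNormal (π x ^ i) ⟨a, ha⟩ = d ^ i * ⟨a, ha⟩ := by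
        intro i
        induction i with
        | zero => simp
        | succ i ih =>
          rw [pow_succ', map_mul, MulAut.mul_apply, ih]
          show φ (d ^ i * ⟨a, ha⟩) = _
          rw [map_mul, map_pow, hdfix, hau, pow_succ]
          ac_rfl
      have h1 : π x ^ i * a * (π x ^ i)⁻¹ = (d : G ⧸ Z) ^ i * a := congrArg Subtype.val (hit i)
      have e : ⁅a, π x ^ i⁆ = ((d : G ⧸ Z) ^ i)⁻¹ := by
        calc ⁅a, π x ^ i⁆ = a * (π x ^ i * a * (π x ^ i)⁻¹)⁻¹ := by
              simp only [commutatorElement_def]; group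
          _ = _ := by rw [h1]; group
      show ⁅a, π x ^ i⁆ ∈ _
      rw [e]
      refine inv_mem (pow_mem ?_ i)
      rw [Subgroup.mem_centralizer_iff]
      rintro _ ⟨j, rfl⟩
      have hxd : Commute (π x) (d : G ⧸ Z) :=
        mul_inv_eq_iff_eq_mul.mp (congrArg Subtype.val hdfix)
      exact (hxd.zpow_left j).eq)
    refine Subtype.ext ?_
    show π x * a * (π x)⁻¹ = a
    rw [← Subgroup.mem_centralizer_iff.mp hxc _ a.2, mul_inv_cancel_right]
  -- conjugation on the endomorphisms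
  let C0 : G →* Module.End K (Module.End K V) :=
    { toFun := fun g => LinearMap.mulLeft K (ρ g) ∘ₗ LinearMap.mulRight K (ρ g⁻¹)
      map_one' := LinearMap.ext fun T => by simp
      map_mul' := fun g h => LinearMap.ext fun T => by
        show ρ (g * h) * (T * ρ (g * h)⁻¹) = ρ g * ((ρ h * (T * ρ h⁻¹)) * ρ g⁻¹)
        rw [mul_inv_rev, map_mul, map_mul]
        simp only [mul_assoc] }
  have hC0 : ∀ g T, C0 g T = ρ g * (T * ρ g⁻¹) := fun g T => rfl
  let C := QuotientGroup.lift Z C0 fun z hz => MonoidHom.mem_ker.mpr (LinearMap.ext fun T => by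
    show ρ z * (T * ρ z⁻¹) = T
    have hz1 := hζ ⟨z, hz⟩
    simp only at hz1
    rw [← mul_assoc, hz1, smul_mul_assoc, one_mul, ← mul_one T, ← mul_smul_comm, ← hz1, mul_assoc,
      mul_one, ← map_mul, mul_inv_cancel, map_one, mul_one])
  have hC : ∀ g, C (π g) = C0 g := fun g => rfl
  haveI := finite_char (K := K) A
  haveI := Fintype.ofFinite (A →* Kˣ)
  have hbij : Function.Bijective χ := (Nat.bijective_iff_injective_and_card _).mpr
    ⟨hχinj, by rw [card_char, Nat.card_eq_fintype_card]⟩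
  -- left multiplication moves the projections
  let L : G → Module.End K (Module.End K V) := fun g => LinearMap.mulLeft K (ρ g)
  have hL : ∀ (w u : A), C (u : G ⧸ Z) * L (s w) = (χ w u : K) • (L (s w) * C (u : G ⧸ Z)) := by
    intro w u
    rw [← hs u, hC]
    refine LinearMap.ext fun T => ?_
    show ρ (s u) * ((ρ (s w) * T) * ρ (s u)⁻¹) =
      (ζ (β w u) : K) • (ρ (s w) * (ρ (s u) * (T * ρ (s u)⁻¹)))
    have e : ρ (s u) * ρ (s w) = (ζ (β w u) : K) • (ρ (s w) * ρ (s u)) := by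
      rw [← one_mul (ρ (s w) * ρ (s u)), ← smul_mul_assoc, ← hζ, ← map_mul, ← map_mul, ← map_mul]
      congr 1
      show s u * s w = ⁅s u, s w⁆ * (s w * s u)
      simp only [commutatorElement_def]; group
    rw [← mul_assoc, ← mul_assoc, e, smul_mul_assoc, smul_mul_assoc]
    simp only [mul_assoc]
  have hLP : ∀ w, L (s w) * proj C A 1 = proj C A (χ w) * L (s w) := by
    intro w
    rw [proj, proj, mul_smul_comm, smul_mul_assoc, Finset.mul_sum, Finset.sum_mul]
    congr 1
    refine Finset.sum_congr rfl fun u _ => ?_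
    rw [MonoidHom.one_apply, Units.val_one, one_smul, smul_mul_assoc, hL, smul_smul, map_inv,
      ← Units.val_mul, inv_mul_cancel, Units.val_one, one_smul]
  have hLL : ∀ g h, L g * L h = L (g * h) := fun g h => LinearMap.ext fun T => by
    show ρ g * (ρ h * T) = ρ (g * h) * T
    rw [map_mul, mul_assoc]
  have hL1 : L 1 = 1 := LinearMap.ext fun T => by
    show ρ 1 * T = T; rw [map_one, one_mul]
  set d := Module.finrank K (LinearMap.range (proj C A 1)) with hd
  have hrank : ∀ ψ, Module.finrank K (LinearMap.range (proj C A ψ)) = d := by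
    intro ψ
    obtain ⟨w, rfl⟩ := hbij.2 ψ
    refine le_antisymm ?_ ?_
    · rw [show proj C A (χ w) = L (s w) * proj C A 1 * L (s w)⁻¹ by
        rw [hLP, mul_assoc, hLL, mul_inv_cancel, hL1, mul_one]]
      exact finrank_range_mul_le _ _ _
    · rw [hd, show proj C A 1 = L (s w)⁻¹ * proj C A (χ w) * L (s w) by
        rw [mul_assoc, ← hLP, ← mul_assoc, hLL, inv_mul_cancel, hL1, one_mul]]
      exact finrank_range_mul_le _ _ _
  have hσ : (conjPerm A (π x) : Equiv.Perm (A →* Kˣ)) ^ p = 1 := by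
    rw [← map_pow, ← map_pow π, hx, map_one, map_one]
  have h1 := finrank_fixed_le (conjPerm A (π x)) hp hσ (proj C A) (sum_proj C A) (C (π x))
    (fun ψ => rho_mul_proj_conj C A (π x) ψ) d (fun ψ => (hrank ψ).le)
  have h2 := card_mul_le_finrank (proj C A) (proj_mul C A) d fun ψ => (hrank ψ).ge
  have hfix : Nat.card {ψ // conjPerm (K := K) A (π x) ψ = ψ} = Nat.card {a : A // φ a = a} := by
    refine (Nat.card_congr ((Equiv.ofBijective χ hbij).subtypeEquiv fun w => ?_)).symm
    show φ w = w ↔ conjChar A (π x) (χ w) = χ w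
    have he : conjChar A (π x) (χ w) = χ (φ w) := MonoidHom.ext fun u => by
      have hu : φ (MulAut.conjNormal (π x)⁻¹ u) = u := by
        show MulAut.conjNormal (π x) (MulAut.conjNormal (π x)⁻¹ u) = u
        rw [← MulAut.mul_apply, ← map_mul, mul_inv_cancel, map_one, MulAut.one_apply]
      rw [conjChar_apply, ← hinv (MulAut.conjNormal (π x)⁻¹ u) w, hu]
    rw [he]
    exact hχinj.eq_iff.symm
  have hρx : ρ x ≠ 1 := fun h => hx1 (hinj (h.trans ρ.map_one.symm))
  have h3 := sq_add_one_le_finrank_commute (ρ x) hρx (C (π x)) (fun S hS => by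
    rw [hC, hC0, ← mul_assoc, hS, mul_assoc, ← map_mul, mul_inv_cancel, map_one, mul_one])
  rw [← Nat.card_eq_fintype_card, card_char, ← Nat.card_eq_fintype_card] at h1 h2
  rw [hfix] at h1
  rw [Module.finrank_linearMap] at h2
  have h4 : 4 * (p * (Module.finrank K (LinearMap.ker (ρ x - 1)) ^ 2 + 1)) ≤
      p * (Module.finrank K V * Module.finrank K V) := by
    calc 4 * (p * (Module.finrank K (LinearMap.ker (ρ x - 1)) ^ 2 + 1))
        ≤ 4 * ((Nat.card A + (p - 1) * Nat.card {a : A // φ a = a}) * d) :=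
          Nat.mul_le_mul_left _ ((Nat.mul_le_mul_left _ h3).trans h1)
      _ ≤ p * Nat.card A * d := by rw [← mul_assoc]; exact Nat.mul_le_mul_right _ hcount
      _ ≤ _ := by rw [mul_assoc]; exact Nat.mul_le_mul_left _ h2
  have h5 : 4 * (Module.finrank K (LinearMap.ker (ρ x - 1)) ^ 2 + 1) ≤
      Module.finrank K V * Module.finrank K V := by
    refine Nat.le_of_mul_le_mul_left ?_ hp.pos
    rw [← mul_assoc, mul_comm p 4, mul_assoc]
    exact h4
  apply hgoal
  nlinarith

end H32.HalfFix
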