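import Cfsg.Agent.H32.HalfFixMain

/-!
Reduction of the bound on fixed spaces to the irreducible case over an algebraically closed field.
-/

set_option autoImplicit false
set_option linter.style.haveILetI false

namespace H32.HalfFix

open scoped IsMulCommutative commutatorElement

universe u v w

variable {G : Type u} [Group G] [Finite G] [Group.IsSolvable G]

/-- If some subgroup of order prime to the characteristic has no trivial constituent, the bound
holds. -/
theorem bound_of_sum_zero {K : Type v} [Field K] [IsAlgClosed K] (ℓ : ℕ) [Fact ℓ.Prime] [CharP K ℓ]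
    {p : ℕ} (hp : p.Prime) (hp3 : 3 < p) (x : G) (hx : x ^ p = 1)
    (hgen : Subgroup.normalClosure {x} = ⊤) (A : Subgroup G) [Fintype A]
    (hA : (Fintype.card A : K) ≠ 0) : ∀ (n : ℕ) (V : Type w) [AddCommGroup V] [Module K V]
      [FiniteDimensional K V] (ρ : G →* Module.End K V), Module.finrank K V = n → 0 < n →
      (∑ a : A, ρ (a : G)) = 0 →
        2 * Module.finrank K (LinearMap.ker (ρ x - 1)) < n := by
  intro n
  induction n using Nat.strong_induction_on with
  | _ n ih =>
  intro V _ _ _ ρ hn hn0 hsum
  haveI : Nontrivial V := Module.nontrivial_of_finrank_pos (hn ▸ hn0)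
  by_cases hirr : Irred ρ
  · let ρ' := QuotientGroup.lift ρ.ker ρ le_rfl
    have hρ' : Function.Injective ρ' := by
      rw [← MonoidHom.ker_eq_bot_iff, eq_bot_iff]
      intro y hy
      obtain ⟨g, rfl⟩ := QuotientGroup.mk'_surjective ρ.ker y
      exact Subgroup.mem_bot.mpr ((QuotientGroup.eq_one_iff g).mpr hy)
    haveI : Group.IsSolvable (G ⧸ ρ.ker) :=
      Group.isSolvable_of_surjective (QuotientGroup.mk'_surjective ρ.ker)
    have hx1 : (x : G ⧸ ρ.ker) ≠ 1 := by
      intro h
      have hle : Subgroup.normalClosure {x} ≤ ρ.ker := Subgroup.normalClosure_le_normal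
        (Set.singleton_subset_iff.mpr ((QuotientGroup.eq_one_iff x).mp h))
      rw [hgen] at hle
      apply hA
      obtain ⟨v, hv⟩ := exists_ne (0 : V)
      have h2 : (∑ a : A, ρ (a : G)) v = (Fintype.card A : K) • v := by
        rw [LinearMap.sum_apply, Finset.sum_congr rfl fun a _ => by
          rw [MonoidHom.mem_ker.mp (hle (Subgroup.mem_top (a : G))), Module.End.one_apply]]
        rw [Finset.sum_const, Finset.card_univ, Nat.cast_smul_eq_nsmul]
      rw [hsum, LinearMap.zero_apply] at h2
      exact (smul_eq_zero.mp h2.symm).resolve_right hv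
    have h := main (G := G ⧸ ρ.ker) ℓ hp hp3 (x : G ⧸ ρ.ker)
      (by rw [← QuotientGroup.mk_pow, hx, QuotientGroup.mk_one]) hx1
      (by
        rw [← QuotientGroup.mk'_apply, ← Set.image_singleton,
          ← Subgroup.map_normalClosure _ _ (QuotientGroup.mk'_surjective _), hgen,
          Subgroup.map_top_of_surjective _ (QuotientGroup.mk'_surjective _)])
      ρ' hρ' (fun U hU => hirr U fun g v hv => hU g v hv)
    rw [hn] at h
    exact h
  · simp only [Irred, not_forall, not_or] at hirr
    obtain ⟨U, hinv, hUb, hUt⟩ := hirr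
    let ρU : G →* Module.End K U :=
      { toFun := fun g => (ρ g).restrict (hinv g)
        map_one' := LinearMap.ext fun y => Subtype.ext (by simp [LinearMap.restrict_apply])
        map_mul' := fun g h => LinearMap.ext fun y => Subtype.ext (by simp [LinearMap.restrict_apply]) }
    let ρQ : G →* Module.End K (V ⧸ U) :=
      { toFun := fun g => U.mapQ U (ρ g) (fun v hv => hinv g v hv)
        map_one' := Submodule.linearMap_qext _ (LinearMap.ext fun y => by simp)
        map_mul' := fun g h => Submodule.linearMap_qext _ (LinearMap.ext fun y => by simp) }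
    have hsU : (∑ a : A, ρU (a : G)) = 0 := by
      refine LinearMap.ext fun y => Subtype.ext ?_
      rw [LinearMap.sum_apply, Submodule.coe_sum]
      have := LinearMap.congr_fun hsum (y : V)
      rw [LinearMap.sum_apply] at this
      exact this
    have hsQ : (∑ a : A, ρQ (a : G)) = 0 := by
      refine Submodule.linearMap_qext _ (LinearMap.ext fun y => ?_)
      have := congrArg U.mkQ (LinearMap.congr_fun hsum y)
      rw [LinearMap.sum_apply, map_sum] at this
      simp only [LinearMap.comp_apply, LinearMap.sum_apply]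
      exact this.trans (map_zero _)
    have hUpos : 0 < Module.finrank K U := by
      rw [Nat.pos_iff_ne_zero]
      exact fun h => hUb (Submodule.finrank_eq_zero.mp h)
    have hUlt : Module.finrank K U < n := hn ▸ Submodule.finrank_lt hUt
    have hQeq := Submodule.finrank_quotient_add_finrank U
    rw [hn] at hQeq
    have h1 := ih _ hUlt U ρU rfl hUpos hsU
    have h2 := ih (Module.finrank K (V ⧸ U)) (by omega) (V ⧸ U) ρQ rfl (by omega) hsQ
    let g : LinearMap.ker (ρ x - 1) →ₗ[K] LinearMap.ker (ρQ x - 1) :=
      LinearMap.codRestrict _ (U.mkQ.comp (LinearMap.ker (ρ x - 1)).subtype) fun v => by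
        rw [LinearMap.mem_ker]
        have h := congrArg U.mkQ (LinearMap.mem_ker.mp v.2)
        rw [map_zero] at h
        exact h
    have hg : Module.finrank K (LinearMap.ker g) ≤ Module.finrank K (LinearMap.ker (ρU x - 1)) := by
      let f : LinearMap.ker g →ₗ[K] LinearMap.ker (ρU x - 1) :=
        { toFun := fun v => ⟨⟨((v : LinearMap.ker (ρ x - 1)) : V),
            (Submodule.Quotient.mk_eq_zero U).mp (congrArg Subtype.val (LinearMap.mem_ker.mp v.2))⟩, by
            rw [LinearMap.mem_ker]
            exact Subtype.ext (LinearMap.mem_ker.mp (v : LinearMap.ker (ρ x - 1)).2)⟩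
          map_add' := fun _ _ => rfl
          map_smul' := fun _ _ => rfl }
      exact LinearMap.finrank_le_finrank_of_injective (f := f) fun a b h =>
        Subtype.ext (Subtype.ext (congrArg (fun y : LinearMap.ker (ρU x - 1) => ((y : U) : V)) h))
    have h3 := LinearMap.finrank_range_add_finrank_ker g
    have h4 := Submodule.finrank_le (LinearMap.range g)
    omega

/-- The statement over an arbitrary field of positive characteristic. -/
theorem bound {k : Type v} [Field k] (ℓ : ℕ) [Fact ℓ.Prime] [CharP k ℓ] {V : Type w}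
    [AddCommGroup V] [Module k V] [FiniteDimensional k V] [Nontrivial V] {p : ℕ} (hp : p.Prime)
    (hp3 : 3 < p) (x : G) (hx : x ^ p = 1) (hx1 : x ≠ 1)
    (hgen : Subgroup.normalClosure {x} = ⊤) (ρ : G →* Module.End k V) (hinj : Function.Injective ρ)
    (hirr : Irred ρ) :
    2 * Module.finrank k (LinearMap.ker (ρ x - 1)) < Module.finrank k V := by
  classical
  haveI : Nontrivial G := ⟨⟨x, 1, hx1⟩⟩
  obtain ⟨n, hn⟩ := (Group.isSolvable_def (G := G)).mp inferInstance
  have hex : ∃ j, derivedSeries G j = ⊥ := ⟨n, hn⟩
  have hpos : 0 < Nat.find hex := by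
    rw [Nat.pos_iff_ne_zero]
    intro h
    have := Nat.find_spec hex
    rw [h, derivedSeries_zero] at this
    exact top_ne_bot this
  set A := derivedSeries G (Nat.find hex - 1) with hA
  have hAne : A ≠ ⊥ := Nat.find_min hex (by omega)
  haveI : A.Normal := derivedSeries_normal G _
  have hAc : IsMulCommutative A := ⟨⟨fun a b => Subtype.ext (by
    have h : ⁅(a : G), (b : G)⁆ ∈ derivedSeries G (Nat.find hex) := by
      rw [show Nat.find hex = (Nat.find hex - 1) + 1 by omega, derivedSeries_succ]
      exact Subgroup.commutator_mem_commutator a.2 b.2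
    rw [Nat.find_spec hex, Subgroup.mem_bot, commutatorElement_eq_one_iff_commute] at h
    exact h.eq)⟩⟩
  haveI := Fintype.ofFinite A
  have hdvd := not_dvd_card (ℓ := ℓ) hinj hirr A hAc
  set S := ∑ a : A, ρ (a : G) with hS
  have hS0 : S = 0 := by
    have hfix : ∀ a : A, ρ (a : G) * S = S := fun a => by
      rw [hS, Finset.mul_sum]
      exact Fintype.sum_equiv (Equiv.mulLeft a) _ _ fun b => by
        rw [Equiv.coe_mulLeft, Subgroup.coe_mul, map_mul]
    have hcomm : ∀ g, ρ g * S = S * ρ g := fun g => by
      rw [hS, Finset.mul_sum, Finset.sum_mul]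
      refine Fintype.sum_equiv (MulAut.conjNormal g : MulAut A).toEquiv _ _ fun a => ?_
      rw [← map_mul, ← map_mul, MulEquiv.toEquiv_eq_coe, MulEquiv.coe_toEquiv,
        MulAut.conjNormal_apply, inv_mul_cancel_right]
    rcases hirr (LinearMap.range S) (fun g v ⟨u, hu⟩ =>
        ⟨ρ g u, (LinearMap.congr_fun (hcomm g) u).symm.trans (congrArg (ρ g) hu)⟩) with h | h
    · exact LinearMap.range_eq_bot.mp h
    · exfalso
      obtain ⟨a, ha1⟩ := Subgroup.ne_bot_iff_exists_ne_one.mp hAne
      refine ha1 (Subtype.ext (hinj (LinearMap.ext fun v => ?_)))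
      obtain ⟨u, rfl⟩ := h.ge (Submodule.mem_top (x := v))
      rw [OneMemClass.coe_one, map_one, Module.End.one_apply]
      exact LinearMap.congr_fun (hfix a) u
  -- extend the scalars
  let K := AlgebraicClosure k
  haveI : CharP K ℓ := charP_of_injective_algebraMap (algebraMap k K).injective ℓ
  let d := Module.finrank k V
  let B := Module.finBasis k V
  let Rh : Module.End k V →+* Module.End K (Fin d → K) :=
    ((algEquivMatrix' (R := K) (n := Fin d)).symm.toRingEquiv.toRingHom.comp
      (algebraMap k K).mapMatrix).comp (algEquivMatrix B).toRingEquiv.toRingHom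
  have hsum : (∑ a : A, (Rh.toMonoidHom.comp ρ) (a : G)) = 0 := by
    show (∑ a : A, Rh (ρ (a : G))) = 0
    rw [← map_sum Rh, ← hS, hS0, map_zero]
  have hcard : (Fintype.card A : K) ≠ 0 := by
    rw [Ne, CharP.cast_eq_zero_iff K ℓ, ← Nat.card_eq_fintype_card]
    exact hdvd
  have h := bound_of_sum_zero ℓ hp hp3 x hx hgen A hcard d (Fin d → K) (Rh.toMonoidHom.comp ρ)
    (Module.finrank_fin_fun K) Module.finrank_pos hsum
  refine lt_of_le_of_lt ?_ h
  refine Nat.mul_le_mul_left _ ?_
  -- fixed vectors stay independent
  set T := ρ x - 1 with hT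
  suffices hsuff : Module.finrank k (LinearMap.ker T) ≤ Module.finrank K (LinearMap.ker (Rh T)) by
    refine hsuff.trans (le_of_eq ?_)
    have hRT : Rh T = (Rh.toMonoidHom.comp ρ) x - 1 := by rw [hT, map_sub, map_one]; rfl
    exact congrArg (fun F : Module.End K (Fin d → K) => Module.finrank K (LinearMap.ker F)) hRT
  set f := Module.finrank k (LinearMap.ker T)
  let BF := Module.finBasis k (LinearMap.ker T)
  obtain ⟨π, hπ⟩ := (LinearMap.ker T).subtype.exists_leftInverse_of_injective
    (LinearMap.ker_eq_bot.mpr (Submodule.subtype_injective _))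
  set C := LinearMap.toMatrix BF B (LinearMap.ker T).subtype with hC
  set L := LinearMap.toMatrix B BF π with hL
  have hLC : L * C = 1 := by
    rw [hC, hL, ← LinearMap.toMatrix_comp BF B BF, hπ, LinearMap.toMatrix_id]
  have hTC : LinearMap.toMatrix B B T * C = 0 := by
    rw [hC, ← LinearMap.toMatrix_comp BF B B,
      show T ∘ₗ (LinearMap.ker T).subtype = 0 from LinearMap.ext fun v => v.2, map_zero]
  let C' := C.map (algebraMap k K)
  let φ : (Fin f → K) →ₗ[K] (Fin d → K) := Matrix.toLin' C'
  have hφ : Function.Injective φ := by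
    refine Function.LeftInverse.injective (g := Matrix.toLin' (L.map (algebraMap k K))) fun y => ?_
    rw [← LinearMap.comp_apply, ← Matrix.toLin'_mul, ← Matrix.map_mul, hLC,
      Matrix.map_one _ (map_zero _) (map_one _), Matrix.toLin'_one, LinearMap.id_apply]
  have hmem : ∀ y, φ y ∈ LinearMap.ker (Rh T) := fun y => by
    rw [LinearMap.mem_ker]
    show Matrix.toLin' ((LinearMap.toMatrix B B T).map (algebraMap k K)) (Matrix.toLin' C' y) = 0
    rw [← LinearMap.comp_apply, ← Matrix.toLin'_mul, ← Matrix.map_mul, hTC,
      Matrix.map_zero _ (map_zero _), map_zero, LinearMap.zero_apply]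
  have := LinearMap.finrank_le_finrank_of_injective (f := φ.codRestrict _ hmem)
    fun a b h => hφ (congrArg Subtype.val h)
  rwa [Module.finrank_fin_fun] at this

end H32.HalfFix
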