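import Mathlib.Algebra.BigOperators.Group.Finset.Basic
import Mathlib.Algebra.Order.BigOperators.Group.Finset
import Mathlib.Tactic.Linarith
import Mathlib.Tactic.Ring
import Mathlib.Data.Int.Interval
import Mathlib.Tactic.IntervalCases

/-! Two integer vectors of norm 3 with inner product 2 and a common unit coordinate. -/

set_option autoImplicit false

namespace H32

theorem support_of_norm_three {ι : Type*} [Fintype ι] [DecidableEq ι] (a : ι → ℤ) (o : ι)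
    (ha : a o = 1) (hn : ∑ i, a i * a i = 3) :
    ∃ X Y, X ≠ Y ∧ X ≠ o ∧ Y ≠ o ∧ a X * a X = 1 ∧ a Y * a Y = 1 ∧
      ∀ i, i ≠ o → i ≠ X → i ≠ Y → a i = 0 := by
  set E := (Finset.univ : Finset ι).erase o with hE
  have hsum : ∑ i ∈ E, a i * a i = 2 := by
    have := Finset.add_sum_erase Finset.univ (fun i => a i * a i) (Finset.mem_univ o)
    rw [ha] at this
    linarith
  have hsq : ∀ i ∈ E, a i ≠ 0 → a i * a i = 1 := by
    intro i hi h0
    have h2 : a i * a i ≤ 2 := hsum ▸ Finset.single_le_sum (fun j _ => mul_self_nonneg (a j)) hi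
    have h3 : -1 ≤ a i ∧ a i ≤ 1 := ⟨by nlinarith, by nlinarith⟩
    obtain ⟨h4, h5⟩ := h3
    interval_cases h : a i <;> simp_all
  have hcard : (E.filter fun i => a i ≠ 0).card = 2 := by
    have : ∑ i ∈ E.filter (fun i => a i ≠ 0), a i * a i = 2 := by
      rw [Finset.sum_filter_of_ne (p := fun i => a i ≠ 0) (fun i _ h => fun h0 => h (by rw [h0, mul_zero])), hsum]
    rw [Finset.sum_congr rfl (fun i hi => hsq i (Finset.mem_filter.mp hi).1 (Finset.mem_filter.mp hi).2),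
      Finset.sum_const, nsmul_eq_mul, mul_one] at this
    exact_mod_cast this
  obtain ⟨X, Y, hXY, hset⟩ := Finset.card_eq_two.mp hcard
  have hX : X ∈ E.filter fun i => a i ≠ 0 := by simp [hset]
  have hY : Y ∈ E.filter fun i => a i ≠ 0 := by simp [hset]
  rw [Finset.mem_filter] at hX hY
  refine ⟨X, Y, hXY, (Finset.mem_erase.mp hX.1).1, (Finset.mem_erase.mp hY.1).1,
    hsq X hX.1 hX.2, hsq Y hY.1 hY.2, fun i hio hiX hiY => ?_⟩
  by_contra h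
  have : i ∈ E.filter fun i => a i ≠ 0 := Finset.mem_filter.mpr ⟨by simp [hE, hio], h⟩
  simp [hset, hiX, hiY] at this

theorem sum_mul_of_support {ι R : Type*} [Fintype ι] [DecidableEq ι] [CommRing R] {a : ι → ℤ}
    {o X Y : ι} (hXY : X ≠ Y) (hX : X ≠ o) (hY : Y ≠ o)
    (h0 : ∀ i, i ≠ o → i ≠ X → i ≠ Y → a i = 0) (F : ι → R) :
    ∑ i, (a i : R) * F i = (a o : R) * F o + (a X : R) * F X + (a Y : R) * F Y := by
  rw [← Finset.sum_subset (Finset.subset_univ ({o, X, Y} : Finset ι)) (fun i _ hi => by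
    simp only [Finset.mem_insert, Finset.mem_singleton, not_or] at hi
    simp [h0 i hi.1 hi.2.1 hi.2.2])]
  rw [Finset.sum_insert (by simp [hX.symm, hY.symm]), Finset.sum_insert (by simp [hXY]),
    Finset.sum_singleton]
  ring

theorem shared_coordinate {ι : Type*} [Fintype ι] [DecidableEq ι] (a b : ι → ℤ) (o : ι)
    (ha : a o = 1) (hb : b o = 1) (haa : ∑ i, a i * a i = 3) (hbb : ∑ i, b i * b i = 3)
    (hab : ∑ i, a i * b i = 2) :
    ∃ X Y Z, X ≠ Y ∧ X ≠ Z ∧ X ≠ o ∧ Y ≠ o ∧ Z ≠ o ∧ b X = a X ∧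
      a X * a X = 1 ∧ a Y * a Y = 1 ∧ b Z * b Z = 1 ∧
      (∀ i, i ≠ o → i ≠ X → i ≠ Y → a i = 0) ∧ (∀ i, i ≠ o → i ≠ X → i ≠ Z → b i = 0) := by
  obtain ⟨X, Y, hXY, hX, hY, hX1, hY1, ha0⟩ := support_of_norm_three a o ha haa
  obtain ⟨U, V, hUV, hU, hV, hU1, hV1, hb0⟩ := support_of_norm_three b o hb hbb
  have h := sum_mul_of_support (R := ℤ) hXY hX hY ha0 b
  simp only [Int.cast_id] at h
  rw [hab, ha, hb] at h
  have hpm : ∀ {x : ℤ}, x * x = 1 → x = 1 ∨ x = -1 := fun hx => mul_self_eq_one_iff.mp hx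
  have hbX : b X = 0 ∨ b X = 1 ∨ b X = -1 := by
    by_cases h1 : X = U
    · exact Or.inr (hpm (h1 ▸ hU1))
    by_cases h2 : X = V
    · exact Or.inr (hpm (h2 ▸ hV1))
    exact Or.inl (hb0 X hX h1 h2)
  have hbY : b Y = 0 ∨ b Y = 1 ∨ b Y = -1 := by
    by_cases h1 : Y = U
    · exact Or.inr (hpm (h1 ▸ hU1))
    by_cases h2 : Y = V
    · exact Or.inr (hpm (h2 ▸ hV1))
    exact Or.inl (hb0 Y hY h1 h2)
  have main : (b X = a X ∧ b Y = 0) ∨ (b Y = a Y ∧ b X = 0) := by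
    rcases hpm hX1 with h1 | h1 <;> rcases hpm hY1 with h2 | h2 <;>
      rcases hbX with h3 | h3 | h3 <;> rcases hbY with h4 | h4 | h4 <;>
      rw [h1, h2, h3, h4] at h <;> rw [h1, h2, h3, h4] <;> omega
  have fin : ∀ {A B : ι}, A ≠ B → A ≠ o → B ≠ o → a A * a A = 1 → a B * a B = 1 →
      (∀ i, i ≠ o → i ≠ A → i ≠ B → a i = 0) → b A = a A → b B = 0 →
      ∃ X Y Z, X ≠ Y ∧ X ≠ Z ∧ X ≠ o ∧ Y ≠ o ∧ Z ≠ o ∧ b X = a X ∧
        a X * a X = 1 ∧ a Y * a Y = 1 ∧ b Z * b Z = 1 ∧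
        (∀ i, i ≠ o → i ≠ X → i ≠ Y → a i = 0) ∧ (∀ i, i ≠ o → i ≠ X → i ≠ Z → b i = 0) := by
    intro A B hAB hA hB hA1 hB1 h0 hbA hbB
    have hA2 : b A ≠ 0 := by rw [hbA]; intro h; rw [h] at hA1; simp at hA1
    by_cases hAU : A = U
    · exact ⟨A, B, V, hAB, hAU ▸ hUV, hA, hB, hV, hbA, hA1, hB1, hV1, h0, hAU ▸ hb0⟩
    by_cases hAV : A = V
    · exact ⟨A, B, U, hAB, hAV ▸ hUV.symm, hA, hB, hU, hbA, hA1, hB1, hU1, h0,
        fun i h1 h2 h3 => hb0 i h1 h3 (hAV ▸ h2)⟩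
    exact absurd (hb0 A hA hAU hAV) hA2
  rcases main with ⟨h1, h2⟩ | ⟨h1, h2⟩
  · exact fin hXY hX hY hX1 hY1 ha0 h1 h2
  · exact fin hXY.symm hY hX hY1 hX1 (fun i h3 h4 h5 => ha0 i h3 h5 h4) h1 h2

end H32
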