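import Cfsg.Agent.H32.InvolProduct
import Cfsg.Agent.H32.NormThree
import Cfsg.Agent.H12.Linear
import Mathlib.Analysis.SpecialFunctions.Complex.Log
import Mathlib.RingTheory.RootsOfUnity.EnoughRootsOfUnity
import Mathlib.Analysis.Complex.Polynomial.Basic
import Mathlib.GroupTheory.FiniteAbelian.Duality
import Mathlib.Tactic.Group
import Mathlib.Tactic.LinearCombination
import Mathlib.RingTheory.Coprime.Lemmas
import Mathlib.RingTheory.Int.Basic

/-!
A finite group with an abelian TI subgroup `C` of order `2n` (`n` odd, at least 3) inverted by the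
rest of its normalizer `N` of order `4n = |C_G(t)|`, all involutions conjugate and every product
of two involutions conjugate into `C`, does not exist.
-/

set_option autoImplicit false

open scoped ComplexConjugate
open Cfsg

namespace H32

universe u

/-- The configuration. -/
structure InvertedTI (G : Type u) [Group G] where
  C : Subgroup G
  N : Subgroup G
  t : G
  n : ℕ
  le : C ≤ N
  cardC : Nat.card C = 2 * n
  cardN : Nat.card N = 4 * n
  commC : ∀ a ∈ C, ∀ b ∈ C, a * b = b * a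
  tC : t ∈ C
  tne : t ≠ 1
  tsq : t * t = 1
  tuniq : ∀ y ∈ C, y * y = 1 → y = 1 ∨ y = t
  ti : ∀ g y, y ∈ C → y ≠ 1 → g * y * g⁻¹ ∈ C → g ∈ N
  inv : ∀ s ∈ N, s ∉ C → s * s = 1 ∧ ∀ y ∈ C, s * y * s⁻¹ = y⁻¹
  centr : Subgroup.centralizer ({t} : Set G) = N
  isConjT : ∀ x : G, x ≠ 1 → x * x = 1 → IsConj t x
  cover : ∀ s x : G, s ≠ 1 → s * s = 1 → s * x ≠ 1 → (s * x) * (s * x) = 1 → x ≠ 1 →
    ∃ g, g * x * g⁻¹ ∈ C

namespace InvertedTI

variable {G : Type u} [Group G] (S : InvertedTI G)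

theorem mem_N_of_conj {y g : G} (hy : y ∈ S.C) (h1 : y ≠ 1) (h : g⁻¹ * y * g ∈ S.C) : g ∈ S.N := by
  have := S.ti g⁻¹ y hy h1 (by rwa [inv_inv])
  simpa using S.N.inv_mem this

theorem conj_mem {y g : G} (hy : y ∈ S.C) (hg : g ∈ S.N) :
    g⁻¹ * y * g ∈ S.C ∧ (g ∈ S.C → g⁻¹ * y * g = y) ∧ (g ∉ S.C → g⁻¹ * y * g = y⁻¹) := by
  by_cases h : g ∈ S.C
  · have : g⁻¹ * y * g = y := by rw [mul_assoc, S.commC y hy g h, inv_mul_cancel_left]
    exact ⟨by rw [this]; exact hy, fun _ => this, fun h' => absurd h h'⟩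
  · have h2 : g⁻¹ * y * g = y⁻¹ := by
      have := (S.inv g⁻¹ (S.N.inv_mem hg) (fun h' => h (by simpa using S.C.inv_mem h'))).2 y hy
      rwa [inv_inv] at this
    exact ⟨by rw [h2]; exact S.C.inv_mem hy, fun h' => absurd h' h, fun _ => h2⟩

variable [Fintype G]

/-- Indicator of the involutions. -/
noncomputable def invInd : G → ℂ := by
  classical exact fun x => if x ≠ 1 ∧ x * x = 1 then 1 else 0

/-- Number of ordered pairs of involutions with given product. -/
noncomputable def pairCount : G → ℂ := fun x => ∑ s : G, invInd s * invInd (s * x)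

theorem invInd_pos {x : G} (h1 : x ≠ 1) (h2 : x * x = 1) : invInd x = 1 := by simp [invInd, h1, h2]

theorem invInd_neg {x : G} (h : ¬ (x ≠ 1 ∧ x * x = 1)) : invInd x = 0 := by
  simp only [invInd]; rw [if_neg h]

theorem invInd_class : IsClassFunction G (invInd (G := G)) := by
  intro g h
  have e1 : h * g * h⁻¹ ≠ 1 ↔ g ≠ 1 := conj_eq_one_iff.not
  have e2 : (h * g * h⁻¹) * (h * g * h⁻¹) = 1 ↔ g * g = 1 := by
    rw [show (h * g * h⁻¹) * (h * g * h⁻¹) = h * (g * g) * h⁻¹ by group, conj_eq_one_iff]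
  simp only [invInd]
  classical exact if_congr (and_congr e1 e2) rfl rfl

theorem conj_invInd (x : G) : conj (invInd x) = invInd x := by
  simp only [invInd]; split <;> simp

theorem pairCount_class : IsClassFunction G (pairCount (G := G)) := by
  intro g h
  refine (Fintype.sum_equiv (MulAut.conj h).toEquiv _ _ fun s => ?_).symm
  show invInd s * invInd (s * g) = invInd (h * s * h⁻¹) * invInd (h * s * h⁻¹ * (h * g * h⁻¹))
  rw [invInd_class s h, show h * s * h⁻¹ * (h * g * h⁻¹) = h * (s * g) * h⁻¹ by group, invInd_class]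

theorem conj_pairCount (x : G) : conj (pairCount x) = pairCount x := by
  simp [pairCount, map_sum, conj_invInd]

theorem card_eq_mul (S : InvertedTI G) {m : ℕ}
    (hm : (∑ x : G, invInd x) = (m : ℂ)) : Nat.card G = m * (4 * S.n) := by
  classical
  rw [← H12.card_conjClass_mul_card_centralizer S.t, S.centr, S.cardN]
  congr 1
  have hset : ∀ x : G, IsConj S.t x ↔ (x ≠ 1 ∧ x * x = 1) := by
    refine fun x => ⟨fun h => ?_, fun h => S.isConjT x h.1 h.2⟩
    obtain ⟨c, rfl⟩ := isConj_iff.mp h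
    refine ⟨conj_eq_one_iff.not.mpr S.tne, ?_⟩
    rw [show c * S.t * c⁻¹ * (c * S.t * c⁻¹) = c * (S.t * S.t) * c⁻¹ by group, S.tsq]; group
  have : ((Finset.univ.filter fun x => IsConj S.t x).card : ℂ) = (m : ℂ) := by
    rw [← hm, Finset.natCast_card_filter]
    refine Finset.sum_congr rfl fun x _ => ?_
    simp only [invInd]
    exact if_congr (hset x) rfl rfl
  exact_mod_cast this

theorem sum_invInd (S : InvertedTI G) : ∃ m : ℕ, (∑ x : G, invInd x) = (m : ℂ) := by
  classical
  refine ⟨(Finset.univ.filter fun x : G => x ≠ 1 ∧ x * x = 1).card, ?_⟩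
  rw [Finset.natCast_card_filter]
  exact Finset.sum_congr rfl fun x _ => by simp [invInd]

theorem pairCount_of_mem {y : G} (hy : y ∈ S.C) (h1 : y ≠ 1) :
    pairCount y = 2 * (S.n : ℂ) := by
  classical
  have hset : ∀ s : G, invInd s * invInd (s * y) = if s ∈ S.N ∧ s ∉ S.C then 1 else 0 := by
    intro s
    by_cases h : s ∈ S.N ∧ s ∉ S.C
    · rw [if_pos h]
      obtain ⟨hsq, hinv⟩ := S.inv s h.1 h.2
      have hsy : s * y ∉ S.C := fun h' => h.2 (by simpa using S.C.mul_mem h' (S.C.inv_mem hy))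
      rw [invInd_pos (fun e => h.2 (by rw [e]; exact S.C.one_mem)) hsq,
        invInd_pos (fun e => hsy (by rw [e]; exact S.C.one_mem))
          (S.inv _ (S.N.mul_mem h.1 (S.le hy)) hsy).1, one_mul]
    · rw [if_neg h]
      by_contra hne
      rw [← ne_eq, mul_ne_zero_iff] at hne
      have hs : s ≠ 1 ∧ s * s = 1 := by by_contra h'; exact hne.1 (invInd_neg h')
      have hsy : s * y ≠ 1 ∧ s * y * (s * y) = 1 := by by_contra h'; exact hne.2 (invInd_neg h')
      have hinv : s⁻¹ = s := inv_eq_of_mul_eq_one_right hs.2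
      have hc : s * y * s⁻¹ = y⁻¹ := by
        rw [hinv]; apply eq_inv_of_mul_eq_one_left
        rw [mul_assoc, hsy.2]
      have hN : s ∈ S.N := S.ti s y hy h1 (by rw [hc]; exact S.C.inv_mem hy)
      have hC : s ∈ S.C := by by_contra h'; exact h ⟨hN, h'⟩
      rcases S.tuniq s hC hs.2 with e | e
      · exact hs.1 e
      · rcases S.tuniq _ (S.C.mul_mem hC hy) hsy.2 with e' | e'
        · exact hsy.1 e'
        · exact h1 (by simpa [e] using e')
  rw [pairCount, Finset.sum_congr rfl (fun s _ => hset s), ← Finset.natCast_card_filter]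
  have hcard : (Finset.univ.filter fun s => s ∈ S.N ∧ s ∉ S.C).card = 2 * S.n := by
    have e : (Finset.univ.filter fun s => s ∈ S.N ∧ s ∉ S.C) =
        (Finset.univ.filter fun s => s ∈ S.N) \ (Finset.univ.filter fun s => s ∈ S.C) := by
      ext; simp
    rw [e, Finset.card_sdiff_of_subset (fun x hx => by
      simp only [Finset.mem_filter, Finset.mem_univ, true_and] at hx ⊢; exact S.le hx)]
    rw [← Fintype.card_subtype, ← Fintype.card_subtype, ← Nat.card_eq_fintype_card,
      ← Nat.card_eq_fintype_card, S.cardN, S.cardC]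
    omega
  rw [hcard]; push_cast; ring

theorem indFun_of_mem (θ : S.C → ℂ) {y : G} (hy : y ∈ S.C) (h1 : y ≠ 1) :
    indFun S.C θ y = θ ⟨y, hy⟩ + θ ⟨y⁻¹, S.C.inv_mem hy⟩ := by
  classical
  have h : ∀ g : G, extendByZero S.C θ (g⁻¹ * y * g) =
      (if g ∈ S.C then θ ⟨y, hy⟩ else 0) + (if g ∈ S.N ∧ g ∉ S.C then θ ⟨y⁻¹, S.C.inv_mem hy⟩ else 0) := by
    intro g
    by_cases hN : g ∈ S.N
    · obtain ⟨hm, e1, e2⟩ := S.conj_mem hy hN
      rw [H12.extendByZero_mk _ _ hm]
      by_cases hC : g ∈ S.C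
      · simp [e1 hC, hC]
      · simp [e2 hC, hC, hN]
    · rw [H12.extendByZero_of_notMem _ _ (fun h' => hN (S.mem_N_of_conj hy h1 h')),
        if_neg (fun h' => hN (S.le h')), if_neg (fun h' => hN h'.1), add_zero]
  rw [H12.indFun_apply, Finset.sum_congr rfl (fun g _ => h g), Finset.sum_add_distrib]
  rw [← Finset.sum_filter, ← Finset.sum_filter, Finset.sum_const, Finset.sum_const]
  have c1 : (Finset.univ.filter fun g => g ∈ S.C).card = 2 * S.n := by
    rw [← Fintype.card_subtype, ← Nat.card_eq_fintype_card, S.cardC]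
  have c2 : (Finset.univ.filter fun s => s ∈ S.N ∧ s ∉ S.C).card = 2 * S.n := by
    have e : (Finset.univ.filter fun s => s ∈ S.N ∧ s ∉ S.C) =
        (Finset.univ.filter fun s => s ∈ S.N) \ (Finset.univ.filter fun s => s ∈ S.C) := by
      ext; simp
    rw [e, Finset.card_sdiff_of_subset (fun x hx => by
      simp only [Finset.mem_filter, Finset.mem_univ, true_and] at hx ⊢; exact S.le hx), c1,
      ← Fintype.card_subtype, ← Nat.card_eq_fintype_card, S.cardN]
    omega
  have hn : (S.n : ℂ) ≠ 0 := by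
    have : Nat.card S.C ≠ 0 := Nat.card_pos.ne'
    rw [S.cardC] at this
    exact_mod_cast (by omega : S.n ≠ 0)
  rw [c1, c2, S.cardC]; push_cast; simp only [nsmul_eq_mul]; push_cast; field_simp

theorem pairCount_eq {m : ℕ} (hm : (∑ x : G, invInd x) = (m : ℂ)) (x : G) [Decidable (x = 1)] :
    pairCount x = (if x = 1 then (m : ℂ) else 0) +
      (S.n : ℂ) * indFun S.C (fun y => by classical exact if y = 1 then 0 else 1) x := by
  classical
  by_cases hx : x = 1
  · subst hx
    rw [if_pos rfl, H12.indFun_one, if_pos rfl, mul_zero, mul_zero, add_zero, pairCount, ← hm]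
    refine Finset.sum_congr rfl fun s _ => ?_
    rw [mul_one]; simp only [invInd]; split <;> simp
  rw [if_neg hx, zero_add]
  by_cases hU : ∃ g, g * x * g⁻¹ ∈ S.C
  · obtain ⟨g, hg⟩ := hU
    rw [← pairCount_class x g, ← H12.indFun_isClassFunction S.C _ x g,
      S.pairCount_of_mem hg (conj_eq_one_iff.not.mpr hx),
      S.indFun_of_mem _ hg (conj_eq_one_iff.not.mpr hx)]
    rw [if_neg, if_neg]
    · ring
    · rw [← Subtype.coe_inj, Subgroup.coe_one, inv_eq_one, conj_eq_one_iff]; exact hx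
    · rw [← Subtype.coe_inj, Subgroup.coe_one, conj_eq_one_iff]; exact hx
  · rw [H12.indFun_apply, Finset.sum_eq_zero, mul_zero, mul_zero]
    · refine Finset.sum_eq_zero fun s _ => ?_
      by_contra hne
      rw [← ne_eq, mul_ne_zero_iff] at hne
      have hs : s ≠ 1 ∧ s * s = 1 := by by_contra h'; exact hne.1 (invInd_neg h')
      have hsy : s * x ≠ 1 ∧ s * x * (s * x) = 1 := by by_contra h'; exact hne.2 (invInd_neg h')
      exact hU (S.cover s x hs.1 hs.2 hsy.1 hsy.2 hx)
    · intro g _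
      refine H12.extendByZero_of_notMem _ _ fun h => hU ⟨g⁻¹, by simpa using h⟩

theorem classInner_pairCount (χ : IrrCharacter G) {m : ℕ}
    (hm : (∑ x : G, invInd x) = (m : ℂ)) :
    classInner pairCount (χ : G → ℂ) =
      (Nat.card G : ℂ)⁻¹ * (((m : ℂ) * (χ : G → ℂ) S.t) ^ 2 / (χ : G → ℂ) 1) := by
  have hreal : conj ((χ : G → ℂ) S.t) = (χ : G → ℂ) S.t := by
    rw [← H12.irr_inv, inv_eq_of_mul_eq_one_right S.tsq]
  have h1 : conj ((χ : G → ℂ) 1) = (χ : G → ℂ) 1 := by rw [← H12.irr_inv, inv_one]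
  have hsum : ∑ g : G, invInd g * (χ : G → ℂ) g = (m : ℂ) * (χ : G → ℂ) S.t := by
    rw [← hm, Finset.sum_mul]
    refine Finset.sum_congr rfl fun g _ => ?_
    by_cases h : g ≠ 1 ∧ g * g = 1
    · rw [H12.IsClassFunction.of_isConj (H12.irr_isClassFunction χ) (S.isConjT g h.1 h.2)]
    · rw [invInd_neg h, zero_mul, zero_mul]
  rw [H12.classInner_def]
  congr 1
  have e : ∑ x : G, pairCount x * conj ((χ : G → ℂ) x) =
      conj (∑ g : G, ∑ h : G, invInd g * invInd h * (χ : G → ℂ) (g * h)) := by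
    rw [map_sum]
    simp only [pairCount, Finset.sum_mul]
    rw [Finset.sum_comm]
    refine Finset.sum_congr rfl fun s _ => ?_
    rw [map_sum]
    by_cases hs : s ≠ 1 ∧ s * s = 1
    · refine Fintype.sum_equiv (Equiv.mulLeft s) _ _ fun x => ?_
      show _ = conj (invInd s * invInd (s * x) * (χ : G → ℂ) (s * (s * x)))
      rw [← mul_assoc s s x, hs.2, one_mul, map_mul, map_mul, conj_invInd, conj_invInd]
    · simp [invInd_neg hs]
  rw [e, sum_mul_irr χ invInd_class invInd_class, hsum, map_div₀, map_mul, map_mul, hreal, h1,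
    Complex.conj_natCast]
  ring

end InvertedTI

end H32
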