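import Cfsg.Agent.H32.InvertedTI

/-! The configuration `H32.InvertedTI` is impossible. -/

set_option autoImplicit false

open scoped ComplexConjugate
open Cfsg

namespace H32.InvertedTI

universe u

variable {G : Type u} [Group G] [Fintype G] (S : InvertedTI G)

open scoped IsMulCommutative in
theorem exists_lambda (hn : 3 ≤ S.n) (hodd : Odd S.n) :
    ∃ ω : S.C →* ℂˣ, ω ⟨S.t, S.tC⟩ = 1 ∧ ∃ y : S.C, ω y * ω y ≠ 1 := by
  haveI : IsMulCommutative S.C := ⟨⟨fun a b => Subtype.ext (S.commC a a.2 b b.2)⟩⟩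
  set Q := Subgroup.zpowers (⟨S.t, S.tC⟩ : S.C)
  have hQ : Nat.card Q = 2 := by
    rw [Nat.card_zpowers]
    exact orderOf_eq_prime (by rw [pow_two]; exact Subtype.ext S.tsq)
      (fun h => S.tne (congrArg Subtype.val h))
  have hne : Q ≠ ⊤ := fun h => by rw [h, Subgroup.card_top, S.cardC] at hQ; omega
  obtain ⟨y, hy⟩ : ∃ y : S.C, y ∉ Q := by
    by_contra hc; push Not at hc; exact hne (eq_top_iff.mpr fun x _ => hc x)
  have hy' : (y : S.C ⧸ Q) ≠ 1 := fun h => hy ((QuotientGroup.eq_one_iff y).mp h)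
  obtain ⟨φ, hφ⟩ := CommGroup.exists_apply_ne_one_of_hasEnoughRootsOfUnity (S.C ⧸ Q) ℂ hy'
  refine ⟨φ.comp (QuotientGroup.mk' Q), ?_, y, ?_⟩
  · show φ ((⟨S.t, S.tC⟩ : S.C) : S.C ⧸ Q) = 1
    rw [(QuotientGroup.eq_one_iff (⟨S.t, S.tC⟩ : S.C)).mpr (Subgroup.mem_zpowers _), map_one]
  · intro h
    apply hφ
    have h2 : (y : S.C) ^ S.n ∈ Q := by
      have : ((y : G) ^ S.n) * ((y : G) ^ S.n) = 1 := by
        rw [← pow_add, ← two_mul, ← S.cardC]
        exact congrArg Subtype.val (pow_card_eq_one' (x := y))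
      rcases S.tuniq _ (S.C.pow_mem y.2 _) this with e | e
      · have e' : y ^ S.n = 1 := Subtype.ext (by simpa using e)
        rw [e']; exact one_mem _
      · have e' : y ^ S.n = ⟨S.t, S.tC⟩ := Subtype.ext (by simpa using e)
        rw [e']; exact Subgroup.mem_zpowers _
    have h3 : φ (y : S.C ⧸ Q) ^ S.n = 1 := by
      rw [← map_pow, ← QuotientGroup.mk_pow, (QuotientGroup.eq_one_iff _).mpr h2, map_one]
    obtain ⟨k, hk⟩ := hodd
    rw [hk, pow_succ, pow_mul, pow_two] at h3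
    have h4 : φ (y : S.C ⧸ Q) * φ (y : S.C ⧸ Q) = 1 := h
    rwa [h4, one_pow, one_mul] at h3

/-- The sign character of `C` trivial on the odd part. -/
noncomputable def sgn (hodd : Odd S.n) : S.C →* ℂˣ := by
  classical
  exact
  { toFun := fun y => if (y : G) ^ S.n = 1 then 1 else -1
    map_one' := by simp
    map_mul' := fun a b => by
      have hpow : ∀ y : S.C, (y : G) ^ S.n = 1 ∨ (y : G) ^ S.n = S.t := fun y => by
        refine S.tuniq _ (S.C.pow_mem y.2 _) ?_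
        rw [← pow_add, ← two_mul, ← S.cardC]
        exact congrArg Subtype.val (pow_card_eq_one' (x := y))
      have hab : ((a * b : S.C) : G) ^ S.n = (a : G) ^ S.n * (b : G) ^ S.n :=
        Commute.mul_pow (S.commC a a.2 b b.2) _
      rw [hab]
      rcases hpow a with ha | ha <;> rcases hpow b with hb | hb <;>
        simp [ha, hb, S.tne, S.tsq] }

theorem sgn_t (hodd : Odd S.n) : S.sgn hodd ⟨S.t, S.tC⟩ = -1 := by
  classical
  have : S.t ^ S.n = S.t := by
    obtain ⟨k, hk⟩ := hodd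
    rw [hk, pow_succ, pow_mul, pow_two, S.tsq, one_pow, one_mul]
  simp [sgn, this, S.tne]

theorem classInner_hom {K : Type*} [Group K] [Fintype K] (f g : K →* ℂˣ) [Decidable (f = g)] :
    classInner (fun x => (f x : ℂ)) (fun x => (g x : ℂ)) = if f = g then 1 else 0 := by
  have h := H12.classInner_irr (H12.linIrr f) (H12.linIrr g)
  rw [show ((H12.linIrr f : IrrCharacter K) : K → ℂ) = fun x => (f x : ℂ) from funext (H12.linIrr_apply f),
    show ((H12.linIrr g : IrrCharacter K) : K → ℂ) = fun x => (g x : ℂ) from funext (H12.linIrr_apply g)] at h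
  rw [h]
  by_cases e : f = g
  · subst e; simp
  · rw [if_neg e, if_neg fun e' => e (H12.linIrr_injective e')]

/-- Induced character of `1 - λ`. -/
noncomputable def alpha (l : S.C →* ℂˣ) : G → ℂ := indFun S.C (fun y => 1 - (l y : ℂ))

theorem res_alpha (l : S.C →* ℂˣ) :
    (fun y : S.C => S.alpha l y) =
      (fun y : S.C => (2 : ℂ) • (((1 : S.C →* ℂˣ) y : ℂ)) - (l y : ℂ) - ((l⁻¹ : S.C →* ℂˣ) y : ℂ)) := by
  funext y
  by_cases hy : y = 1
  · subst hy
    show indFun S.C _ ((1 : S.C) : G) = _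
    rw [Subgroup.coe_one, H12.indFun_one]
    simp
    norm_num
  · show indFun S.C _ (y : G) = _
    rw [S.indFun_of_mem _ y.2 (fun h => hy (Subtype.ext h))]
    have : (⟨(y : G)⁻¹, S.C.inv_mem y.2⟩ : S.C) = y⁻¹ := rfl
    simp only [this, map_inv, MonoidHom.inv_apply, MonoidHom.one_apply, Units.val_one, smul_eq_mul]
    ring

theorem classInner_alpha (l k : S.C →* ℂˣ) (hl : l ≠ 1) (hk : k ≠ 1) [Decidable (l = k)]
    [Decidable (l = k⁻¹)] :
    classInner (S.alpha l) (S.alpha k) = 2 + (if l = k then 1 else 0) + (if l = k⁻¹ then 1 else 0) := by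
  classical
  unfold alpha
  rw [H12.classInner_indFun S.C _ (H12.indFun_isClassFunction S.C _)]
  have hr : (fun y : S.C => indFun S.C (fun y => 1 - (k y : ℂ)) y) = _ := S.res_alpha k
  rw [hr]
  have e1 : (fun y : S.C => 1 - (l y : ℂ)) =
      (fun y : S.C => ((1 : S.C →* ℂˣ) y : ℂ)) - (fun y : S.C => (l y : ℂ)) := by funext y; simp
  have e2 : (fun y : S.C => (2 : ℂ) • (((1 : S.C →* ℂˣ) y : ℂ)) - (k y : ℂ) - ((k⁻¹ : S.C →* ℂˣ) y : ℂ)) =
      (2 : ℂ) • (fun y : S.C => ((1 : S.C →* ℂˣ) y : ℂ)) - (fun y : S.C => (k y : ℂ))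
        - (fun y : S.C => ((k⁻¹ : S.C →* ℂˣ) y : ℂ)) := rfl
  rw [e1, e2]
  simp only [H12.classInner_sub_left, H12.classInner_sub_right, H12.classInner_smul_right, classInner_hom]
  have hk' : (1 : S.C →* ℂˣ) ≠ k⁻¹ := fun h => hk (MonoidHom.ext fun y => by
    have h' := DFunLike.congr_fun h y
    rw [MonoidHom.inv_apply, MonoidHom.one_apply] at h'
    rw [MonoidHom.one_apply]
    exact inv_eq_one.mp h'.symm)
  simp only [if_neg hl, if_neg (Ne.symm hk), if_neg hk', if_pos]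
  rw [Complex.conj_ofNat]
  split <;> split <;> ring

theorem classInner_alpha_one (l : S.C →* ℂˣ) (hl : l ≠ 1) :
    classInner (S.alpha l) (fun _ => (1 : ℂ)) = 1 := by
  classical
  rw [alpha, H12.classInner_indFun S.C _ (fun _ _ => rfl)]
  rw [show (fun y : S.C => 1 - (l y : ℂ)) =
    (fun y : S.C => ((1 : S.C →* ℂˣ) y : ℂ)) - (fun y : S.C => (l y : ℂ)) by funext y; simp]
  rw [show (fun _ : S.C => (1 : ℂ)) = (fun y : S.C => ((1 : S.C →* ℂˣ) y : ℂ)) by funext y; simp,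
    H12.classInner_sub_left, classInner_hom, classInner_hom, if_pos rfl, if_neg hl, sub_zero]

theorem classInner_alpha_pairCount (l : S.C →* ℂˣ) (hl : l ≠ 1) :
    classInner (S.alpha l) pairCount = 2 * (S.n : ℂ) := by
  classical
  rw [alpha, H12.classInner_indFun S.C _ pairCount_class]
  have : ∀ y : S.C, (1 - (l y : ℂ)) * conj (pairCount (y : G)) = (1 - (l y : ℂ)) * (2 * (S.n : ℂ)) := by
    intro y
    by_cases hy : y = 1
    · subst hy; simp
    · rw [conj_pairCount, S.pairCount_of_mem y.2 (fun h => hy (Subtype.ext h))]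
  rw [H12.classInner_def, Finset.sum_congr rfl (fun y _ => this y), ← Finset.sum_mul, ← mul_assoc]
  have h := classInner_alpha_one_aux S l hl
  rw [h, one_mul]
where
  classInner_alpha_one_aux (S : InvertedTI G) (l : S.C →* ℂˣ) (hl : l ≠ 1) [Fintype S.C] :
      (Nat.card S.C : ℂ)⁻¹ * ∑ y : S.C, (1 - (l y : ℂ)) = 1 := by
    classical
    have := classInner_hom l (1 : S.C →* ℂˣ)
    rw [if_neg hl, H12.classInner_def] at this
    simp only [MonoidHom.one_apply, Units.val_one, map_one, mul_one] at this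
    rw [Finset.sum_sub_distrib, mul_sub, this, sub_zero, Finset.sum_const, Finset.card_univ,
      ← Nat.card_eq_fintype_card, nsmul_one, inv_mul_cancel₀]
    exact_mod_cast Nat.card_pos.ne'

theorem arith {n m f : ℤ} (hn : 3 ≤ n) (hm : m = 4 * n ^ 2 - 2 * n + 1) (hodd : n % 2 = 1)
    (h : 8 * n ^ 2 * (f * (f + 1)) = m * (f - 1) ^ 2) : False := by
  have hco : IsCoprime (8 * n ^ 2) m := by
    have h1 : IsCoprime n m := ⟨-(4 * n - 2), 1, by rw [hm]; ring⟩
    have h2 : IsCoprime (2 : ℤ) m := ⟨-(2 * n ^ 2 - n), 1, by rw [hm]; ring⟩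
    rw [show (8 : ℤ) = 2 ^ 3 by norm_num]
    exact IsCoprime.mul_left h2.pow_left h1.pow_left
  obtain ⟨c, hc⟩ := hco.dvd_of_dvd_mul_left (⟨f * (f + 1), h.symm⟩ : 8 * n ^ 2 ∣ m * (f - 1) ^ 2)
  have hn2 : n ∣ f - 1 := (Int.pow_dvd_pow_iff (by norm_num : (2 : ℕ) ≠ 0)).mp ⟨8 * c, by linarith⟩
  obtain ⟨j, hj⟩ := hn2
  have hj2 : j ^ 2 = 8 * c := by
    have hn0 : n ^ 2 ≠ 0 := pow_ne_zero _ (by omega)
    apply mul_left_cancel₀ hn0
    rw [← mul_pow, ← hj, hc]; ring
  have he : Even j := by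
    have : Even (j ^ 2) := ⟨4 * c, by linarith⟩
    exact (Int.even_pow.mp this).1
  obtain ⟨i, rfl⟩ := he
  have hi : Even i := by
    have : Even (i ^ 2) := ⟨c, by linarith [sq (i + i), sq i]⟩
    exact (Int.even_pow.mp this).1
  obtain ⟨k, rfl⟩ := hi
  have hf : f = 4 * n * k + 1 := by linarith
  subst hf hm
  have h16 : (4 * n ^ 2 - 2 * n + 1) * k ^ 2 = (4 * n * k + 1) * (2 * n * k + 1) := by
    have hn0 : (16 : ℤ) * n ^ 2 ≠ 0 := by positivity
    apply mul_left_cancel₀ hn0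
    linarith
  have hk : k * (k * (4 * n ^ 2 - 2 * n + 1 - 8 * n ^ 2) - 6 * n) = 1 := by linarith
  rcases Int.eq_one_or_neg_one_of_mul_eq_one hk with rfl | rfl <;> nlinarith

theorem false_of_setup (hn : 3 ≤ S.n) (hodd : Odd S.n) : False := by
  classical
  obtain ⟨l, hlt, y, hy⟩ := S.exists_lambda hn hodd
  set k := l * S.sgn hodd with hk
  have hkt : k ⟨S.t, S.tC⟩ = -1 := by simp [hk, hlt, S.sgn_t hodd]
  have hne : (-1 : ℂˣ) ≠ 1 := by
    intro h
    have := congrArg Units.val h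
    norm_num at this
  have hl1 : l ≠ 1 := fun h => hy (by simp [h])
  have hk1 : k ≠ 1 := fun h => hne (by rw [← hkt, h, MonoidHom.one_apply])
  have hlk : l ≠ k := fun h => hne (by rw [← hkt, ← h, hlt])
  have hlk' : l ≠ k⁻¹ := fun h => hne (by
    have h' := DFunLike.congr_fun h ⟨S.t, S.tC⟩
    rw [MonoidHom.inv_apply, hkt, hlt, inv_neg_one] at h'
    exact h'.symm)
  have hll : l ≠ l⁻¹ := fun h => hy (by
    have h' := DFunLike.congr_fun h y
    rw [MonoidHom.inv_apply] at h'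
    conv_lhs => arg 1; rw [h']
    exact inv_mul_cancel _)
  have hkk : k ≠ k⁻¹ := fun h => hy (by
    have h' := DFunLike.congr_fun h y
    rw [MonoidHom.inv_apply] at h'
    have h2 : k y * k y = 1 := by
      conv_lhs => arg 1; rw [h']
      exact inv_mul_cancel _
    have hs : S.sgn hodd y * S.sgn hodd y = 1 := by
      have : ∀ z : S.C, S.sgn hodd z = 1 ∨ S.sgn hodd z = -1 := fun z => by
        show (if (z : G) ^ S.n = 1 then (1 : ℂˣ) else -1) = 1 ∨ (if (z : G) ^ S.n = 1 then (1 : ℂˣ) else -1) = -1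
        split <;> simp
      rcases this y with e | e <;> simp [e]
    rw [hk, MonoidHom.mul_apply, mul_mul_mul_comm, hs, mul_one] at h2
    exact h2)
  -- integer coefficients
  have hgen : ∀ q : S.C →* ℂˣ, ∀ χ : IrrCharacter G, ∃ z : ℤ, classInner (S.alpha q) χ = z := by
    intro q
    have : IsGeneralizedCharacter S.C (fun y => 1 - (q y : ℂ)) :=
      ⟨fun _ => 1, fun y => (q y : ℂ), H12.isCharacter_one, H12.isCharacter_monoidHom q, rfl⟩
    exact (H12.isGeneralizedCharacter_iff.mp (H12.IsGeneralizedCharacter.indFun this)).2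
  choose z hz using hgen
  have hcl : ∀ q, IsClassFunction G (S.alpha q) := fun q => H12.indFun_isClassFunction _ _
  have hprod : ∀ q q', classInner (S.alpha q) (S.alpha q') = ((∑ χ, z q χ * z q' χ : ℤ) : ℂ) := by
    intro q q'
    rw [H12.classInner_eq_sum_mul (hcl q) (hcl q'), Int.cast_sum]
    simp [hz, map_intCast]
  set o := H12.oneIrr G
  have ho : ∀ q, q ≠ 1 → z q o = 1 := fun q hq => by
    have e : classInner (S.alpha q) (o : G → ℂ) = 1 := by
      rw [show (o : G → ℂ) = fun _ => (1 : ℂ) from funext fun g => H12.oneIrr_apply G g]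
      exact S.classInner_alpha_one q hq
    rw [hz] at e
    exact_mod_cast e
  have haa : ∑ χ, z l χ * z l χ = 3 := by
    have e := hprod l l
    rw [S.classInner_alpha l l hl1 hl1, if_pos rfl, if_neg hll] at e
    have e' : ((3 : ℤ) : ℂ) = ((∑ χ, z l χ * z l χ : ℤ) : ℂ) := by rw [← e]; norm_num
    exact_mod_cast e'.symm
  have hbb : ∑ χ, z k χ * z k χ = 3 := by
    have e := hprod k k
    rw [S.classInner_alpha k k hk1 hk1, if_pos rfl, if_neg hkk] at e
    have e' : ((3 : ℤ) : ℂ) = ((∑ χ, z k χ * z k χ : ℤ) : ℂ) := by rw [← e]; norm_num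
    exact_mod_cast e'.symm
  have hab : ∑ χ, z l χ * z k χ = 2 := by
    have e := hprod l k
    rw [S.classInner_alpha l k hl1 hk1, if_neg hlk, if_neg hlk'] at e
    have e' : ((2 : ℤ) : ℂ) = ((∑ χ, z l χ * z k χ : ℤ) : ℂ) := by rw [← e]; norm_num
    exact_mod_cast e'.symm
  obtain ⟨X, Y, Z, hXY, hXZ, hX, hY, hZ, hbX, hX1, hY1, hZ1, ha0, hb0⟩ :=
    shared_coordinate (z l) (z k) o (ho l hl1) (ho k hk1) haa hbb hab
  have hexp : ∀ q : S.C →* ℂˣ, ∀ g : G, S.alpha q g = ∑ χ, (z q χ : ℂ) * (χ : G → ℂ) g := by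
    intro q g
    rw [H12.classFunction_apply_eq_sum (hcl q) g]
    simp [hz]
  have hval : ∀ g : G, S.alpha l g = 1 + (z l X : ℂ) * (X : G → ℂ) g + (z l Y : ℂ) * (Y : G → ℂ) g ∧
      S.alpha k g = 1 + (z l X : ℂ) * (X : G → ℂ) g + (z k Z : ℂ) * (Z : G → ℂ) g := by
    intro g
    rw [hexp l g, hexp k g, sum_mul_of_support hXY hX hY ha0, sum_mul_of_support hXZ hX hZ hb0,
      ho l hl1, ho k hk1, hbX]
    simp [o, H12.oneIrr_apply]
  have h1 : ∀ q : S.C →* ℂˣ, S.alpha q 1 = 0 := fun q => by simp [alpha, H12.indFun_one]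
  have ht : ∀ q : S.C →* ℂˣ, S.alpha q S.t = 2 * (1 - (q ⟨S.t, S.tC⟩ : ℂ)) := by
    intro q
    rw [alpha, S.indFun_of_mem _ S.tC S.tne]
    have : (⟨S.t⁻¹, S.C.inv_mem S.tC⟩ : S.C) = ⟨S.t, S.tC⟩ :=
      Subtype.ext (inv_eq_of_mul_eq_one_right S.tsq)
    rw [this]; ring
  obtain ⟨m, hm⟩ := S.sum_invInd
  have hG := S.card_eq_mul hm
  have hGne : (Nat.card G : ℂ) ≠ 0 := H12.card_ne_zero'
  have hrel : ∀ q : S.C →* ℂˣ, q ≠ 1 →
      2 * (S.n : ℂ) * (Nat.card G : ℂ) =
        ∑ χ, (z q χ : ℂ) * (((m : ℂ) * (χ : G → ℂ) S.t) ^ 2 / (χ : G → ℂ) 1) := by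
    intro q hq
    have e := S.classInner_alpha_pairCount q hq
    rw [H12.classInner_eq_sum_mul (hcl q) pairCount_class] at e
    rw [← e, Finset.sum_mul]
    refine Finset.sum_congr rfl fun χ _ => ?_
    rw [hz, S.classInner_pairCount χ hm, map_mul, map_inv₀, Complex.conj_natCast, map_div₀, map_pow,
      map_mul, Complex.conj_natCast]
    rw [show conj ((χ : G → ℂ) S.t) = (χ : G → ℂ) S.t by
      rw [← H12.irr_inv, inv_eq_of_mul_eq_one_right S.tsq],
      show conj ((χ : G → ℂ) 1) = (χ : G → ℂ) 1 by rw [← H12.irr_inv, inv_one]]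
    field_simp
  -- the number of involutions
  have hm1 : (m : ℂ) = 1 + 2 * (S.n : ℂ) * (2 * (S.n : ℂ) - 1) := by
    have e1 : classInner pairCount (o : G → ℂ) = (Nat.card G : ℂ)⁻¹ * (m : ℂ) ^ 2 := by
      rw [S.classInner_pairCount o hm, H12.oneIrr_apply, H12.oneIrr_apply]; ring
    have e2 : classInner pairCount (o : G → ℂ) = (Nat.card G : ℂ)⁻¹ * (m : ℂ) +
        (S.n : ℂ) * ((2 * (S.n : ℂ))⁻¹ * (2 * (S.n : ℂ) - 1)) := by
      have hpc : pairCount = (fun x => if x = 1 then (m : ℂ) else 0) +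
          (S.n : ℂ) • indFun S.C (fun y => if y = 1 then 0 else 1) := by
        funext x
        rw [S.pairCount_eq hm x]
        simp only [Pi.add_apply, Pi.smul_apply, smul_eq_mul]
      rw [hpc, H12.classInner_add_left, H12.classInner_smul_left,
        H12.classInner_indFun S.C _ (H12.irr_isClassFunction o)]
      congr 1
      · rw [H12.classInner_def]
        congr 1
        rw [Finset.sum_eq_single 1 (fun b _ hb => by simp [hb]) (by simp)]
        simp [o, H12.oneIrr_apply]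
      · congr 1
        rw [H12.classInner_def, S.cardC]
        push_cast
        congr 1
        simp only [o, H12.oneIrr_apply, map_one, mul_one]
        rw [Finset.sum_eq_add_sum_sdiff_singleton_of_mem (Finset.mem_univ (1 : S.C)), if_pos rfl, zero_add,
          Finset.sum_congr rfl (fun x hx => if_neg (by simpa using hx)), Finset.sum_const,
          Finset.card_sdiff_of_subset (by simp), Finset.card_univ, Finset.card_singleton,
          ← Nat.card_eq_fintype_card, S.cardC, nsmul_one, Nat.cast_sub (by omega)]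
        push_cast; ring
    rw [e1, hG] at e2
    have hn0 : (S.n : ℂ) ≠ 0 := by exact_mod_cast (by omega : S.n ≠ 0)
    have hm0 : (m : ℂ) ≠ 0 := by
      intro h0
      rw [Nat.cast_eq_zero] at h0
      rw [h0, zero_mul] at hG
      exact Nat.card_pos.ne' hG
    push_cast at e2
    field_simp at e2
    linear_combination e2 / 2
  have hnpos : (S.n : ℂ) ≠ 0 := by exact_mod_cast (by omega : S.n ≠ 0)
  have hm0 : (m : ℂ) ≠ 0 := by
    intro h0
    rw [Nat.cast_eq_zero] at h0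
    rw [h0, zero_mul] at hG
    exact Nat.card_pos.ne' hG
  -- the values
  set d : ℤ := z l X * (H12.degree (X : G → ℂ) : ℤ) with hd
  have hdX : (d : ℂ) = (z l X : ℂ) * (X : G → ℂ) 1 := by rw [hd, H12.irr_apply_one]; push_cast; ring
  set u : ℂ := (z l X : ℂ) * (X : G → ℂ) S.t with hu
  have hY1v : (z l Y : ℂ) * (Y : G → ℂ) 1 = -1 - (d : ℂ) := by
    have := (hval 1).1; rw [h1] at this; rw [hdX]; linear_combination -this
  have hZ1v : (z k Z : ℂ) * (Z : G → ℂ) 1 = -1 - (d : ℂ) := by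
    have := (hval 1).2; rw [h1] at this; rw [hdX]; linear_combination -this
  have hYtv : (z l Y : ℂ) * (Y : G → ℂ) S.t = -1 - u := by
    have := (hval S.t).1; rw [ht, hlt, Units.val_one] at this; rw [hu]; linear_combination -this
  have hZtv : (z k Z : ℂ) * (Z : G → ℂ) S.t = 3 - u := by
    have := (hval S.t).2; rw [ht, hkt, Units.val_neg, Units.val_one] at this
    rw [hu]; linear_combination -this
  have hsq : ∀ {c : ℤ} (χ : IrrCharacter G) {a b : ℂ}, c * c = 1 → (c : ℂ) * (χ : G → ℂ) 1 = a →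
      (c : ℂ) * (χ : G → ℂ) S.t = b →
      a ≠ 0 ∧ (c : ℂ) * (((m : ℂ) * (χ : G → ℂ) S.t) ^ 2 / (χ : G → ℂ) 1) = (m : ℂ) ^ 2 * (b ^ 2 / a) := by
    intro c χ a b hc ha hb
    have hc' : (c : ℂ) * (c : ℂ) = 1 := by exact_mod_cast hc
    have hne1 : (c : ℂ) ≠ 0 := fun h0 => by rw [h0] at hc'; simp at hc'
    have hdeg := H12.irr_apply_one_ne_zero χ
    refine ⟨by rw [← ha]; exact mul_ne_zero hne1 hdeg, ?_⟩
    rw [← ha, ← hb]
    field_simp
  obtain ⟨hd0, hXs⟩ := hsq X hX1 hdX.symm hu.symm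
  obtain ⟨hdY, hYs⟩ := hsq Y hY1 hY1v hYtv
  obtain ⟨-, hZs⟩ := hsq Z hZ1 hZ1v hZtv
  have hone : ∀ q, q ≠ 1 → ((z q o : ℤ) : ℂ) * (((m : ℂ) * (o : G → ℂ) S.t) ^ 2 / (o : G → ℂ) 1) = (m : ℂ) ^ 2 := by
    intro q hq; rw [ho q hq]; simp [o, H12.oneIrr_apply]
  have E1 := hrel l hl1
  rw [sum_mul_of_support hXY hX hY ha0, hone l hl1, hXs, hYs, hG] at E1
  have E2 := hrel k hk1
  rw [sum_mul_of_support hXZ hX hZ hb0, hone k hk1, hbX, hXs, hZs, hG] at E2
  have hu1 : u = 1 := by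
    have : (m : ℂ) ^ 2 * ((-1 - u) ^ 2 / (-1 - (d : ℂ))) = (m : ℂ) ^ 2 * ((3 - u) ^ 2 / (-1 - (d : ℂ))) := by
      linear_combination E2 - E1
    have h3 : (-1 - u) ^ 2 = (3 - u) ^ 2 := by
      have := mul_left_cancel₀ (pow_ne_zero 2 hm0) this
      exact (div_left_inj' hdY).mp this
    linear_combination h3 / 8
  rw [hu1] at E1
  push_cast at E1
  field_simp at E1
  have hd1 : (1 : ℂ) + (d : ℂ) ≠ 0 := fun h0 => hdY (by linear_combination -h0)
  have E : 8 * (S.n : ℂ) ^ 2 * ((d : ℂ) * ((d : ℂ) + 1)) = (m : ℂ) * ((d : ℂ) - 1) ^ 2 := by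
    linear_combination -E1
  have E' : 8 * (S.n : ℤ) ^ 2 * (d * (d + 1)) = (m : ℤ) * (d - 1) ^ 2 := by exact_mod_cast E
  have hm' : (m : ℤ) = 4 * (S.n : ℤ) ^ 2 - 2 * (S.n : ℤ) + 1 := by
    have : (m : ℂ) = 4 * (S.n : ℂ) ^ 2 - 2 * (S.n : ℂ) + 1 := by rw [hm1]; ring
    exact_mod_cast this
  exact arith (by omega) hm' (by obtain ⟨c, hc⟩ := hodd; omega) E'

end H32.InvertedTI
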