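import Cfsg.Agent.H12.Orth
import Cfsg.Agent.H12.Induction

/-! Products of two elements of a class, via characters. -/

set_option autoImplicit false

open scoped ComplexConjugate
open Cfsg

namespace H32

universe u

variable {G : Type u} [Group G] [Fintype G]

theorem sum_mul_irr (χ : IrrCharacter G) {f f' : G → ℂ} (hf : IsClassFunction G f)
    (hf' : IsClassFunction G f') :
    ∑ g : G, ∑ h : G, f g * f' h * (χ : G → ℂ) (g * h) =
      (∑ g : G, f g * (χ : G → ℂ) g) * (∑ g : G, f' g * (χ : G → ℂ) g) / (χ : G → ℂ) 1 := by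
  classical
  obtain ⟨n, ρ, hρ, hch⟩ := χ.2
  haveI := hρ
  have hpos := H12.finrank_pos_of_isIrreducible ρ
  have e1 := H12.avgOp_eq_smul ρ hf
  have e2 := H12.avgOp_eq_smul ρ hf'
  have hprod : H12.avgOp ρ f * H12.avgOp ρ f' = ∑ g : G, ∑ h : G, (f g * f' h) • ρ (g * h) := by
    have hx : ∀ k : G → ℂ, H12.avgOp ρ k = ∑ g : G, k g • ρ g := fun k =>
      LinearMap.ext fun v => by rw [H12.avgOp_apply, LinearMap.sum_apply]; rfl
    rw [hx, hx, Finset.sum_mul]
    refine Finset.sum_congr rfl fun g _ => ?_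
    rw [Finset.mul_sum]
    refine Finset.sum_congr rfl fun h _ => ?_
    rw [smul_mul_smul_comm, map_mul]
  have ht := congrArg (LinearMap.trace ℂ (Fin n → ℂ)) hprod
  rw [e1, e2, smul_mul_smul_comm, one_mul] at ht
  simp only [map_sum, map_smul, LinearMap.trace_one, smul_eq_mul] at ht
  have h1 : ρ.character 1 = (Module.finrank ℂ (Fin n → ℂ) : ℂ) := by simp
  rw [← hch, h1]
  show ∑ g, ∑ h, f g * f' h * LinearMap.trace ℂ (Fin n → ℂ) (ρ (g * h)) = _
  rw [← ht]
  have hne : (Module.finrank ℂ (Fin n → ℂ) : ℂ) ≠ 0 := by exact_mod_cast hpos.ne'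
  field_simp

end H32
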