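import Cfsg.Agent.H32.CubicMain
import Cfsg.Agent.H89.CentralEltJ
import Cfsg.Agent.H73.KCritical
import Cfsg.Agent.H73.Critical
import Cfsg.Agent.H6.AutPGroup
import Cfsg.Agent.S0093

/-!
An element of a largest abelian subgroup with sixth iterated commutators trivial on the chief
factors below the core (helper32).
-/

set_option autoImplicit false
set_option linter.style.haveILetI false

namespace Cfsg.Agent.H32.JEngel

open Subgroup
open scoped commutatorElement

variable {X : Type*} [Group X]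

/-- A descending chain of subgroups between `V` and `U`. -/
def lvl (M U V : Subgroup X) : ℕ → Subgroup X
  | 0 => V
  | k + 1 => Cubic.pre (M : Set X) U (lvl M U V k)

section Lvl

variable {M U V : Subgroup X} [U.Normal] [V.Normal]

omit [U.Normal] in
theorem V_le_lvl (hVU : V ≤ U) : ∀ k, V ≤ lvl M U V k
  | 0 => le_rfl
  | k + 1 => fun x hx => ⟨hVU hx, fun m _ v _ => V_le_lvl hVU k
      (Subgroup.Normal.conj_mem ‹V.Normal› _ (by
        rw [commutatorElement_def]
        exact V.mul_mem (Subgroup.Normal.conj_mem ‹V.Normal› x hx m) (V.inv_mem hx)) v)⟩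

theorem mem_lvl_succ (hVU : V ≤ U) (hab : ⁅U, U⁆ ≤ V) {k : ℕ} {u : X} (hu : u ∈ U)
    (h : ∀ m ∈ M, ⁅m, u⁆ ∈ lvl M U V k) : u ∈ lvl M U V (k + 1) := by
  refine ⟨hu, fun m hm v hv => ?_⟩
  rw [Cubic.conj_eq_br_mul v]
  refine mul_mem (V_le_lvl hVU k (hab (commutator_mem_commutator hv ?_))) (h m hm)
  rw [commutatorElement_def]
  exact U.mul_mem (Subgroup.Normal.conj_mem ‹U.Normal› u hu m) (U.inv_mem hu)

omit [U.Normal] [V.Normal] in
theorem br_lvl {k : ℕ} {u m : X} (hm : m ∈ M) (hu : u ∈ lvl M U V (k + 1)) :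
    ⁅m, u⁆ ∈ lvl M U V k := by
  have h1 := hu.2 m hm 1 U.one_mem
  rwa [one_mul, inv_one, mul_one] at h1

omit [U.Normal] [V.Normal] in
theorem iter_le_of_le_lvl {n : ℕ} (h : U ≤ lvl M U V n) :
    Cfsg.iterCommutator U M n ≤ V := by
  have key : ∀ k i, i + k = n → Cfsg.iterCommutator U M k ≤ lvl M U V i := by
    intro k
    induction k with
    | zero => intro i hi; rw [Nat.add_zero] at hi; subst hi; exact h
    | succ k ih =>
      intro i hi
      show ⁅Cfsg.iterCommutator U M k, M⁆ ≤ _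
      rw [commutator_le]
      intro x hx m hm
      rw [← commutatorElement_inv m x]
      exact inv_mem (br_lvl hm (ih (i + 1) (by omega) hx))
  exact key n 0 (Nat.zero_add n)

end Lvl

variable [Finite X] {p : ℕ} [Fact p.Prime]

/-- The largest abelian subgroup with largest intersection with a normal abelian subgroup is
normalized by it. -/
theorem normalizes_of_max {T O V A : Subgroup X} (hT : IsPGroup p T) (hVR : V ≤ T) [V.Normal]
    (hVO : O ≤ centralizer (V : Set X)) (hVc : ∀ x ∈ V, ∀ y ∈ V, x * y = y * x)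
    (hA : A ∈ H11.maxFam (fun B : Subgroup X => IsMulCommutative B) T)
    (hmax : ∀ B ∈ H11.maxFam (fun B : Subgroup X => IsMulCommutative B) T, ¬ B ≤ O →
      Nat.card (B ⊓ V : Subgroup X) ≤ Nat.card (A ⊓ V : Subgroup X)) :
    V ≤ normalizer (A : Set X) := by
  by_contra hVA
  haveI hVc' : IsMulCommutative (V.subgroupOf T) :=
    H11.isMulCommutative_of_commute fun x hx y hy => Subtype.ext (hVc _ hx _ hy)
  haveI hAc : IsMulCommutative (A.subgroupOf T) :=
    H11.isMulCommutative_of_commute fun x hx y hy => Subtype.ext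
      (H11.comm_of_mulCommutative hA.2.1 hx hy).eq
  have hAV : A.subgroupOf T ≤ Subgroup.normalizer ((V.subgroupOf T : Subgroup T) : Set T) := by
    intro a _
    rw [Subgroup.mem_normalizer_iff]
    intro v
    simp only [Subgroup.mem_subgroupOf, Subgroup.coe_mul, InvMemClass.coe_inv]
    refine ⟨fun hv => Subgroup.Normal.conj_mem ‹V.Normal› _ hv _, fun hv => ?_⟩
    have h1 := Subgroup.Normal.conj_mem ‹V.Normal› _ hv (a : X)⁻¹
    simpa [mul_assoc] using h1
  have hnot : ¬ V.subgroupOf T ≤ Subgroup.normalizer ((A.subgroupOf T : Subgroup T) : Set T) := by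
    intro h
    refine hVA fun v hv => ?_
    have h1 := h (show (⟨v, hVR hv⟩ : T) ∈ V.subgroupOf T from hv)
    rw [Subgroup.mem_normalizer_iff] at h1 ⊢
    intro a
    refine ⟨fun ha => ?_, fun ha => ?_⟩
    · exact (h1 ⟨a, hA.1 ha⟩).1 ha
    · have haR : a ∈ T := by
        have := T.mul_mem (T.mul_mem (T.inv_mem (hVR hv)) (hA.1 ha)) (hVR hv)
        simpa [mul_assoc] using this
      exact (h1 ⟨a, haR⟩).2 ha
  obtain ⟨A', hA'c, hA'card, hA'V, hA'N, -, -⟩ := H79.replacement hT hAV hnot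
  set B := A'.map T.subtype with hB
  have hBcard : Nat.card A ≤ Nat.card B := by
    rw [hB, Subgroup.card_map_of_injective T.subtype_injective]
    refine le_trans (le_of_eq ?_) hA'card
    exact (Nat.card_congr (Subgroup.subgroupOfEquivOfLe hA.1).toEquiv).symm
  have hBmem : B ∈ H11.maxFam (fun B : Subgroup X => IsMulCommutative B) T :=
    ⟨Subgroup.map_subtype_le _, H11.isMulCommutative_map hA'c _,
      fun C hC hC' => (hA.2.2 C hC hC').trans hBcard⟩
  have hlt : Nat.card (A ⊓ V : Subgroup X) < Nat.card (B ⊓ V : Subgroup X) := by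
    have h1 : (A.subgroupOf T ⊓ V.subgroupOf T).map T.subtype = A ⊓ V := by
      rw [Subgroup.map_inf _ _ _ T.subtype_injective, Subgroup.map_subgroupOf_eq_of_le hA.1,
        Subgroup.map_subgroupOf_eq_of_le hVR]
    have h2 : (A' ⊓ V.subgroupOf T).map T.subtype = B ⊓ V := by
      rw [Subgroup.map_inf _ _ _ T.subtype_injective, Subgroup.map_subgroupOf_eq_of_le hVR]
    rw [← h1, ← h2, Subgroup.card_map_of_injective T.subtype_injective,
      Subgroup.card_map_of_injective T.subtype_injective]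
    exact Set.ncard_lt_ncard hA'V (Set.toFinite _)
  by_cases hBO : B ≤ O
  · have hVB : V ≤ B := fun v hv => H11.mem_of_commute_maxFam_comm hBmem (hVR hv) fun b hb =>
      (Subgroup.mem_centralizer_iff.1 (hVO (hBO hb)) v hv).symm
    refine hnot (le_trans ?_ hA'N)
    intro v hv
    obtain ⟨w, hw, hwv⟩ := hVB hv
    exact (Subtype.ext hwv : w = v) ▸ hw
  · exact absurd (hmax B hBmem hBO) (not_le.2 hlt)

/-- A good element of `A ∖ Q` when `J(T)` is not normal. -/
theorem exists_engel (hp : p ≠ 2) (T : Sylow p X)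
    (hn : ¬ (Cfsg.thompsonSubgroupAOf (T : Subgroup X)).Normal) :
    ∃ g : X, g ∈ (T : Subgroup X) ∧ g ∉ Cfsg.pCore p X ∧ ∀ U V : Subgroup X, Cfsg.IsChiefFactor U V →
      U ≤ Cfsg.pCore p X → Cfsg.iterCommutator U (Subgroup.zpowers g) 6 ≤ V := by
  classical
  set Q := Cfsg.pCore p X with hQdef
  haveI := H1.pCore_normal' p X
  have hQp : IsPGroup p Q := H1.isPGroup_pCore p X
  have hQT : Q ≤ (T : Subgroup X) := H1.pCore_le_sylow T
  obtain ⟨H, hHchar, -, hH3, hH4⟩ := Cfsg.Agent.S0093.result (p := p) hQp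
  haveI := hHchar
  set C := H.map Q.subtype with hC
  haveI : C.Normal := H1.map_subtype_normal_of_characteristic Q H
  have hCQ : C ≤ Q := Subgroup.map_subtype_le _
  have hzC : (H73.zc H).map Q.subtype = H73.zc C := H73.map_zc Q.subtype Q.subtype_injective H
  have hQC : ⁅Q, C⁆ ≤ H73.zc C := by
    have htop : (⊤ : Subgroup Q).map Q.subtype = Q := by
      rw [← MonoidHom.range_eq_map, Subgroup.range_subtype]
    rw [← hzC, hC, Subgroup.commutator_comm]
    have h1 : ⁅H.map Q.subtype, (⊤ : Subgroup Q).map Q.subtype⁆ ≤ (H73.zc H).map Q.subtype := by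
      rw [← Subgroup.map_commutator]
      exact Subgroup.map_mono hH3
    exact (Subgroup.commutator_mono le_rfl htop.ge).trans h1
  have hC4 : Q ⊓ Subgroup.centralizer (C : Set X) = H73.zc C := by
    refine le_antisymm ?_ (inf_le_inf_right _ hCQ)
    rintro x ⟨hxQ, hxC⟩
    refine ⟨⟨⟨x, hxQ⟩, hH4 ?_, rfl⟩, hxC⟩
    intro h hh
    exact Subtype.ext (Subgroup.mem_centralizer_iff.mp hxC _ ⟨h, hh, rfl⟩)
  set Z := H73.zc C with hZ
  haveI hZn : Z.Normal := H73.zc_normal inferInstance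
  have hZC : Z ≤ C := H73.zc_le C
  have hZcomm : ∀ z ∈ Z, ∀ c ∈ C, c * z = z * c := fun z hz c hc =>
    Subgroup.mem_centralizer_iff.mp hz.2 c hc
  haveI : (centralizer (Q : Set X)).Normal := Subgroup.normal_centralizer
  set V := Q ⊓ centralizer (Q : Set X) with hV
  haveI : V.Normal := Subgroup.normal_inf_normal _ _
  have hVZ : V ≤ Z := (inf_le_inf_left Q (Subgroup.centralizer_le hCQ)).trans hC4.le
  have hZ0 : ⁅Z, C⁆ = ⊥ := Subgroup.commutator_eq_bot_iff_le_centralizer.mpr inf_le_right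
  have hCV : ⁅C, C⁆ ≤ V := by
    refine le_inf ((Subgroup.commutator_le_self C).trans hCQ)
      (Subgroup.commutator_eq_bot_iff_le_centralizer.mp ?_)
    refine Subgroup.commutator_commutator_eq_bot_of_rotate (H₁ := C) (H₂ := C) (H₃ := Q) ?_ ?_
    · exact le_bot_iff.mp ((Subgroup.commutator_mono
        ((Subgroup.commutator_comm C Q).le.trans hQC) le_rfl).trans hZ0.le)
    · exact le_bot_iff.mp ((Subgroup.commutator_mono hQC le_rfl).trans hZ0.le)
  -- the abelian subgroup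
  set 𝒜 := {A | A ∈ H11.maxFam (fun A : Subgroup X => IsMulCommutative A) (T : Subgroup X) ∧ ¬ A ≤ Q}
  have hex : 𝒜.Nonempty := by
    by_contra hcon
    rw [Set.not_nonempty_iff_eq_empty] at hcon
    apply hn
    rw [H89.JA_eq_of_forall_le hQT fun A hA => by
      by_contra hAQ
      exact Set.notMem_empty A (hcon.le ⟨hA, hAQ⟩)]
    refine Subgroup.normalizer_eq_top_iff.mp (top_le_iff.mp ?_)
    exact (Subgroup.normalizer_eq_top (H := Q)).ge.trans (H74.JA.normalizer_le_normalizer_JA Q)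
  obtain ⟨A1, hA1, hm1⟩ := Set.exists_max_image 𝒜 (fun A => Nat.card (A ⊓ V : Subgroup X))
    (Set.toFinite _) hex
  obtain ⟨A2, hA2, hm2⟩ := Set.exists_max_image
    {A | A ∈ 𝒜 ∧ Nat.card (A ⊓ V : Subgroup X) = Nat.card (A1 ⊓ V : Subgroup X)}
    (fun A => Nat.card (A ⊓ Z : Subgroup X)) (Set.toFinite _) ⟨A1, hA1, rfl⟩
  obtain ⟨A, ⟨⟨hA, hAV1⟩, hAZ1⟩, hm3⟩ := Set.exists_max_image
    {A | (A ∈ 𝒜 ∧ Nat.card (A ⊓ V : Subgroup X) = Nat.card (A1 ⊓ V : Subgroup X)) ∧
      Nat.card (A ⊓ Z : Subgroup X) = Nat.card (A2 ⊓ Z : Subgroup X)}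
    (fun A => Nat.card (A ⊓ C : Subgroup X)) (Set.toFinite _) ⟨A2, hA2, rfl⟩
  have hAT : A ≤ (T : Subgroup X) := hA.1.1
  have hAc : ∀ a ∈ A, ∀ b ∈ A, a * b = b * a := fun a ha b hb =>
    (H11.comm_of_mulCommutative hA.1.2.1 ha hb).eq
  have hVn : V ≤ normalizer (A : Set X) :=
    normalizes_of_max T.2 (inf_le_left.trans hQT)
      (fun q hq => Subgroup.mem_centralizer_iff.mpr fun v hv =>
        (Subgroup.mem_centralizer_iff.mp hv.2 q hq).symm)
      (fun x hx y hy => (Subgroup.mem_centralizer_iff.mp hy.2 x hx.1)) hA.1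
      fun B hB hBQ => hAV1 ▸ hm1 B ⟨hB, hBQ⟩
  have hAV : ∀ a ∈ A, ∀ v ∈ V, ⁅a, v⁆ ∈ A := by
    intro a ha v hv
    rw [commutatorElement_def, show a * v * a⁻¹ * v⁻¹ = a * (v * a⁻¹ * v⁻¹) by group]
    exact A.mul_mem ha ((Subgroup.mem_normalizer_iff.mp (hVn hv) _).mp (A.inv_mem ha))
  -- maximality
  have hrig : ∀ E ∈ 𝒜, A ⊓ Z ≤ E → E ⊓ Z = A ⊓ Z ∧ (A ⊓ C ≤ E → E ⊓ C = A ⊓ C) := by
    intro E hE hZE
    have hVE : A ⊓ V ≤ E ⊓ V := le_inf ((inf_le_inf_left A hVZ).trans hZE) inf_le_right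
    have e1 : Nat.card (E ⊓ V : Subgroup X) = Nat.card (A1 ⊓ V : Subgroup X) :=
      le_antisymm (hm1 E hE) (hAV1 ▸ card_le_of_le hVE)
    have hle2 : A ⊓ Z ≤ E ⊓ Z := le_inf hZE inf_le_right
    have e2 : Nat.card (E ⊓ Z : Subgroup X) = Nat.card (A2 ⊓ Z : Subgroup X) :=
      le_antisymm (hm2 E ⟨hE, e1⟩) (hAZ1 ▸ card_le_of_le hle2)
    refine ⟨(eq_of_le_of_card_ge hle2 (e2.trans hAZ1.symm).le).symm, fun hCE => ?_⟩
    exact (eq_of_le_of_card_ge (le_inf hCE inf_le_right) (hm3 E ⟨⟨hE, e1⟩, e2⟩)).symm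
  have hsetup : ∀ U B W : Subgroup X, U.Normal → B.Normal → B ≤ U → U ≤ C →
      (∀ b ∈ B, ∀ c ∈ U, c * b = b * c) → ⁅U, U⁆ ≤ B → ⁅U, Q⁆ ≤ B →
      (∀ E ∈ 𝒜, A ⊓ W ≤ E → E ⊓ U ≤ A) →
      (∀ w ∈ A, w ∈ W → ∀ x ∈ U, (∀ s ∈ A, s ∈ U → ⁅x, s⁆ ∈ A) → ⁅w, x⁆ ∈ A) →
      Cubic.Setup (A.subgroupOf (T : Subgroup X)) (Q.subgroupOf T) (U.subgroupOf T)
        (B.subgroupOf T) (W.subgroupOf T) := by
    intro U B W hUn hBn hBU hUC hcen hUU hUQ hmax hW
    have hcardA : Nat.card (A.subgroupOf (T : Subgroup X)) = Nat.card A :=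
      Nat.card_congr (Subgroup.subgroupOfEquivOfLe hAT).toEquiv
    have hE : ∀ E : Subgroup (T : Subgroup X), (∀ x ∈ E, ∀ y ∈ E, x * y = y * x) →
        IsMulCommutative (E.map (T : Subgroup X).subtype) := fun E hc =>
      H11.isMulCommutative_map (H11.isMulCommutative_of_commute hc) _
    refine
      { nil := T.2.isNilpotent
        odd := fun g hg => ?_
        comm := fun a ha b hb => Subtype.ext (hAc _ ha _ hb)
        AC := fun a _ c hc => hUn.conj_mem _ hc _
        AB := fun a _ b hb => hBn.conj_mem _ hb _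
        BC := fun b hb => hBU hb
        cen := fun b hb c hc => Subtype.ext (hcen _ hb _ hc)
        CC := fun u hu v hv => hUU (Subgroup.commutator_mem_commutator (show (u : X) ∈ U from hu)
          (show (v : X) ∈ U from hv))
        hP := fun a ha u hu v hv => hAV _ ha _ (hCV (Subgroup.commutator_mem_commutator
          (hUC (show (u : X) ∈ U from hu)) (hUC (show (v : X) ∈ U from hv))))
        hQ := fun a _ haQ c hc => ?_
        hmax := fun E hc => ?_
        hmax' := fun E hc hEQ hcard hW' => ?_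
        hW := fun w hw hwW x hx hgood => hW _ hw hwW _ hx fun s hs hsU =>
          hgood ⟨s, hAT hs⟩ ⟨hs, hsU⟩ }
    · obtain ⟨k, hk⟩ := T.2 g
      have h2 : g ^ 2 = 1 := by rw [pow_two]; exact hg
      have hcop : Nat.Coprime (p ^ k) 2 :=
        Nat.Coprime.pow_left k ((Nat.coprime_primes Fact.out Nat.prime_two).mpr hp)
      have h1 := pow_gcd_eq_one.mpr ⟨hk, h2⟩
      rwa [hcop.gcd_eq_one, pow_one] at h1
    · have h1 : ⁅(c : X), (a : X)⁆ ∈ B :=
        hUQ (Subgroup.commutator_mem_commutator (show (c : X) ∈ U from hc) (show (a : X) ∈ Q from haQ))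
      show ⁅(a : X), (c : X)⁆ ∈ B
      rw [← commutatorElement_inv]
      exact inv_mem h1
    · have h1 := hA.1.2.2 _ (Subgroup.map_subtype_le _) (hE E hc)
      rw [Subgroup.card_map_of_injective (T : Subgroup X).subtype_injective] at h1
      exact h1.trans hcardA.ge
    · have hmem : E.map (T : Subgroup X).subtype ∈ 𝒜 := by
        refine ⟨⟨Subgroup.map_subtype_le _, hE E hc, fun D hD hDc => (hA.1.2.2 D hD hDc).trans ?_⟩, ?_⟩
        · rw [Subgroup.card_map_of_injective (T : Subgroup X).subtype_injective, ← hcardA]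
          exact hcard
        · exact fun hle => hEQ fun x hx => hle ⟨x, hx, rfl⟩
      have hle := hmax _ hmem fun x hx => ⟨⟨x, hAT hx.1⟩, hW' ⟨hx.1, hx.2⟩, rfl⟩
      exact fun x hx => hle ⟨⟨x, hx.1, rfl⟩, hx.2⟩
  have hquartic := hsetup C Z C inferInstance hZn hZC le_rfl hZcomm (hCV.trans hVZ)
    ((Subgroup.commutator_comm C Q).le.trans hQC)
    (fun E hE hle => (((hrig E hE ((inf_le_inf_left A hZC).trans hle)).2 hle).le).trans inf_le_left)
    (fun w hw hwC x _ hgood => by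
      rw [← commutatorElement_inv]
      exact inv_mem (hgood w hw hwC))
  obtain ⟨g, hgA, hgQ⟩ := SetLike.not_le_iff_exists.1 hA.2
  set M := Subgroup.zpowers g with hM
  have hMA : M ≤ A := Subgroup.zpowers_le.mpr hgA
  refine ⟨g, hAT hgA, hgQ, ?_⟩
  -- cubic on the part of a chief factor in `Z`
  have h3 : ∀ U V₀ : Subgroup X, Cfsg.IsChiefFactor U V₀ → U ≤ Q → ∀ u ∈ U, u ∈ Z →
      ∀ x ∈ M, ∀ y ∈ M, ∀ z ∈ M, ⁅x, ⁅y, ⁅z, u⁆⁆⁆ ∈ V₀ := by
    intro U V₀ hUV hUQ u hu huZ x hx y hy z hz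
    haveI := hUV.2.1
    haveI := hUV.2.2.1
    have hcub := hsetup (U ⊓ Z) (V₀ ⊓ Z) Z (Subgroup.normal_inf_normal _ _)
      (Subgroup.normal_inf_normal _ _) (inf_le_inf_right _ hUV.1.le) (inf_le_right.trans hZC)
      (fun b hb c hc => hZcomm b hb.2 c (hZC hc.2))
      (le_inf ((Subgroup.commutator_mono inf_le_left inf_le_left).trans
        (H73.chief_commutator_le hUV (hQp.to_le hUQ)))
        ((Subgroup.commutator_mono inf_le_right inf_le_right).trans (Subgroup.commutator_le_self Z)))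
      (le_inf ((Subgroup.commutator_mono inf_le_left le_rfl).trans
        (H73.commutator_le_of_chief hQp hUV hUQ))
        ((Subgroup.commutator_mono inf_le_right le_rfl).trans (Subgroup.commutator_le_left Z Q)))
      (fun E hE hle => le_trans (inf_le_inf_left E inf_le_right) ((hrig E hE hle).1.le.trans inf_le_left))
      (fun w _ hwZ x hx _ => by
        rw [Cubic.br_eq_one (hZcomm x hx.2 w (hZC hwZ))]
        exact A.one_mem)
    exact (hcub.cubic (fun a ha b hb => Subtype.ext (hZcomm _ hb.2 _ (hZC ha.2)))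
      (e := ⟨x, hAT (hMA hx)⟩) (b := ⟨y, hAT (hMA hy)⟩) (a := ⟨z, hAT (hMA hz)⟩)
      (c := ⟨u, hQT (hUQ hu)⟩) (hMA hx) (hMA hy) (hMA hz) ⟨hu, huZ⟩).1
  have h4 : ∀ U V₀ : Subgroup X, Cfsg.IsChiefFactor U V₀ → U ≤ C →
      Cfsg.iterCommutator U M 4 ≤ V₀ := by
    intro U V₀ hUV hUC
    haveI := hUV.2.1
    haveI := hUV.2.2.1
    have hUQ : U ≤ Q := hUC.trans hCQ
    have hVU : V₀ ≤ U := hUV.1.le
    have hab := H73.chief_commutator_le hUV (hQp.to_le hUQ)
    have hUm : ∀ m ∈ M, ∀ u ∈ U, ⁅m, u⁆ ∈ U := fun m _ u hu => by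
      rw [commutatorElement_def]
      exact U.mul_mem (Subgroup.Normal.conj_mem hUV.2.1 u hu m) (U.inv_mem hu)
    refine iter_le_of_le_lvl (n := 4) ?_
    by_cases hcase : U ⊓ Z ≤ V₀
    · intro u hu
      refine mem_lvl_succ hVU hab hu fun z hz => mem_lvl_succ hVU hab (hUm z hz u hu) fun y hy =>
        mem_lvl_succ hVU hab (hUm y hy _ (hUm z hz u hu)) fun x hx =>
        mem_lvl_succ hVU hab (hUm x hx _ (hUm y hy _ (hUm z hz u hu))) fun w hw => hcase
          ⟨hUm w hw _ (hUm x hx _ (hUm y hy _ (hUm z hz u hu))), ?_⟩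
      exact hquartic.quartic (e := ⟨w, hAT (hMA hw)⟩) (b := ⟨x, hAT (hMA hx)⟩)
        (a := ⟨y, hAT (hMA hy)⟩) (a' := ⟨z, hAT (hMA hz)⟩) (c := ⟨u, hQT (hUQ hu)⟩)
        (hMA hw) (hMA hx) (hMA hy) (hMA hz) (hUC hu)
    · rcases hUV.2.2.2 (V₀ ⊔ (U ⊓ Z)) (Subgroup.sup_normal _ _) le_sup_left
        (sup_le hVU inf_le_left) with e | e
      · exact absurd (le_sup_right.trans e.le) hcase
      · refine e.ge.trans (sup_le (V_le_lvl hVU 4) fun u hu => ?_)
        refine mem_lvl_succ hVU hab hu.1 fun z hz => mem_lvl_succ hVU hab (hUm z hz u hu.1) fun y hy =>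
          mem_lvl_succ hVU hab (hUm y hy _ (hUm z hz u hu.1)) fun x hx => ?_
        exact V_le_lvl hVU 1 (h3 U V₀ hUV hUQ u hu.1 hu.2 x hx y hy z hz)
  intro U V₀ hUV hUQ
  refine H73.chief_iter_of_selfCentralizing hQp hCQ hQC hC4 g (i := 4) (j := 3) (by omega) (by omega)
    h4 (fun U V₀ hUV hUZ => ?_) U V₀ hUV hUQ
  haveI := hUV.2.1
  haveI := hUV.2.2.1
  have hUQ : U ≤ Q := (hUZ.trans hZC).trans hCQ
  have hab := H73.chief_commutator_le hUV (hQp.to_le hUQ)
  have hUm : ∀ m ∈ M, ∀ u ∈ U, ⁅m, u⁆ ∈ U := fun m _ u hu => by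
    rw [commutatorElement_def]
    exact U.mul_mem (Subgroup.Normal.conj_mem hUV.2.1 u hu m) (U.inv_mem hu)
  refine iter_le_of_le_lvl (n := 3) fun u hu => mem_lvl_succ hUV.1.le hab hu fun z hz =>
    mem_lvl_succ hUV.1.le hab (hUm z hz u hu) fun y hy =>
    mem_lvl_succ hUV.1.le hab (hUm y hy _ (hUm z hz u hu)) fun x hx =>
    h3 U V₀ hUV hUQ u hu (hUZ hu) x hx y hy z hz

end Cfsg.Agent.H32.JEngel
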