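import Mathlib
import Cfsg.Agent.H58.JordanCriterion

/-!
Multiply transitive groups of degree `k p + r` (Jordan, Wielandt): small supports, and the
orbit structure of an elementary `p`-subgroup all of whose orbits off a set `Δ` have size `p`.
-/

set_option autoImplicit false
set_option linter.unusedSectionVars false

namespace H32.JordanR

open Equiv MulAction
open scoped commutatorElement

variable {α : Type*} [Fintype α] [DecidableEq α]

theorem exists_map {G : Subgroup (Perm α)} {m : ℕ} (hG : IsMultiplyPretransitive G α m)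
    (hm : m ≤ Fintype.card α) {ι : Type*} [Fintype ι] (hι : Fintype.card ι ≤ m) (u v : ι ↪ α) :
    ∃ g ∈ G, ∀ i, g (u i) = v i := by
  haveI := hG
  have h : IsMultiplyPretransitive G α (Fintype.card ι) :=
    isMultiplyPretransitive_of_le hι (by rwa [Nat.card_eq_fintype_card])
  let e := (Fintype.equivFin ι).symm.toEmbedding
  obtain ⟨g, hg⟩ := h.exists_smul_eq (e.trans u) (e.trans v)
  refine ⟨g, g.2, fun i => ?_⟩
  have := DFunLike.congr_fun hg (Fintype.equivFin ι i)
  simpa [e, Subgroup.smul_def] using this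

theorem alternating_le_of_double_transposition {G : Subgroup (Perm α)}
    (hG : IsMultiplyPretransitive G α 4) (hprim : IsPreprimitive G α) (h5 : 5 ≤ Fintype.card α)
    {a b c d : α} (hab : a ≠ b) (hac : a ≠ c) (had : a ≠ d) (hbc : b ≠ c) (hbd : b ≠ d)
    (hcd : c ≠ d) (hx : swap a b * swap c d ∈ G) : alternatingGroup α ≤ G := by
  obtain ⟨e, -, he⟩ := Finset.exists_mem_notMem_of_card_lt_card
    (s := ({a, b, c, d} : Finset α)) (t := Finset.univ) (by
      rw [Finset.card_univ]; exact lt_of_le_of_lt Finset.card_le_four (by omega))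
  simp only [Finset.mem_insert, Finset.mem_singleton, not_or] at he
  obtain ⟨hea, heb, hec, hed⟩ := he
  have hu : Function.Injective ![a, b, c, d] := by
    intro i j h; fin_cases i <;> fin_cases j <;> simp_all
  have hv : Function.Injective ![a, b, c, e] := by
    intro i j h; fin_cases i <;> fin_cases j <;> simp_all
  obtain ⟨g, hgG, hg⟩ := exists_map hG (by omega) (ι := Fin 4) (by simp) ⟨_, hu⟩ ⟨_, hv⟩
  have h0 : g a = a := hg 0
  have h1 : g b = b := hg 1
  have h2 : g c = c := hg 2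
  have h3 : g d = e := hg 3
  have hy : swap a b * swap c e ∈ G := by
    have := mul_mem (mul_mem hgG hx) (inv_mem hgG)
    rwa [show g * (swap a b * swap c d) * g⁻¹ = (g * swap a b * g⁻¹) * (g * swap c d * g⁻¹) by group,
      ← swap_apply_apply, ← swap_apply_apply, h0, h1, h2, h3] at this
  have hdis : Perm.Disjoint (swap a b) (swap c d) := by
    rw [Perm.disjoint_iff_disjoint_support, Perm.support_swap hab, Perm.support_swap hcd]
    simp [hac, had, hbc, hbd, hac.symm, had.symm, hbc.symm, hbd.symm]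
  have h3c : swap c d * swap c e ∈ G := by
    have := mul_mem hx hy
    rwa [mul_assoc, ← mul_assoc (swap c d), ← hdis.commute.eq, mul_assoc (swap a b), ← mul_assoc,
      ← mul_assoc, swap_mul_self, one_mul] at this
  exact Perm.alternatingGroup_le_of_isPreprimitive_of_isThreeCycle_mem hprim
    (Perm.isThreeCycle_swap_mul_swap_same hcd (Ne.symm hec) (Ne.symm hed)) h3c

theorem alternating_le_of_small_support {G : Subgroup (Perm α)}
    (hG : IsMultiplyPretransitive G α 4) (hprim : IsPreprimitive G α) (h5 : 5 ≤ Fintype.card α)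
    {g : Perm α} (hgG : g ∈ G) (hg1 : g ≠ 1) (hs : g.support.card ≤ 4) : alternatingGroup α ≤ G := by
  obtain ⟨q, hq, hqd⟩ := Nat.exists_prime_and_dvd (n := orderOf g) (by rwa [Ne, orderOf_eq_one_iff])
  haveI := Fact.mk hq
  set x := g ^ (orderOf g / q) with hx
  have hxo : orderOf x = q := orderOf_pow_orderOf_div (orderOf_pos g).ne' hqd
  have hxG : x ∈ G := pow_mem hgG _
  have hxs : x.support.card ≤ 4 := (Finset.card_le_card (Perm.support_pow_le g _)).trans hs
  obtain ⟨n, hn⟩ := Perm.cycleType_prime_order (σ := x) (by rw [hxo]; exact hq)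
  have hsum : x.support.card = (n + 1) * q := by
    rw [← Perm.sum_cycleType, hn, hxo, Multiset.sum_replicate, smul_eq_mul]
  have hq2 := hq.two_le
  rcases (show (q = 3 ∧ n = 0) ∨ (q = 2 ∧ n = 0) ∨ (q = 2 ∧ n = 1) by
      have : q ≤ 4 := by nlinarith
      interval_cases q <;> first | (exfalso; revert hq; norm_num; done) | omega) with
    ⟨rfl, rfl⟩ | ⟨rfl, rfl⟩ | ⟨rfl, rfl⟩
  · exact Perm.alternatingGroup_le_of_isPreprimitive_of_isThreeCycle_mem hprim
      (card_support_eq_three_iff.mp (by simpa using hsum)) hxG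
  · rw [Perm.subgroup_eq_top_of_isPreprimitive_of_isSwap_mem hprim x
      (Perm.card_support_eq_two.mp (by simpa using hsum)) hxG]
    exact le_top
  · have hx2 : x ^ 2 = 1 := hxo ▸ pow_orderOf_eq_one x
    have hinv : ∀ y, x (x y) = y := fun y => by
      rw [← Perm.mul_apply, ← pow_two, hx2]; rfl
    obtain ⟨a, ha⟩ := Finset.card_pos.mp (show 0 < x.support.card by omega)
    have hab : a ≠ x a := Ne.symm (Perm.mem_support.mp ha)
    obtain ⟨c, hc, hc'⟩ := Finset.exists_mem_notMem_of_card_lt_card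
      (s := ({a, x a} : Finset α)) (t := x.support) (by rw [Finset.card_pair hab, hsum]; norm_num)
    simp only [Finset.mem_insert, Finset.mem_singleton, not_or] at hc'
    have hcd : c ≠ x c := Ne.symm (Perm.mem_support.mp hc)
    have hbd : x a ≠ x c := fun h => hc'.1 (x.injective h).symm
    have had : a ≠ x c := fun h => hc'.2 (by rw [h, hinv])
    have hsupp : ({a, x a, c, x c} : Finset α) = x.support := by
      refine Finset.eq_of_subset_of_card_le ?_ ?_
      · intro y hy
        simp only [Finset.mem_insert, Finset.mem_singleton] at hy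
        rcases hy with rfl | rfl | rfl | rfl <;>
          simp [Perm.mem_support, hinv, hab, hcd, Ne.symm hab, Ne.symm hcd]
      · rw [hsum]
        simp [hab, Ne.symm hc'.1, had, Ne.symm hc'.2, hbd, hcd]
    have hxeq : x = swap a (x a) * swap c (x c) := by
      ext y
      by_cases hy : y ∈ x.support
      · rw [← hsupp] at hy
        simp only [Finset.mem_insert, Finset.mem_singleton] at hy
        rcases hy with rfl | rfl | rfl | rfl <;>
          simp [swap_apply_def, hinv, hab, Ne.symm hab, hc'.1, Ne.symm hc'.1, hc'.2, Ne.symm hc'.2,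
            had, Ne.symm had, hbd, Ne.symm hbd, hcd, Ne.symm hcd]
      · have hy0 := hy
        rw [← hsupp] at hy0
        simp only [Finset.mem_insert, Finset.mem_singleton, not_or] at hy0
        obtain ⟨h1, h2, h3, h4⟩ := hy0
        rw [Perm.notMem_support.mp hy]
        simp [swap_apply_of_ne_of_ne, h1, h2, h3, h4]
    exact alternating_le_of_double_transposition hG hprim h5 hab (Ne.symm hc'.1) had (Ne.symm hc'.2)
      hbd hcd (hxeq ▸ hxG)

/-! ### The elementary subgroup `P` -/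

/-- `P` is a `p`-subgroup fixing `Δ` whose other orbits have size `p`. -/
structure Orbits (p : ℕ) (Δ : Finset α) (P : Subgroup (Perm α)) : Prop where
  isPGroup : IsPGroup p P
  fix : ∀ h ∈ P, ∀ a ∈ Δ, h a = a
  card_orbit : ∀ x ∉ Δ, Nat.card (orbit P x) = p

variable {p : ℕ} [hp : Fact p.Prime] {Δ : Finset α} {P : Subgroup (Perm α)}

theorem Orbits.not_mem (hP : Orbits p Δ P) {x y : α} (hx : x ∉ Δ) (hy : y ∈ orbit P x) : y ∉ Δ := by
  obtain ⟨⟨h, hh⟩, rfl⟩ := hy
  intro hm
  refine hx ?_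
  have h1 : h (h x) = h x := hP.fix h hh _ hm
  exact h.injective h1 ▸ hm

theorem Orbits.pow_prime (hP : Orbits p Δ P) {h : Perm α} (hh : h ∈ P) : h ^ p = 1 := by
  ext y
  by_cases hy : y ∈ Δ
  · exact hP.fix _ (pow_mem hh p) y hy
  · obtain ⟨e, he⟩ := hP.isPGroup ⟨h, hh⟩
    have he' : h ^ p ^ e = 1 := congrArg Subtype.val he
    have hper : Function.IsPeriodicPt h (p ^ e) y := by
      show (⇑h)^[p ^ e] y = y
      rw [← Perm.coe_pow, he']; rfl
    obtain ⟨i, -, hi⟩ := (Nat.dvd_prime_pow hp.out).mp hper.minimalPeriod_dvd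
    have hle : Function.minimalPeriod h y ≤ p := by
      have hinj : Function.Injective (fun j : Fin (Function.minimalPeriod h y) =>
          (⟨(h ^ (j : ℕ)) y, ⟨h ^ (j : ℕ), pow_mem hh _⟩, rfl⟩ : orbit P y)) := by
        intro a b hab
        have hab' := congrArg Subtype.val hab
        simp only [Perm.coe_pow] at hab'
        exact Fin.ext (Function.iterate_injOn_Iio_minimalPeriod a.2 b.2 hab')
      have := Nat.card_le_card_of_injective _ hinj
      rwa [Nat.card_fin, hP.card_orbit y hy] at this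
    have hdvd : Function.minimalPeriod h y ∣ p := by
      rw [hi] at hle ⊢
      rcases Nat.lt_or_ge i 2 with h2 | h2
      · interval_cases i <;> simp
      · exfalso
        have : p ^ 2 ≤ p := (Nat.pow_le_pow_right hp.out.pos h2).trans hle
        nlinarith [hp.out.two_le]
    show (h ^ p) y = y
    rw [Perm.coe_pow]
    exact Function.isPeriodicPt_iff_minimalPeriod_dvd.mpr hdvd

theorem Orbits.exists_moving (hP : Orbits p Δ P) {x : α} (hx : x ∉ Δ) : ∃ c ∈ P, c x ≠ x := by
  by_contra hcon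
  push Not at hcon
  have h1 := hP.card_orbit x hx
  have : orbit P x = {x} := Set.eq_singleton_iff_unique_mem.mpr
    ⟨mem_orbit_self x, fun y ⟨⟨h, hh⟩, hy⟩ => hy ▸ hcon h hh⟩
  rw [this] at h1
  simp at h1
  exact hp.out.ne_one h1.symm

theorem Orbits.pow_fix_dvd (hP : Orbits p Δ P) {c : Perm α} (hc : c ∈ P) {x : α} (hcx : c x ≠ x)
    {i : ℕ} (hi : (c ^ i) x = x) : p ∣ i := by
  have hper : Function.IsPeriodicPt c p x := by
    show (⇑c)^[p] x = x
    rw [← Perm.coe_pow, hP.pow_prime hc]; rfl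
  rcases (Nat.dvd_prime hp.out).mp hper.minimalPeriod_dvd with h | h
  · exact absurd (Function.minimalPeriod_eq_one_iff_isFixedPt.mp h) hcx
  · rw [Perm.coe_pow] at hi
    exact h ▸ Function.IsPeriodicPt.minimalPeriod_dvd hi

theorem Orbits.exists_pow_apply (hP : Orbits p Δ P) {c : Perm α} (hc : c ∈ P) {x : α} (hx : x ∉ Δ)
    (hcx : c x ≠ x) {y : α} (hy : y ∈ orbit P x) : ∃ i : ℕ, (c ^ i) x = y := by
  let F : Fin p → orbit P x := fun i => ⟨(c ^ (i : ℕ)) x, ⟨c ^ (i : ℕ), pow_mem hc _⟩, rfl⟩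
  have hinj : Function.Injective F := by
    have aux : ∀ a b : Fin p, (a : ℕ) ≤ b → (c ^ (a : ℕ)) x = (c ^ (b : ℕ)) x → a = b := by
      intro a b hab h
      have h' : (c ^ ((b : ℕ) - a)) x = x := by
        apply (c ^ (a : ℕ)).injective
        rw [← Perm.mul_apply, ← pow_add, Nat.add_sub_cancel' hab]
        exact h.symm
      have := hP.pow_fix_dvd hc hcx h'
      have := Nat.eq_zero_of_dvd_of_lt this (by omega)
      exact Fin.ext (by omega)
    intro a b h
    rcases le_total (a : ℕ) b with hab | hab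
    · exact aux a b hab (congrArg Subtype.val h)
    · exact (aux b a hab (congrArg Subtype.val h).symm).symm
  haveI := Fintype.ofFinite (orbit P x)
  have hsur := ((Fintype.bijective_iff_injective_and_card F).mpr ⟨hinj, by
    rw [Fintype.card_fin, ← Nat.card_eq_fintype_card, hP.card_orbit x hx]⟩).2
  obtain ⟨i, hi⟩ := hsur ⟨y, hy⟩
  exact ⟨i, congrArg Subtype.val hi⟩

theorem Orbits.fix_orbit (hP : Orbits p Δ P) {h : Perm α} (hh : h ∈ P) {x : α} (hx : x ∉ Δ)
    (hhx : h x = x) {y : α} (hy : y ∈ orbit P x) : h y = y := by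
  by_contra hne
  have hyΔ := hP.not_mem hx hy
  obtain ⟨i, hi⟩ := hP.exists_pow_apply hh hyΔ hne
    (show x ∈ orbit P y by rw [orbit_eq_iff.mpr hy]; exact mem_orbit_self x)
  apply hne
  apply (h ^ i).injective
  rw [← Perm.mul_apply, ← pow_succ, pow_succ', Perm.mul_apply, hi, hhx]

/-- On the orbit of `x` every element of `P` is a power of a fixed element moving `x`. -/
theorem Orbits.exists_pow_eq (hP : Orbits p Δ P) {c : Perm α} (hc : c ∈ P) {x : α} (hx : x ∉ Δ)
    (hcx : c x ≠ x) {h : Perm α} (hh : h ∈ P) :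
    ∃ i : ℕ, ∀ y ∈ orbit P x, h y = (c ^ i) y := by
  obtain ⟨i, hi⟩ := hP.exists_pow_apply hc hx hcx (show h x ∈ orbit P x from ⟨⟨h, hh⟩, rfl⟩)
  refine ⟨i, fun y hy => ?_⟩
  have h1 : ((c ^ i)⁻¹ * h) x = x := by rw [Perm.mul_apply, ← hi]; simp
  have h2 := hP.fix_orbit (mul_mem (inv_mem (pow_mem hc i)) hh) hx h1 hy
  rw [Perm.mul_apply] at h2
  conv_rhs => rw [← h2]
  simp

theorem Orbits.commute (hP : Orbits p Δ P) {h h' : Perm α} (hh : h ∈ P) (hh' : h' ∈ P) :
    Commute h h' := by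
  refine Equiv.ext fun y => ?_
  show h (h' y) = h' (h y)
  by_cases hy : y ∈ Δ
  · rw [hP.fix _ hh' y hy, hP.fix _ hh y hy, hP.fix _ hh' y hy]
  · obtain ⟨c, hc, hcy⟩ := hP.exists_moving hy
    obtain ⟨i, hi⟩ := hP.exists_pow_eq hc hy hcy hh
    obtain ⟨j, hj⟩ := hP.exists_pow_eq hc hy hcy hh'
    rw [hi (h' y) ⟨⟨h', hh'⟩, rfl⟩, hj y (mem_orbit_self y), hj (h y) ⟨⟨h, hh⟩, rfl⟩, hi y (mem_orbit_self y),
      ← Perm.mul_apply, ← Perm.mul_apply, ← pow_add, ← pow_add, add_comm]

/-- `g` preserves `Δ` and every orbit of `P`, and normalises `P`. -/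
def orbitFixer (Δ : Finset α) (P : Subgroup (Perm α)) : Subgroup (Perm α) where
  carrier := {g | (∀ a, g a ∈ Δ ↔ a ∈ Δ) ∧ g ∈ Subgroup.normalizer (P : Set (Perm α)) ∧
    ∀ a ∉ Δ, orbit P (g a) = orbit P a}
  one_mem' := ⟨fun _ => Iff.rfl, one_mem _, fun _ _ => rfl⟩
  mul_mem' := fun {g h} hg hh => ⟨fun a => (hg.1 (h a)).trans (hh.1 a), mul_mem hg.2.1 hh.2.1,
    fun a ha => (hg.2.2 (h a) (fun h1 => ha ((hh.1 a).mp h1))).trans (hh.2.2 a ha)⟩
  inv_mem' := fun {g} hg => ⟨fun a => by simpa using (hg.1 (g⁻¹ a)).symm, inv_mem hg.2.1,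
    fun a ha => by simpa using (hg.2.2 (g⁻¹ a) (fun h1 => ha (by simpa using (hg.1 _).mpr h1))).symm⟩

theorem Orbits.le_orbitFixer (hP : Orbits p Δ P) : P ≤ orbitFixer Δ P := fun h hh =>
  ⟨fun a => ⟨fun ha => h.injective (hP.fix h hh _ ha) ▸ ha, fun ha => (hP.fix h hh a ha).symm ▸ ha⟩,
    Subgroup.le_normalizer hh, fun a _ => orbit_eq_iff.mpr ⟨⟨h, hh⟩, rfl⟩⟩

theorem orbitFixer_conj {g : Perm α} (hg : g ∈ orbitFixer Δ P) {h : Perm α} (hh : h ∈ P) :
    g * h * g⁻¹ ∈ P :=
  (Subgroup.mem_normalizer_iff.mp hg.2.1 h).mp hh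

theorem Orbits.orbitFixer_apply (hP : Orbits p Δ P) {g : Perm α} (hg : g ∈ orbitFixer Δ P) {x y : α}
    (hx : x ∉ Δ) (hy : y ∈ orbit P x) : g y ∈ orbit P x := by
  have hyΔ := hP.not_mem hx hy
  rw [← orbit_eq_iff] at hy ⊢
  rw [hg.2.2 y hyΔ, hy]

/-- The action of the orbit fixer on the group induced by `P` on one orbit is abelian: there is
a character whose kernel centralises `P` on that orbit. -/
theorem Orbits.exists_character (hP : Orbits p Δ P) {x : α} (hx : x ∉ Δ) :
    ∃ χ : orbitFixer Δ P →* (ZMod p)ˣ, ∀ g : orbitFixer Δ P, χ g = 1 →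
      ∀ h ∈ P, ∀ y ∈ orbit P x, (g : Perm α) (h y) = h ((g : Perm α) y) := by
  obtain ⟨c, hc, hcx⟩ := hP.exists_moving hx
  choose f hf using fun g : orbitFixer Δ P => hP.exists_pow_eq hc hx hcx (orbitFixer_conj g.2 hc)
  have hmem : ∀ i : ℕ, ∀ y ∈ orbit P x, (c ^ i) y ∈ orbit P x := fun i y hy => by
    rw [← orbit_eq_iff.mpr hy]; exact ⟨⟨c ^ i, pow_mem hc i⟩, rfl⟩
  have hpow : ∀ (g : orbitFixer Δ P) (j : ℕ), ∀ y ∈ orbit P x,
      ((g : Perm α) * c ^ j * (g : Perm α)⁻¹) y = (c ^ (f g * j)) y := by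
    intro g j
    induction j with
    | zero => intro y _; simp
    | succ j ih =>
      intro y hy
      have h1 : (g : Perm α) * c ^ (j + 1) * (g : Perm α)⁻¹ =
          ((g : Perm α) * c ^ j * (g : Perm α)⁻¹) * ((g : Perm α) * c * (g : Perm α)⁻¹) := by
        rw [pow_succ]; group
      rw [h1, Perm.mul_apply, hf g y hy, ih _ (hmem _ y hy), ← Perm.mul_apply, ← pow_add, Nat.mul_succ]
  have huniq : ∀ a b : ℕ, (∀ y ∈ orbit P x, (c ^ a) y = (c ^ b) y) → (a : ZMod p) = b := by
    intro a b hab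
    rcases le_total a b with h | h
    · have h' : (c ^ (b - a)) x = x := by
        apply (c ^ a).injective
        rw [← Perm.mul_apply, ← pow_add, Nat.add_sub_cancel' h]
        exact (hab x (mem_orbit_self x)).symm
      exact (ZMod.natCast_eq_natCast_iff' _ _ _).mpr (Nat.ModEq.symm ((Nat.modEq_iff_dvd' h).mpr (hP.pow_fix_dvd hc hcx h')).symm)
    · have h' : (c ^ (a - b)) x = x := by
        apply (c ^ b).injective
        rw [← Perm.mul_apply, ← pow_add, Nat.add_sub_cancel' h]
        exact hab x (mem_orbit_self x)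
      exact (ZMod.natCast_eq_natCast_iff' _ _ _).mpr ((Nat.modEq_iff_dvd' h).mpr (hP.pow_fix_dvd hc hcx h')).symm
  let φ : orbitFixer Δ P →* ZMod p :=
    { toFun := fun g => (f g : ZMod p)
      map_one' := by
        rw [← Nat.cast_one]
        refine huniq _ _ fun y hy => ?_
        rw [← hf 1 y hy]; simp
      map_mul' := fun g g' => by
        rw [← Nat.cast_mul]
        refine huniq _ _ fun y hy => ?_
        rw [← hf (g * g') y hy, ← hpow g (f g') y hy]
        have h2 : (g : Perm α)⁻¹ y ∈ orbit P x := hP.orbitFixer_apply (inv_mem g.2) hx hy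
        show ((g : Perm α) * (g' : Perm α) * c * ((g : Perm α) * (g' : Perm α))⁻¹) y = _
        rw [show (g : Perm α) * (g' : Perm α) * c * ((g : Perm α) * (g' : Perm α))⁻¹ =
          (g : Perm α) * ((g' : Perm α) * c * (g' : Perm α)⁻¹) * (g : Perm α)⁻¹ by group]
        simp only [Perm.mul_apply]
        rw [← hf g' _ h2]
        simp only [Perm.mul_apply] }
  refine ⟨φ.toHomUnits, fun g hg h hh y hy => ?_⟩
  have h1 : (f g : ZMod p) = ((1 : ℕ) : ZMod p) := by
    have := congrArg Units.val hg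
    simpa [φ] using this
  obtain ⟨i, hi⟩ := hP.exists_pow_eq hc hx hcx hh
  have hgy : (g : Perm α) y ∈ orbit P x := hP.orbitFixer_apply g.2 hx hy
  rw [hi y hy, hi _ hgy]
  have h2 := hpow g i _ hgy
  simp only [Perm.mul_apply, Perm.inv_def, Equiv.symm_apply_apply] at h2
  rw [h2]
  have h3 : f g * i % p = i % p := (ZMod.natCast_eq_natCast_iff' _ _ _).mp (by rw [Nat.cast_mul, h1]; simp)
  have h4 : ∀ n, c ^ n = c ^ (n % p) := fun n => by
    conv_lhs => rw [← Nat.mod_add_div n p, pow_add, pow_mul, hP.pow_prime hc, one_pow, mul_one]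
  rw [h4 (f g * i), h3, ← h4]

/-- Commutators of orbit-fixing elements centralise `P`. -/
theorem Orbits.commutator_centralizes (hP : Orbits p Δ P) :
    ⁅orbitFixer Δ P, orbitFixer Δ P⁆ ≤ Subgroup.centralizer (P : Set (Perm α)) := by
  rw [Subgroup.commutator_le]
  intro g hg g' hg'
  rw [Subgroup.mem_centralizer_iff]
  intro h hh
  have hu : ⁅g, g'⁆ ∈ orbitFixer Δ P :=
    mul_mem (mul_mem (mul_mem hg hg') (inv_mem hg)) (inv_mem hg')
  refine Equiv.ext fun y => ?_
  show h (⁅g, g'⁆ y) = ⁅g, g'⁆ (h y)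
  by_cases hy : y ∈ Δ
  · rw [hP.fix h hh y hy, hP.fix h hh _ ((hu.1 y).mpr hy)]
  · obtain ⟨χ, hχ⟩ := hP.exists_character hy
    exact (hχ ⟨_, hu⟩ (by
      have : (⟨_, hu⟩ : orbitFixer Δ P) = ⁅(⟨g, hg⟩ : orbitFixer Δ P), ⟨g', hg'⟩⁆ := rfl
      rw [this, map_commutatorElement, commutatorElement_eq_one_iff_mul_comm, mul_comm]) h hh y
      (mem_orbit_self y)).symm

/-- The `p`-th power of an orbit-fixing element centralising `P` is trivial off `Δ`. -/
theorem Orbits.pow_prime_apply (hP : Orbits p Δ P) {g : Perm α} (hg : g ∈ orbitFixer Δ P)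
    (hc : g ∈ Subgroup.centralizer (P : Set (Perm α))) {x : α} (hx : x ∉ Δ) : (g ^ p) x = x := by
  obtain ⟨⟨h, hh⟩, hgx⟩ := hP.orbitFixer_apply hg hx (mem_orbit_self (M := P) x)
  replace hgx : h x = g x := hgx
  have hcomm : Commute g h := (Subgroup.mem_centralizer_iff.mp hc h hh).symm
  have : ∀ j : ℕ, (g ^ j) x = (h ^ j) x := by
    intro j
    induction j with
    | zero => rfl
    | succ j ih =>
      rw [pow_succ, Perm.mul_apply, ← hgx, ← Perm.mul_apply, (hcomm.pow_left j).eq, Perm.mul_apply,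
        ih, ← Perm.mul_apply, ← pow_succ']
  rw [this p, hP.pow_prime hh]
  rfl

end H32.JordanR
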