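import Cfsg.Agent.H32.HalfFixReduce
import Cfsg.Agent.H1.CoprimeAction

/-!
A soluble complement generated by two conjugates of an element of prime order `p > 3` on a faithful
irreducible elementary abelian section: some other pair of conjugates covers the section.
-/

set_option autoImplicit false
set_option linter.style.haveILetI false

namespace H32.MaxPair

open scoped commutatorElement IsMulCommutative Pointwise

universe u

variable {Q : Type u} [Group Q] [Finite Q]

/-- A coprime action with `[W, F] = W` on an abelian group has no nontrivial fixed point. -/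
theorem eq_one_of_fixed {W F : Subgroup Q} [W.Normal] [IsMulCommutative W] {q : ℕ} (hq : q.Prime)
    (hexp : ∀ w ∈ W, w ^ q = 1) (hF : (Nat.card F).Coprime q) (hWF : W ≤ ⁅W, F⁆) {w : Q}
    (hw : w ∈ W) (hfix : ∀ f ∈ F, f * w * f⁻¹ = w) : w = 1 := by
  classical
  haveI := Fintype.ofFinite F
  let c : F → W → W := fun f u => MulAut.conjNormal (f : Q) u
  let ν : W →* W :=
    { toFun := fun u => ∏ f : F, c f u
      map_one' := Finset.prod_eq_one fun f _ => map_one _
      map_mul' := fun u v => by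
        rw [← Finset.prod_mul_distrib]
        exact Finset.prod_congr rfl fun f _ => map_mul _ _ _ }
  have hinv : ∀ (f : F) (u : W), ν (c f u) = ν u := fun f u => by
    refine Fintype.prod_equiv (Equiv.mulRight f) _ _ fun g => ?_
    show MulAut.conjNormal (g : Q) (MulAut.conjNormal (f : Q) u) = MulAut.conjNormal (g * f : Q) u
    rw [map_mul, MulAut.mul_apply]
  have hker : W ≤ ν.ker.map W.subtype := by
    refine hWF.trans ?_
    rw [Subgroup.commutator_le]
    intro u hu f hf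
    refine ⟨⟨u, hu⟩ * (c ⟨f, hf⟩ ⟨u, hu⟩)⁻¹, ?_, ?_⟩
    · rw [SetLike.mem_coe, MonoidHom.mem_ker, map_mul, map_inv, hinv, mul_inv_cancel]
    · show u * (f * u * f⁻¹)⁻¹ = ⁅u, f⁆
      simp only [commutatorElement_def]; group
  obtain ⟨w', hw', he⟩ := hker hw
  have hw'' : w' = ⟨w, hw⟩ := Subtype.ext he
  subst hw''
  have hone : ∀ f : F, c f ⟨w, hw⟩ = ⟨w, hw⟩ := fun f => Subtype.ext (hfix f f.2)
  have h1 : ν ⟨w, hw⟩ = ⟨w, hw⟩ ^ Nat.card F := by
    show ∏ f : F, c f ⟨w, hw⟩ = _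
    rw [Finset.prod_congr rfl fun f _ => hone f, Finset.prod_const, Finset.card_univ,
      Nat.card_eq_fintype_card]
  rw [MonoidHom.mem_ker.mp hw'] at h1
  have h2 : w ^ Nat.card F = 1 := (congrArg Subtype.val h1).symm
  rw [← orderOf_eq_one_iff]
  exact Nat.eq_one_of_dvd_coprimes hF (orderOf_dvd_of_pow_eq_one h2)
    (orderOf_dvd_of_pow_eq_one (hexp w hw))

set_option maxHeartbeats 1000000 in
/-- The covering pair. -/
theorem exists_cover [Group.IsSolvable Q] {p q r : ℕ} (hp : p.Prime) (hp3 : 3 < p) [Fact q.Prime]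
    [Fact r.Prime] (hrq : r ≠ q) (W A F : Subgroup Q) [W.Normal] [IsMulCommutative W]
    (hexp : ∀ w ∈ W, w ^ q = 1) (hWne : W ≠ ⊥) (htop : W ⊔ A = ⊤) (hWA : W ⊓ A = ⊥) (hFA : F ≤ A)
    (hFn : A ≤ Subgroup.normalizer (F : Set Q)) (hFr : IsPGroup r F)
    (hWF : ∀ w ∈ W, (∀ f ∈ F, f * w * f⁻¹ = w) → w = 1)
    (hirr : ∀ U : Subgroup Q, U ≤ W → A ≤ Subgroup.normalizer (U : Set Q) → U = ⊥ ∨ U = W)
    (x : Q) (hxA : x ∈ A) (hxp : x ^ p = 1) (a : Q) (haA : a ∈ A)
    (hgen : A ≤ Subgroup.closure {x, a * x * a⁻¹}) :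
    ∃ w ∈ W, W ≤ Subgroup.closure {x, w * (a * x * a⁻¹) * w⁻¹} := by
  classical
  have hcW : ∀ u ∈ W, ∀ v ∈ W, Commute u v := fun u hu v hv =>
    congrArg Subtype.val ((inferInstance : IsMulCommutative W).is_comm.comm ⟨u, hu⟩ ⟨v, hv⟩)
  set y := a * x * a⁻¹ with hy
  have hyA : y ∈ A := mul_mem (mul_mem haA hxA) (inv_mem haA)
  haveI : Group.IsSolvable A :=
    Group.isSolvable_of_isSolvable_injective (f := A.subtype) A.subtype_injective
  -- the representation of `A` on `W`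
  haveI : Module (ZMod q) (Additive W) :=
    AddCommGroup.zmodModule (fun v => by
      apply Additive.toMul.injective
      exact Subtype.ext (by simpa using hexp _ (Additive.toMul v).2))
  let lin : A →* Module.End (ZMod q) (Additive W) :=
    { toFun := fun g =>
        (MonoidHom.toAdditive (MulAut.conjNormal (g : Q) : MulAut W).toMonoidHom).toZModLinearMap q
      map_one' := LinearMap.ext fun v => Additive.toMul.injective (Subtype.ext (by
        show (1 : Q) * _ * (1 : Q)⁻¹ = _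
        simp))
      map_mul' := fun g h => LinearMap.ext fun v => Additive.toMul.injective (Subtype.ext (by
        show (g * h : Q) * (Additive.toMul v : W) * (g * h : Q)⁻¹ =
          (g : Q) * ((h : Q) * (Additive.toMul v : W) * (h : Q)⁻¹) * (g : Q)⁻¹
        group)) }
  have hlin : ∀ (g : A) (v : Additive W), ((Additive.toMul (lin g v) : W) : Q) =
      g * (Additive.toMul v : W) * (g : Q)⁻¹ := fun g v => rfl
  let ρ := QuotientGroup.lift lin.ker lin le_rfl
  have hρ : Function.Injective ρ := by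
    rw [← MonoidHom.ker_eq_bot_iff, eq_bot_iff]
    intro g hg
    obtain ⟨h, rfl⟩ := QuotientGroup.mk'_surjective lin.ker g
    exact Subgroup.mem_bot.mpr ((QuotientGroup.eq_one_iff h).mpr hg)
  haveI : Group.IsSolvable (A ⧸ lin.ker) :=
    Group.isSolvable_of_surjective (QuotientGroup.mk'_surjective lin.ker)
  haveI : Nontrivial (Additive W) := by
    obtain ⟨v, hv⟩ := Subgroup.ne_bot_iff_exists_ne_one.mp hWne
    exact ⟨⟨Additive.ofMul v, 0, fun h => hv (congrArg Additive.toMul h)⟩⟩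
  have hNx : Subgroup.normalClosure {(⟨x, hxA⟩ : A)} = ⊤ := by
    rw [eq_top_iff]
    intro g _
    have hle : Subgroup.closure {x, y} ≤
        (Subgroup.normalClosure {(⟨x, hxA⟩ : A)}).map A.subtype := by
      have hxn : (⟨x, hxA⟩ : A) ∈ Subgroup.normalClosure ({(⟨x, hxA⟩ : A)} : Set A) :=
        Subgroup.subset_normalClosure (Set.mem_singleton _)
      rw [Subgroup.closure_le]
      rintro z (rfl | hz)
      · exact ⟨_, hxn, rfl⟩
      · rw [Set.mem_singleton_iff] at hz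
        subst hz
        exact ⟨⟨a, haA⟩ * ⟨x, hxA⟩ * ⟨a, haA⟩⁻¹,
          (Subgroup.normalClosure_normal (s := ({(⟨x, hxA⟩ : A)} : Set A))).conj_mem _ hxn _, rfl⟩
    obtain ⟨g', hg', he⟩ := hle (hgen g.2)
    exact A.subtype_injective he ▸ hg'
  set xb : A ⧸ lin.ker := QuotientGroup.mk' lin.ker ⟨x, hxA⟩ with hxb
  have hxb1 : xb ≠ 1 := by
    intro h
    have hle : Subgroup.normalClosure {(⟨x, hxA⟩ : A)} ≤ lin.ker :=
      Subgroup.normalClosure_le_normal
        (Set.singleton_subset_iff.mpr ((QuotientGroup.eq_one_iff _).mp h))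
    rw [hNx] at hle
    apply hWne
    rw [eq_bot_iff]
    intro v hv
    refine Subgroup.mem_bot.mpr (hWF v hv fun f hf => ?_)
    have h1 : lin ⟨f, hFA hf⟩ = 1 := MonoidHom.mem_ker.mp (hle (Subgroup.mem_top _))
    have h2 := hlin ⟨f, hFA hf⟩ (Additive.ofMul ⟨v, hv⟩)
    rw [h1, Module.End.one_apply] at h2
    exact h2.symm
  have hhalf := H32.HalfFix.bound (G := A ⧸ lin.ker) q hp hp3 xb
    (by
      rw [hxb, ← map_pow, show (⟨x, hxA⟩ : A) ^ p = 1 from Subtype.ext hxp, map_one])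
    hxb1
    (by
      rw [hxb, ← Set.image_singleton, ← Subgroup.map_normalClosure _ _
        (QuotientGroup.mk'_surjective _), hNx,
        Subgroup.map_top_of_surjective _ (QuotientGroup.mk'_surjective _)])
    ρ hρ (by
      intro U hU
      let U' : Subgroup Q := (U.toAddSubgroup.toSubgroup').map W.subtype
      have hmem : ∀ v, v ∈ U' ↔ ∃ u ∈ U, ((Additive.toMul u : W) : Q) = v := fun v =>
        ⟨fun ⟨b, hb, he⟩ => ⟨Additive.ofMul b, hb, he⟩, fun ⟨b, hb, he⟩ => ⟨Additive.toMul b, hb, he⟩⟩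
      rcases hirr U' (Subgroup.map_subtype_le _) (fun g hg => by
        rw [Subgroup.mem_normalizer_iff]
        intro v
        have key : ∀ g ∈ A, ∀ v ∈ U', g * v * g⁻¹ ∈ U' := by
          intro g hg v hv
          obtain ⟨u, hu, rfl⟩ := (hmem v).mp hv
          exact (hmem _).mpr ⟨lin ⟨g, hg⟩ u, hU (QuotientGroup.mk' _ ⟨g, hg⟩) u hu, hlin _ u⟩
        refine ⟨key g hg v, fun h => ?_⟩
        simpa [mul_assoc] using key g⁻¹ (inv_mem hg) _ h) with h | h
      · left
        rw [eq_bot_iff]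
        intro u hu
        have h1 : ((Additive.toMul u : W) : Q) = 1 :=
          Subgroup.mem_bot.mp (h ▸ (hmem _).mpr ⟨u, hu, rfl⟩)
        exact (Submodule.mem_bot _).mpr (Additive.toMul.injective (Subtype.ext h1))
      · right
        rw [eq_top_iff]
        intro u _
        obtain ⟨u', hu', he⟩ := (hmem _).mp (h.ge (Additive.toMul u).2)
        exact Additive.toMul.injective (Subtype.ext he) ▸ hu')
  -- fixed points
  set n := Module.finrank (ZMod q) (Additive W) with hn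
  set T := ρ xb - 1 with hT
  set f := Module.finrank (ZMod q) (LinearMap.ker T) with hf
  have hcardW : Nat.card W = q ^ n := by
    rw [hn, Nat.card_congr (Additive.ofMul (α := W)), Module.natCard_eq_pow_finrank (K := ZMod q),
      Nat.card_zmod]
  set Cx := W ⊓ Subgroup.centralizer ({x} : Set Q) with hCx
  set Cy := W ⊓ Subgroup.centralizer ({y} : Set Q) with hCy
  have hcardx : Nat.card Cx = q ^ f := by
    have h1 : Nat.card (LinearMap.ker T) = q ^ f := by
      rw [hf, Module.natCard_eq_pow_finrank (K := ZMod q), Nat.card_zmod]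
    rw [← h1]
    have hmemT : ∀ v : Additive W, v ∈ LinearMap.ker T ↔
        x * (Additive.toMul v : W) * x⁻¹ = ((Additive.toMul v : W) : Q) := fun v => by
      rw [LinearMap.mem_ker, hT, LinearMap.sub_apply, sub_eq_zero, Module.End.one_apply]
      constructor
      · intro h; exact (hlin ⟨x, hxA⟩ v).symm.trans (congrArg (fun z : Additive W => ((Additive.toMul z : W) : Q)) h)
      · intro h; exact Additive.toMul.injective (Subtype.ext ((hlin ⟨x, hxA⟩ v).trans h))
    refine Nat.card_congr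
      { toFun := fun v => ⟨Additive.ofMul ⟨v, v.2.1⟩, (hmemT _).mpr (by
          show x * (v : Q) * x⁻¹ = v
          exact mul_inv_eq_iff_eq_mul.mpr (Subgroup.mem_centralizer_singleton_iff.mp v.2.2).symm)⟩
        invFun := fun v => ⟨(Additive.toMul (v : Additive W) : W), (Additive.toMul (v : Additive W)).2,
          Subgroup.mem_centralizer_singleton_iff.mpr (mul_inv_eq_iff_eq_mul.mp ((hmemT _).mp v.2)).symm⟩
        left_inv := fun v => rfl
        right_inv := fun v => rfl }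
  have hcardy : Nat.card Cy = q ^ f := by
    have e : Cy = Cx.map (MulAut.conj a).toMonoidHom := by
      ext v
      simp only [hCy, hCx, Subgroup.mem_map, Subgroup.mem_inf, Subgroup.mem_centralizer_singleton_iff]
      constructor
      · rintro ⟨hv, hc⟩
        refine ⟨a⁻¹ * v * a, ⟨by simpa using (inferInstance : W.Normal).conj_mem v hv a⁻¹, ?_⟩,
          by show a * (a⁻¹ * v * a) * a⁻¹ = v; group⟩
        calc a⁻¹ * v * a * x = a⁻¹ * (v * y) * a := by rw [hy]; group
          _ = a⁻¹ * (y * v) * a := by rw [hc]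
          _ = _ := by rw [hy]; group
      · rintro ⟨u, ⟨hu, hc⟩, rfl⟩
        refine ⟨(inferInstance : W.Normal).conj_mem u hu a, ?_⟩
        show a * u * a⁻¹ * y = y * (a * u * a⁻¹)
        calc a * u * a⁻¹ * y = a * (u * x) * a⁻¹ := by rw [hy]; group
          _ = a * (x * u) * a⁻¹ := by rw [hc]
          _ = _ := by rw [hy]; group
    rw [e, Subgroup.card_map_of_injective (MulAut.conj a).injective, hcardx]
  obtain ⟨w, hwW, hw⟩ : ∃ w ∈ W, ∀ u ∈ Cx, ∀ v ∈ Cy, u * v ≠ w := by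
    by_contra h
    push Not at h
    have hsurj : Function.Surjective fun z : Cx × Cy =>
        (⟨(z.1 : Q) * z.2, mul_mem z.1.2.1 z.2.2.1⟩ : W) := fun w => by
      obtain ⟨u, hu, v, hv, he⟩ := h w w.2
      exact ⟨(⟨u, hu⟩, ⟨v, hv⟩), Subtype.ext he⟩
    have hle := Nat.card_le_card_of_surjective _ hsurj
    rw [Nat.card_prod, hcardW, hcardx, hcardy, ← pow_add] at hle
    have := (Nat.pow_le_pow_iff_right (Fact.out : q.Prime).one_lt).mp hle
    omega
  refine ⟨w, hwW, ?_⟩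
  set B := Subgroup.closure {x, w * y * w⁻¹} with hB
  have hxB : x ∈ B := Subgroup.subset_closure (Set.mem_insert _ _)
  have hyB : w * y * w⁻¹ ∈ B := Subgroup.subset_closure (Set.mem_insert_of_mem _ rfl)
  have hBW : W ⊔ B = ⊤ := by
    rw [eq_top_iff, ← htop]
    refine sup_le le_sup_left (hgen.trans ((Subgroup.closure_le _).mpr ?_))
    rintro z (rfl | hz)
    · exact Subgroup.mem_sup_right hxB
    · rw [Set.mem_singleton_iff] at hz
      subst hz
      have e : y = w⁻¹ * (w * y * w⁻¹) * w := by group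
      rw [SetLike.mem_coe, e]
      exact mul_mem (mul_mem (Subgroup.mem_sup_left (inv_mem hwW)) (Subgroup.mem_sup_right hyB))
        (Subgroup.mem_sup_left hwW)
  have hdec : ∀ (T : Subgroup Q) (g : Q), g ∈ W ⊔ T → ∃ u ∈ W, ∃ t ∈ T, g = u * t := by
    intro T g hg
    rw [← SetLike.mem_coe, Subgroup.normal_mul] at hg
    obtain ⟨u, hu, t, ht, rfl⟩ := hg
    exact ⟨u, hu, t, ht, rfl⟩
  have hUn : A ≤ Subgroup.normalizer ((B ⊓ W : Subgroup Q) : Set Q) := by
    have key : ∀ g ∈ A, ∀ v ∈ B ⊓ W, g * v * g⁻¹ ∈ B ⊓ W := by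
      intro g hg v hv
      obtain ⟨u, hu, b, hb, rfl⟩ := hdec B g (hBW.ge (Subgroup.mem_top g))
      have hbv : b * v * b⁻¹ ∈ B ⊓ W :=
        ⟨B.mul_mem (B.mul_mem hb hv.1) (B.inv_mem hb), (inferInstance : W.Normal).conj_mem v hv.2 b⟩
      have : u * b * v * (u * b)⁻¹ = b * v * b⁻¹ := by
        calc u * b * v * (u * b)⁻¹ = u * (b * v * b⁻¹) * u⁻¹ := by group
          _ = _ := by rw [(hcW u hu _ hbv.2).eq, mul_inv_cancel_right]
      rw [this]; exact hbv
    intro g hg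
    rw [Subgroup.mem_normalizer_iff]
    exact fun v => ⟨key g hg v, fun h => by simpa [mul_assoc] using key g⁻¹ (inv_mem hg) _ h⟩
  rcases hirr (B ⊓ W) inf_le_right hUn with hU | hU
  swap
  · exact inf_eq_right.mp hU
  exfalso
  -- `B` is a complement; it is then conjugate to `A`
  set π := QuotientGroup.mk' W with hπ
  set S := W ⊔ F with hS
  have hAS : A ≤ Subgroup.normalizer (S : Set Q) := by
    have key : ∀ g ∈ A, ∀ s ∈ S, g * s * g⁻¹ ∈ S := by
      intro g hg s hs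
      obtain ⟨u, hu, t, ht, rfl⟩ := hdec F s hs
      rw [show g * (u * t) * g⁻¹ = (g * u * g⁻¹) * (g * t * g⁻¹) by group]
      exact mul_mem (Subgroup.mem_sup_left ((inferInstance : W.Normal).conj_mem u hu g))
        (Subgroup.mem_sup_right ((Subgroup.mem_normalizer_iff.mp (hFn hg) t).mp ht))
    intro g hg
    rw [Subgroup.mem_normalizer_iff]
    exact fun v => ⟨key g hg v, fun h => by simpa [mul_assoc] using key g⁻¹ (inv_mem hg) _ h⟩
  have hSn : S.Normal := by
    rw [← Subgroup.normalizer_eq_top_iff, eq_top_iff, ← htop]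
    exact sup_le ((le_sup_left : W ≤ S).trans Subgroup.le_normalizer) hAS
  set F' := B ⊓ S with hF'
  have hinjW : ∀ T : Subgroup Q, T ⊓ W = ⊥ → Nat.card (T.map π) = Nat.card T := by
    intro T hT
    rw [← Subgroup.relIndex_ker, QuotientGroup.ker_mk', ← Subgroup.inf_relIndex_right,
      inf_comm, hT, Subgroup.relIndex_bot_left]
  have hmapF : ∀ T : Subgroup Q, T ≤ S → T.map π ≤ F.map π := by
    rintro T hT _ ⟨t, ht, rfl⟩
    obtain ⟨u, hu, f', hf', rfl⟩ := hdec F t (hT ht)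
    refine ⟨f', hf', ?_⟩
    rw [map_mul, show π u = 1 from (QuotientGroup.eq_one_iff u).mpr hu, one_mul]
  have hFW : F ⊓ W = ⊥ :=
    eq_bot_iff.mpr (le_of_le_of_eq (le_inf inf_le_right (inf_le_left.trans hFA)) hWA)
  have hF'W : F' ⊓ W = ⊥ :=
    eq_bot_iff.mpr (le_of_le_of_eq (le_inf (inf_le_left.trans inf_le_left) inf_le_right) hU)
  have hF'map : F'.map π = F.map π := by
    refine le_antisymm (hmapF F' inf_le_right) ?_
    rintro _ ⟨f', hf', rfl⟩
    obtain ⟨u, hu, b, hb, he⟩ := hdec B f' (hBW.ge (Subgroup.mem_top f'))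
    have hbS : b ∈ S := by
      rw [show b = u⁻¹ * f' by rw [he]; group]
      exact mul_mem (Subgroup.mem_sup_left (inv_mem hu)) (Subgroup.mem_sup_right hf')
    refine ⟨b, ⟨hb, hbS⟩, ?_⟩
    rw [he, map_mul, show π u = 1 from (QuotientGroup.eq_one_iff u).mpr hu, one_mul]
  have hcardF' : Nat.card F' = Nat.card F := by rw [← hinjW F' hF'W, hF'map, hinjW F hFW]
  obtain ⟨k, hk⟩ := hFr.exists_card_eq
  have hWq : IsPGroup q W := fun v => ⟨1, Subtype.ext (by simpa using hexp _ v.2)⟩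
  have hsyl : ∀ T : Subgroup Q, T ≤ S → Nat.card T = r ^ k → ∀ P : Sylow r S,
      T.subgroupOf S ≤ P → T.subgroupOf S = P := by
    intro T hT hTk P hle
    refine Subgroup.eq_of_le_of_card_ge hle ?_
    set P' := (P : Subgroup S).map S.subtype
    have hP'W : P' ⊓ W = ⊥ := disjoint_iff.mp
      (IsPGroup.disjoint_of_ne r q hrq _ _ (P.isPGroup'.map _) hWq)
    have h1 : Nat.card P' ≤ Nat.card F := by
      rw [← hinjW P' hP'W, ← hinjW F hFW]
      exact Nat.le_of_dvd Nat.card_pos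
        (Subgroup.card_dvd_of_le (hmapF P' (Subgroup.map_subtype_le _)))
    rw [Subgroup.card_subtype] at h1
    rw [Nat.card_congr (Subgroup.subgroupOfEquivOfLe hT).toEquiv, hTk, ← hk]
    exact h1
  obtain ⟨P₁, hP₁⟩ := (IsPGroup.of_card (n := k) (by
    rw [Nat.card_congr (Subgroup.subgroupOfEquivOfLe (le_sup_right : F ≤ S)).toEquiv, hk]) :
      IsPGroup r (F.subgroupOf S)).exists_le_sylow
  obtain ⟨P₂, hP₂⟩ := (IsPGroup.of_card (n := k) (by
    rw [Nat.card_congr (Subgroup.subgroupOfEquivOfLe (inf_le_right : F' ≤ S)).toEquiv, hcardF',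
      hk]) : IsPGroup r (F'.subgroupOf S)).exists_le_sylow
  have e1 := hsyl F le_sup_right hk P₁ hP₁
  have e2 := hsyl F' inf_le_right (hcardF'.trans hk) P₂ hP₂
  obtain ⟨g, hg⟩ := MulAction.exists_smul_eq S P₁ P₂
  obtain ⟨u, huW, f₀, hf₀, hgf⟩ := hdec F g g.2
  have hconj : ∀ z, z ∈ F' → u⁻¹ * z * u ∈ F := by
    intro z hz
    have hzP : (⟨z, hz.2⟩ : S) ∈ (P₂ : Subgroup S) := e2 ▸ Subgroup.mem_subgroupOf.mpr hz
    rw [← hg] at hzP
    obtain ⟨z', hz', he⟩ := hzP
    have hz'' : ((z' : S) : Q) ∈ F := Subgroup.mem_subgroupOf.mp (e1.ge hz')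
    have he' : (g : Q) * z' * (g : Q)⁻¹ = z := congrArg Subtype.val he
    rw [← he', hgf, show u⁻¹ * (u * f₀ * (z' : Q) * (u * f₀)⁻¹) * u = f₀ * z' * f₀⁻¹ by group]
    exact mul_mem (mul_mem hf₀ hz'') (inv_mem hf₀)
  have hFeq : F'.map (MulAut.conj u⁻¹).toMonoidHom = F := by
    refine Subgroup.eq_of_le_of_card_ge ?_ ?_
    · rintro _ ⟨z, hz, rfl⟩
      have h := hconj z hz
      show u⁻¹ * z * u⁻¹⁻¹ ∈ F
      rwa [inv_inv]
    · rw [Subgroup.card_map_of_injective (MulAut.conj u⁻¹).injective, hcardF']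
  have hBA : ∀ b ∈ B, u⁻¹ * b * u ∈ A := by
    intro b hb
    have hnorm : ∀ f' ∈ F, (u⁻¹ * b * u) * f' * (u⁻¹ * b * u)⁻¹ ∈ F := by
      intro f' hf'
      rw [← hFeq] at hf'
      obtain ⟨z, hz, rfl⟩ := hf'
      show (u⁻¹ * b * u) * (u⁻¹ * z * u⁻¹⁻¹) * (u⁻¹ * b * u)⁻¹ ∈ F
      rw [show (u⁻¹ * b * u) * (u⁻¹ * z * u⁻¹⁻¹) * (u⁻¹ * b * u)⁻¹ = u⁻¹ * (b * z * b⁻¹) * u by group]
      exact hconj _ ⟨B.mul_mem (B.mul_mem hb hz.1) (B.inv_mem hb), hSn.conj_mem z hz.2 b⟩
    obtain ⟨c, hc, a', ha', he⟩ := hdec A (u⁻¹ * b * u) (htop.ge (Subgroup.mem_top _))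
    have hc1 : c = 1 := by
      refine hWF c hc fun f' hf' => ?_
      have hf'' : a'⁻¹ * f' * a' ∈ F := by
        simpa using (Subgroup.mem_normalizer_iff.mp (hFn (inv_mem ha')) f').mp hf'
      have h1 := hnorm _ hf''
      rw [he, show c * a' * (a'⁻¹ * f' * a') * (c * a')⁻¹ = c * f' * c⁻¹ by group] at h1
      have h2 : c * f' * c⁻¹ * f'⁻¹ ∈ F := mul_mem h1 (inv_mem hf')
      have h3 : c * f' * c⁻¹ * f'⁻¹ ∈ W := by
        rw [show c * f' * c⁻¹ * f'⁻¹ = c * (f' * c⁻¹ * f'⁻¹) by group]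
        exact mul_mem hc ((inferInstance : W.Normal).conj_mem _ (inv_mem hc) f')
      have h4 : c * f' * c⁻¹ * f'⁻¹ = 1 := Subgroup.mem_bot.mp (hFW.le ⟨h2, h3⟩)
      rw [mul_inv_eq_one, mul_inv_eq_iff_eq_mul] at h4
      rw [mul_inv_eq_iff_eq_mul]
      exact h4.symm
    rw [he, hc1, one_mul]; exact ha'
  have hfix : ∀ z ∈ A, ∀ v ∈ W, v⁻¹ * z * v ∈ A → v * z = z * v := by
    intro z hz v hv h
    have h1 : v⁻¹ * z * v * z⁻¹ ∈ W ⊓ A := by
      refine ⟨?_, A.mul_mem h (A.inv_mem hz)⟩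
      rw [show v⁻¹ * z * v * z⁻¹ = v⁻¹ * (z * v * z⁻¹) by group]
      exact W.mul_mem (W.inv_mem hv) ((inferInstance : W.Normal).conj_mem v hv z)
    rw [hWA, Subgroup.mem_bot, mul_inv_eq_one, mul_assoc, inv_mul_eq_iff_eq_mul] at h1
    exact h1.symm
  have hu : u ∈ Cx := ⟨huW, Subgroup.mem_centralizer_singleton_iff.mpr
    (hfix x hxA u huW (hBA x hxB))⟩
  have hv : u⁻¹ * w ∈ Cy := by
    refine ⟨W.mul_mem (W.inv_mem huW) hwW, Subgroup.mem_centralizer_singleton_iff.mpr ?_⟩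
    have h := hBA _ hyB
    have h' := hfix y hyA (w⁻¹ * u) (mul_mem (inv_mem hwW) huW) (by
      rw [show (w⁻¹ * u)⁻¹ * y * (w⁻¹ * u) = u⁻¹ * (w * y * w⁻¹) * u by group]; exact h)
    calc u⁻¹ * w * y = (w⁻¹ * u)⁻¹ * (y * (w⁻¹ * u)) * (w⁻¹ * u)⁻¹ := by group
      _ = (w⁻¹ * u)⁻¹ * ((w⁻¹ * u) * y) * (w⁻¹ * u)⁻¹ := by rw [h']
      _ = _ := by group
  exact hw u hu _ hv (by group)

end H32.MaxPair
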