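import Cfsg.Agent.H1.Cores
import Cfsg.Agent.H3.MinNormal
import Cfsg.Agent.H1.CoprimeAction
import Cfsg.Agent.H32.PClosed
import Cfsg.Prelude.Def_Transfer
import Mathlib.Algebra.Module.ZMod
import Mathlib.GroupTheory.PGroup
import Mathlib.FieldTheory.Finite.Basic

/-! Structure of non-simple minimal non-`p`-closed groups. -/

set_option autoImplicit false

namespace H32

open scoped commutatorElement

universe u

/-- An irreducible automorphism of prime order `p` of an additive group of exponent `q`. -/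
theorem card_le_of_irreducible_end {V : Type*} [AddCommGroup V] [Finite V] (σ : AddMonoid.End V)
    {p q e : ℕ} [Fact q.Prime] (hp : σ ^ p = 1) (hq : ∀ v : V, q • v = 0) (he : (p : ℤ) ∣ (q : ℤ) ^ e - 1)
    (he0 : e ≠ 0) (hirr : ∀ W : AddSubgroup V, (∀ w ∈ W, σ w ∈ W) → W = ⊥ ∨ W = ⊤) :
    Nat.card V ≤ q ^ e := by
  classical
  rcases subsingleton_or_nontrivial V with hV | hV
  · rw [Nat.card_unique]; exact Nat.one_le_pow _ _ (Fact.out : q.Prime).pos
  set K := Subring.closure ({σ} : Set (AddMonoid.End V))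
  have hσK : σ ∈ K := Subring.subset_closure rfl
  letI : CommRing K := Subring.closureCommRingOfComm (fun a ha b hb => by rw [ha, hb])
  haveI : Nontrivial (AddMonoid.End V) := by
    obtain ⟨v, hv⟩ := exists_ne (0 : V)
    exact ⟨⟨1, 0, fun h => hv (DFunLike.congr_fun h v)⟩⟩
  have hcomm : ∀ k ∈ K, k * σ = σ * k := fun k hk => by
    have := mul_comm (⟨k, hk⟩ : K) ⟨σ, hσK⟩
    exact congrArg Subtype.val this
  have hinj : ∀ k ∈ K, k ≠ 0 → ∀ v, k v = 0 → v = 0 := by
    intro k hk hk0 v hv
    let W : AddSubgroup V := AddMonoidHom.ker k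
    rcases hirr W (fun w hw => by
      show k (σ w) = 0
      have := DFunLike.congr_fun (hcomm k hk) w
      rw [show k (σ w) = (k * σ) w from rfl, this]
      show σ (k w) = 0
      rw [show k w = 0 from hw, map_zero]) with h | h
    · have : v ∈ W := hv
      rw [h] at this; exact this
    · exfalso
      exact hk0 (AddMonoidHom.ext fun w => (h ▸ AddSubgroup.mem_top w : w ∈ W))
  haveI : NoZeroDivisors K := ⟨fun {a b} hab => by
    by_contra h
    push Not at h
    obtain ⟨ha, hb⟩ := h
    have ha' : (a : AddMonoid.End V) ≠ 0 := fun e => ha (Subtype.ext e)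
    obtain ⟨v, hv⟩ : ∃ v, (b : AddMonoid.End V) v ≠ 0 := by
      by_contra hall
      push Not at hall
      exact hb (Subtype.ext (AddMonoidHom.ext hall))
    exact hv (hinj a a.2 ha' _ (DFunLike.congr_fun (congrArg Subtype.val hab) v))⟩
  haveI : Nontrivial K := ⟨⟨0, 1, fun h => zero_ne_one (congrArg Subtype.val h)⟩⟩
  haveI : IsDomain K := NoZeroDivisors.to_isDomain K
  obtain ⟨v₀, hv₀⟩ := exists_ne (0 : V)
  let ev : K →+ V :=
    { toFun := fun k => (k : AddMonoid.End V) v₀
      map_zero' := rfl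
      map_add' := fun a b => rfl }
  have hevinj : Function.Injective ev := by
    rw [injective_iff_map_eq_zero]
    intro k hk
    by_contra h
    exact hv₀ (hinj k k.2 (fun e => h (Subtype.ext e)) v₀ hk)
  have hevsurj : Function.Surjective ev := by
    rcases hirr ev.range (by
      rintro w ⟨k, rfl⟩
      exact ⟨⟨σ, hσK⟩ * k, rfl⟩) with h | h
    · have : ev 1 ∈ ev.range := ⟨1, rfl⟩
      rw [h] at this
      exact absurd this hv₀
    · intro w
      exact (h.ge (AddSubgroup.mem_top w) : w ∈ ev.range)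
  haveI : Finite K := Finite.of_injective ev hevinj
  rw [← Nat.card_congr (Equiv.ofBijective ev ⟨hevinj, hevsurj⟩)]
  haveI : CharP K q := by
    refine (CharP.charP_iff_prime_eq_zero (Fact.out : q.Prime)).mpr (Subtype.ext ?_)
    refine AddMonoidHom.ext fun v => ?_
    show ((q : AddMonoid.End V)) v = 0
    rw [AddMonoid.End.natCast_apply, hq]
  haveI : ExpChar K q := ExpChar.prime (Fact.out : q.Prime)
  have hqe : 1 ≤ q ^ e := Nat.one_le_pow _ _ (Fact.out : q.Prime).pos
  obtain ⟨t, ht⟩ : p ∣ q ^ e - 1 := by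
    have : ((p : ℤ)) ∣ ((q ^ e - 1 : ℕ) : ℤ) := by rw [Nat.cast_sub hqe]; simpa using he
    exact_mod_cast this
  have hfix : ∀ k : K, k ^ q ^ e = k := by
    intro k
    obtain ⟨k, hk⟩ := k
    induction hk using Subring.closure_induction with
    | mem x hx =>
      have hx' : x = σ := hx
      subst x
      refine Subtype.ext ?_
      show σ ^ q ^ e = σ
      rw [show q ^ e = 1 + p * t by omega, pow_add, pow_one, pow_mul, hp, one_pow, mul_one]
    | zero =>
      show (0 : K) ^ q ^ e = 0
      exact zero_pow (by omega)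
    | one => exact one_pow _
    | add x y hx hy ihx ihy =>
      show ((⟨x, hx⟩ : K) + ⟨y, hy⟩) ^ q ^ e = ⟨x, hx⟩ + ⟨y, hy⟩
      rw [add_pow_expChar_pow, ihx, ihy]
    | neg x hx ihx =>
      show (-(⟨x, hx⟩ : K)) ^ q ^ e = -⟨x, hx⟩
      have h0 : ((⟨x, hx⟩ : K) + -⟨x, hx⟩) ^ q ^ e = 0 := by
        rw [add_neg_cancel]; exact zero_pow (by omega)
      rw [add_pow_expChar_pow, ihx] at h0
      exact eq_neg_of_add_eq_zero_right h0
    | mul x y hx hy ihx ihy =>
      show ((⟨x, hx⟩ : K) * ⟨y, hy⟩) ^ q ^ e = ⟨x, hx⟩ * ⟨y, hy⟩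
      rw [mul_pow, ihx, ihy]
  haveI := Fintype.ofFinite K
  rw [Nat.card_eq_fintype_card]
  have hsub : (Finset.univ.erase (0 : K)) ⊆ (Polynomial.nthRoots (q ^ e - 1) (1 : K)).toFinset := by
    intro k hk
    have hk0 : k ≠ 0 := (Finset.mem_erase.mp hk).1
    rw [Multiset.mem_toFinset, Polynomial.mem_nthRoots (by
      have := Nat.one_lt_pow he0 (Fact.out : q.Prime).one_lt; omega)]
    refine mul_left_cancel₀ hk0 ?_
    rw [← pow_succ', Nat.sub_add_cancel hqe, hfix, mul_one]
  have h1 := ((Finset.card_le_card hsub).trans (Multiset.toFinset_card_le _)).trans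
    (Polynomial.card_nthRoots (q ^ e - 1) (1 : K))
  rw [Finset.card_erase_of_mem (Finset.mem_univ _), Finset.card_univ] at h1
  omega

theorem pClosed_of_quotient {G : Type u} [Group G] [Finite G] {p : ℕ} [Fact p.Prime] (N : Subgroup G)
    [N.Normal] (hN : IsPGroup p N) (h : Cfsg.IsPClosed p (G ⧸ N)) : Cfsg.IsPClosed p G := by
  intro P
  have hNP : N ≤ (P : Subgroup G) := hN.le_sylow_of_normal P
  have hf : Function.Surjective (QuotientGroup.mk' N) := QuotientGroup.mk'_surjective N
  have h1 : ((P.mapSurjective hf : Sylow p (G ⧸ N)) : Subgroup (G ⧸ N)).Normal := h _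
  have h2 := h1.comap (QuotientGroup.mk' N)
  rwa [Sylow.coe_mapSurjective, Subgroup.comap_map_eq, QuotientGroup.ker_mk', sup_eq_left.mpr hNP] at h2

theorem le_normalizer_of_pClosed_sup {G : Type u} [Group G] [Finite G] {p : ℕ} [Fact p.Prime]
    {Q K : Subgroup G} (hQ : IsPGroup p Q) (hK : ¬ p ∣ Nat.card K) (hQK : Q ≤ Subgroup.normalizer (K : Set G))
    (hc : Cfsg.IsPClosed p ↥(Q ⊔ K)) : K ≤ Subgroup.normalizer (Q : Set G) := by
  obtain ⟨i, hi⟩ := IsPGroup.iff_card.mp hQ
  have hdvd : Nat.card ↥(Q ⊔ K) ∣ Nat.card Q * Nat.card K := by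
    haveI : (K.subgroupOf (Q ⊔ K)).Normal :=
      (Subgroup.normal_subgroupOf_iff_le_normalizer le_sup_right).mpr (sup_le hQK Subgroup.le_normalizer)
    have h := H1.card_sup_dvd_mul (Q.subgroupOf (Q ⊔ K)) (K.subgroupOf (Q ⊔ K))
    rw [← Subgroup.subgroupOf_sup le_sup_left le_sup_right, Subgroup.subgroupOf_self, Subgroup.card_top,
      Nat.card_congr (Subgroup.subgroupOfEquivOfLe (le_sup_left : Q ≤ Q ⊔ K)).toEquiv,
      Nat.card_congr (Subgroup.subgroupOfEquivOfLe (le_sup_right : K ≤ Q ⊔ K)).toEquiv] at h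
    exact h
  have hidx : ¬ p ∣ (Q.subgroupOf (Q ⊔ K)).index := by
    intro h
    apply hK
    have h2 := (Q.subgroupOf (Q ⊔ K)).card_mul_index
    rw [Nat.card_congr (Subgroup.subgroupOfEquivOfLe (le_sup_left : Q ≤ Q ⊔ K)).toEquiv] at h2
    rw [← h2] at hdvd
    exact h.trans (Nat.dvd_of_mul_dvd_mul_left Nat.card_pos hdvd)
  have := hc ((IsPGroup.comap_subtype (K := Q ⊔ K) hQ).toSylow hidx)
  exact le_sup_right.trans ((Subgroup.normal_subgroupOf_iff_le_normalizer le_sup_left).mp this)

theorem minimal_non_pClosed {G : Type u} [Group G] [Finite G] {p : ℕ} [Fact p.Prime]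
    (hnc : ¬ Cfsg.IsPClosed p G) (hsub : ∀ H : Subgroup G, H ≠ ⊤ → Cfsg.IsPClosed p ↥H)
    (hquo : ∀ (N : Subgroup G) [N.Normal], N ≠ ⊥ → Cfsg.IsPClosed p (G ⧸ N)) (hns : ¬ IsSimpleGroup G) :
    ∃ q : ℕ, q.Prime ∧ q ≠ p ∧ Nat.card G = p * q ^ orderOf (q : ZMod p) ∧
      ∃ A : Subgroup G, A.Normal ∧ Nat.card ↥A = q ^ orderOf (q : ZMod p) ∧ Cfsg.IsElementaryAbelian q A ∧
        ∀ B : Subgroup G, B.Normal → B ≤ A → B = ⊥ ∨ B = A := by
  haveI : Nontrivial G := by
    by_contra h
    rw [not_nontrivial_iff_subsingleton] at h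
    exact hnc fun P => ⟨fun x hx g => by rwa [Subsingleton.elim (g * x * g⁻¹) x]⟩
  obtain ⟨N, hN, hNb, hmin⟩ := H3.exists_minNormal (G := G)
  haveI := hN
  have hNt : N ≠ ⊤ := fun h => hns ⟨fun K hK => by
    rcases hmin K hK (h ▸ le_top) with e | e
    · exact Or.inl e
    · exact Or.inr (e.trans h)⟩
  have hp : p.Prime := Fact.out
  have hNp : ¬ p ∣ Nat.card N := by
    intro hd
    obtain ⟨R⟩ : Nonempty (Sylow p N) := inferInstance
    haveI := R.characteristic_of_normal (hsub N hNt R)
    rcases hmin ((R : Subgroup N).map N.subtype) inferInstance (Subgroup.map_subtype_le _) with h | h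
    · exact R.ne_bot_of_dvd_card hd ((Subgroup.map_eq_bot_iff_of_injective _ Subtype.coe_injective).mp h)
    · exact hnc (pClosed_of_quotient N (h ▸ R.isPGroup'.map N.subtype) (hquo N hNb))
  obtain ⟨P, hPn⟩ : ∃ P : Sylow p G, ¬ (P : Subgroup G).Normal := by
    by_contra h
    push Not at h
    exact hnc h
  have hPN : (P : Subgroup G) ⊔ N = ⊤ := by
    by_contra hne
    apply hPn
    have hf : Function.Surjective (QuotientGroup.mk' N) := QuotientGroup.mk'_surjective N
    have h1 : ((P.mapSurjective hf : Sylow p (G ⧸ N)) : Subgroup (G ⧸ N)).Normal := hquo N hNb _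
    haveI h2 : ((P : Subgroup G) ⊔ N).Normal := by
      have := h1.comap (QuotientGroup.mk' N)
      rwa [Sylow.coe_mapSurjective, Subgroup.comap_map_eq, QuotientGroup.ker_mk'] at this
    have hNn := le_normalizer_of_pClosed_sup P.isPGroup' hNp Subgroup.le_normalizer_of_normal (hsub _ hne)
    have h3 := Sylow.normalizer_sup_eq_top' P (N := (P : Subgroup G) ⊔ N) le_sup_left
    rw [← Subgroup.normalizer_eq_top_iff, eq_top_iff, ← h3]
    exact sup_le le_rfl (sup_le Subgroup.le_normalizer hNn)
  have hdisj : ∀ Q : Subgroup G, IsPGroup p Q → Q ⊓ N = ⊥ := by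
    intro Q hQ
    refine disjoint_iff.mp (Subgroup.disjoint_of_coprime_natCard ?_)
    obtain ⟨i, hi⟩ := IsPGroup.iff_card.mp hQ
    rw [hi]
    exact (hp.coprime_iff_not_dvd.mpr hNp).pow_left i
  have hcardG : Nat.card G = Nat.card P * Nat.card N := by
    refine ((Subgroup.isComplement'_of_disjoint_and_mul_eq_univ (disjoint_iff.mpr (hdisj P P.isPGroup')) ?_).card_mul).symm
    rw [← Subgroup.mul_normal, hPN, Subgroup.coe_top]
  have hcent : ∀ Q : Subgroup G, Q < (P : Subgroup G) → Q ≤ Subgroup.centralizer (N : Set G) := by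
    intro Q hQ
    have hne : Q ⊔ N ≠ ⊤ := fun h => by
      have h1 := H1.card_sup_dvd_mul Q N
      rw [h, Subgroup.card_top, hcardG] at h1
      have h2 : Nat.card Q < Nat.card P := lt_of_le_of_ne (Subgroup.card_le_of_le hQ.le)
        (fun e => hQ.ne (Subgroup.eq_of_le_of_card_ge hQ.le e.ge))
      exact absurd (Nat.le_of_dvd Nat.card_pos (Nat.dvd_of_mul_dvd_mul_right Nat.card_pos h1)) (not_le.mpr h2)
    have hn := le_normalizer_of_pClosed_sup (P.isPGroup'.to_le hQ.le) hNp Subgroup.le_normalizer_of_normal (hsub _ hne)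
    intro x hx
    rw [Subgroup.mem_centralizer_iff]
    intro y hy
    have hmem : ⁅y, x⁆ ∈ Q ⊓ N := by
      refine ⟨?_, ?_⟩
      · show ⁅y, x⁆ ∈ Q
        exact Subgroup.mul_mem _ ((Subgroup.mem_normalizer_iff.mp (hn hy) x).mp hx) (Subgroup.inv_mem _ hx)
      · show ⁅y, x⁆ ∈ N
        rw [commutatorElement_def, mul_assoc, mul_assoc]
        exact Subgroup.mul_mem _ hy (by rw [← mul_assoc]; exact hN.conj_mem _ (inv_mem hy) x)
    rw [hdisj Q (P.isPGroup'.to_le hQ.le), Subgroup.mem_bot, commutatorElement_eq_one_iff_mul_comm] at hmem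
    exact hmem
  have hPnot : ¬ (P : Subgroup G) ≤ Subgroup.centralizer (N : Set G) := by
    intro h
    apply hPn
    rw [← Subgroup.normalizer_eq_top_iff, eq_top_iff, ← hPN]
    refine sup_le Subgroup.le_normalizer (le_trans ?_ (Subgroup.centralizer_le_normalizer _))
    intro y hy
    rw [Subgroup.mem_centralizer_iff]
    exact fun x hx => (Subgroup.mem_centralizer_iff.mp (h hx) y hy).symm
  obtain ⟨x, hxP, hxC⟩ := SetLike.not_le_iff_exists.mp hPnot
  have hzp : Subgroup.zpowers x = (P : Subgroup G) := by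
    refine ((Subgroup.zpowers_le).mpr hxP).eq_or_lt.resolve_right fun h => hxC ?_
    exact hcent _ h (Subgroup.mem_zpowers x)
  have hxp : x ^ p = 1 := by
    by_contra hne
    have hlt : Subgroup.zpowers (x ^ p) < (P : Subgroup G) := by
      refine lt_of_le_of_ne ((Subgroup.zpowers_le).mpr (Subgroup.pow_mem _ hxP p)) fun h => ?_
      have h1 := congrArg (fun K : Subgroup G => Nat.card K) h
      simp only [← hzp, Nat.card_zpowers] at h1
      obtain ⟨i, hi⟩ := IsPGroup.iff_orderOf.mp P.isPGroup' ⟨x, hxP⟩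
      rw [Subgroup.orderOf_mk] at hi
      rcases i with _ | i
      · rw [pow_zero, orderOf_eq_one_iff] at hi; exact hne (by rw [hi, one_pow])
      · rw [orderOf_pow_of_dvd hp.ne_zero (hi ▸ dvd_pow_self p (Nat.succ_ne_zero i)), hi, pow_succ,
          Nat.mul_div_cancel _ hp.pos] at h1
        have := Nat.one_lt_pow (show 1 ≠ 0 by norm_num) hp.one_lt
        nlinarith [Nat.one_le_pow i p hp.pos]
    have hZn : (Subgroup.zpowers (x ^ p)).Normal := by
      suffices hle : Subgroup.zpowers (x ^ p) ≤ Subgroup.center G from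
        ⟨fun y hy g => by rw [Subgroup.mem_center_iff.mp (hle hy) g, mul_inv_cancel_right]; exact hy⟩
      rw [Subgroup.zpowers_le, Subgroup.mem_center_iff]
      intro g
      have hg : g ∈ Subgroup.centralizer ({x ^ p} : Set G) := by
        have : (⊤ : Subgroup G) ≤ Subgroup.centralizer ({x ^ p} : Set G) := by
          rw [← hPN, ← hzp]
          refine sup_le ?_ ?_
          · rw [Subgroup.zpowers_le, Subgroup.mem_centralizer_singleton_iff, ← pow_succ, ← pow_succ']
          · intro y hy
            rw [Subgroup.mem_centralizer_singleton_iff]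
            exact Subgroup.mem_centralizer_iff.mp (hcent _ hlt (Subgroup.mem_zpowers _)) y hy
        exact this (Subgroup.mem_top g)
      exact Subgroup.mem_centralizer_singleton_iff.mp hg
    haveI := hZn
    exact hnc (pClosed_of_quotient _ (P.isPGroup'.to_le hlt.le)
      (hquo _ (fun h => hne (Subgroup.zpowers_eq_bot.mp h))))
  have hox : orderOf x = p := orderOf_eq_prime hxp (fun h => hxC (h ▸ one_mem _))
  have hcardP : Nat.card P = p := by
    have := Nat.card_zpowers x
    rw [hzp, hox] at this; exact this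
  have hPab : Group.IsSolvable (P : Subgroup G) := by
    haveI := P.isPGroup'.isNilpotent
    infer_instance
  have hcop : (Nat.card P).Coprime (Nat.card N) := by rw [hcardP]; exact hp.coprime_iff_not_dvd.mpr hNp
  -- a non-centralised invariant Sylow subgroup of N
  obtain ⟨q, hq, R, hRinv, hRx⟩ : ∃ (q : ℕ) (_ : q.Prime) (R : Sylow q N),
      (P : Subgroup G) ≤ Subgroup.normalizer (((R : Subgroup N).map N.subtype : Subgroup G) : Set G) ∧
      ¬ (R : Subgroup N).map N.subtype ≤ Subgroup.centralizer ({x} : Set G) := by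
    by_contra h
    push Not at h
    apply hxC
    have hall : N ≤ Subgroup.centralizer ({x} : Set G) := by
      set K := (Subgroup.centralizer ({x} : Set G)).subgroupOf N
      have : K = ⊤ := by
        refine Subgroup.eq_top_of_card_eq K (Nat.dvd_antisymm K.card_subgroup_dvd_card ?_)
        rw [Nat.dvd_iff_prime_pow_dvd_dvd]
        intro q i hq hi
        haveI := Fact.mk hq
        obtain ⟨R, hR⟩ := H1.exists_invariant_sylow (Subgroup.le_normalizer_of_normal) hcop (Or.inl hPab) q
        have hRK : (R : Subgroup N) ≤ K := fun y hy => h q hq R hR (Subgroup.mem_map_of_mem _ hy)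
        exact (R.pow_dvd_card_of_pow_dvd_card hi).trans (Subgroup.card_dvd_of_le hRK)
      rwa [Subgroup.subgroupOf_eq_top] at this
    rw [Subgroup.mem_centralizer_iff]
    exact fun y hy => Subgroup.mem_centralizer_singleton_iff.mp (hall hy)
  haveI := Fact.mk hq
  set R' := (R : Subgroup N).map N.subtype with hR'
  have hR'N : R' ≤ N := Subgroup.map_subtype_le _
  have hPR : (P : Subgroup G) ⊔ R' = ⊤ := by
    by_contra hne
    apply hRx
    have hn := le_normalizer_of_pClosed_sup P.isPGroup' (fun h => hNp (h.trans (Subgroup.card_dvd_of_le hR'N))) hRinv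
      (hsub _ hne)
    intro y hy
    rw [Subgroup.mem_centralizer_singleton_iff]
    have hmem : ⁅y, x⁆ ∈ (P : Subgroup G) ⊓ N := by
      refine ⟨?_, ?_⟩
      · show ⁅y, x⁆ ∈ (P : Subgroup G)
        exact Subgroup.mul_mem _ ((Subgroup.mem_normalizer_iff.mp (hn hy) x).mp hxP) (Subgroup.inv_mem _ hxP)
      · show ⁅y, x⁆ ∈ N
        rw [commutatorElement_def, mul_assoc, mul_assoc]
        exact Subgroup.mul_mem _ (hR'N hy) (by rw [← mul_assoc]; exact hN.conj_mem _ (inv_mem (hR'N hy)) x)
    rw [hdisj _ P.isPGroup', Subgroup.mem_bot, commutatorElement_eq_one_iff_mul_comm] at hmem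
    exact hmem
  have hNR : N = R' := by
    refine (Subgroup.eq_of_le_of_card_ge hR'N ?_).symm
    have hdvd : Nat.card G ∣ Nat.card P * Nat.card R' := by
      have hn : R' ≤ Subgroup.normalizer (R' : Set G) := Subgroup.le_normalizer
      haveI : R'.Normal := by
        rw [← Subgroup.normalizer_eq_top_iff, eq_top_iff, ← hPR]
        exact sup_le hRinv hn
      have := H1.card_sup_dvd_mul (P : Subgroup G) R'
      rwa [hPR, Subgroup.card_top] at this
    rw [hcardG] at hdvd
    exact Nat.le_of_dvd Nat.card_pos (Nat.dvd_of_mul_dvd_mul_left Nat.card_pos hdvd)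
  have hNq : IsPGroup q N := hNR ▸ R.isPGroup'.map N.subtype
  have hqp : q ≠ p := by
    rintro rfl
    obtain ⟨i, hi⟩ := IsPGroup.iff_card.mp hNq
    rcases i with _ | i
    · exact hNb (Subgroup.card_eq_one.mp (by rw [hi, pow_zero]))
    · exact hNp (hi ▸ dvd_pow_self q (Nat.succ_ne_zero i))
  haveI : Group.IsSolvable G := by
    rw [Group.isSolvable_iff_subgroup_quotient N]
    constructor
    · haveI := hNq.isNilpotent
      infer_instance
    · have h1 : Nat.card (G ⧸ N) = p := by
        rw [← Subgroup.index_eq_card]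
        apply Nat.eq_of_mul_eq_mul_left (Nat.card_pos (α := N))
        rw [N.card_mul_index, hcardG, hcardP, mul_comm]
      haveI : IsCyclic (G ⧸ N) := isCyclic_of_prime_card h1
      exact Group.isSolvable_of_comm fun a b => IsMulCommutative.is_comm.comm a b
  obtain ⟨hNab, r, hr, hexp, hrN, -⟩ := H3.minNormal_elementary N hNb hmin
  have hrq : r = q := by
    obtain ⟨y, hy, hy1⟩ := N.bot_or_exists_ne_one.resolve_left hNb
    have ho : orderOf y = r := (haveI := Fact.mk hr; orderOf_eq_prime (hexp y hy) hy1)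
    obtain ⟨i, hi⟩ := IsPGroup.iff_orderOf.mp hNq ⟨y, hy⟩
    rw [Subgroup.orderOf_mk, ho] at hi
    exact (Nat.prime_dvd_prime_iff_eq hr hq).mp (hr.dvd_of_dvd_pow (dvd_of_eq hi))
  subst r
  haveI := hNab
  -- no fixed points
  have hfix : N ⊓ Subgroup.centralizer ({x} : Set G) = ⊥ := by
    set W := N ⊓ Subgroup.centralizer ({x} : Set G) with hW
    have hWn : W.Normal := by
      rw [← Subgroup.normalizer_eq_top_iff, eq_top_iff, ← hPN, ← hzp]
      refine sup_le ?_ ?_
      · rw [Subgroup.zpowers_le]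
        refine Subgroup.centralizer_le_normalizer _ (Subgroup.mem_centralizer_iff.mpr fun y hy => ?_)
        exact Subgroup.mem_centralizer_singleton_iff.mp hy.2
      · intro y hy
        refine Subgroup.centralizer_le_normalizer _ (Subgroup.mem_centralizer_iff.mpr fun w hw => ?_)
        exact congrArg Subtype.val (hNab.is_comm.comm (⟨w, hw.1⟩ : N) ⟨y, hy⟩)
    rcases hmin W hWn inf_le_left with h | h
    · exact h
    · exfalso
      apply hxC
      rw [Subgroup.mem_centralizer_iff]
      intro y hy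
      exact Subgroup.mem_centralizer_singleton_iff.mp ((h.ge hy : y ∈ W)).2
  obtain ⟨d, hd⟩ := IsPGroup.iff_card.mp hNq
  set e := orderOf (q : ZMod p) with he
  have hqz : (q : ZMod p) ≠ 0 := fun h => hqp ((Nat.prime_dvd_prime_iff_eq hp hq).mp ((ZMod.natCast_eq_zero_iff _ _).mp h)).symm
  have hcard_ge : q ^ e ≤ Nat.card N := by
    let act : MulAction (Subgroup.zpowers x) N :=
      { smul := fun k r => ⟨(k : G) * r * (k : G)⁻¹, hN.conj_mem _ r.2 _⟩
        one_smul := fun r => Subtype.ext (by show (1 : G) * r * (1 : G)⁻¹ = r; simp)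
        mul_smul := fun k l r => Subtype.ext (by
          show ((k : G) * l) * r * ((k : G) * l)⁻¹ = (k : G) * ((l : G) * r * (l : G)⁻¹) * (k : G)⁻¹
          group) }
    letI := act
    have hpg : IsPGroup p (Subgroup.zpowers x) := hzp ▸ P.isPGroup'
    have h1 := hpg.card_modEq_card_fixedPoints (α := N)
    have h2 : Nat.card (MulAction.fixedPoints (Subgroup.zpowers x) N) = 1 := by
      rw [Nat.card_eq_one_iff_unique]
      refine ⟨⟨fun a b => ?_⟩, ⟨⟨1, fun k => Subtype.ext (by show (k : G) * 1 * (k : G)⁻¹ = 1; simp)⟩⟩⟩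
      have key : ∀ c : MulAction.fixedPoints (Subgroup.zpowers x) N, ((c : N) : G) = 1 := by
        intro c
        have hc : x * ((c : N) : G) * x⁻¹ = ((c : N) : G) :=
          congrArg Subtype.val (c.2 ⟨x, Subgroup.mem_zpowers x⟩)
        have : ((c : N) : G) ∈ N ⊓ Subgroup.centralizer ({x} : Set G) :=
          ⟨(c : N).2, Subgroup.mem_centralizer_singleton_iff.mpr (mul_inv_eq_iff_eq_mul.mp hc).symm⟩
        rwa [hfix, Subgroup.mem_bot] at this
      exact Subtype.ext (Subtype.ext ((key a).trans (key b).symm))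
    rw [h2, hd] at h1
    have h3 : (q : ZMod p) ^ d = 1 := by
      have := (ZMod.natCast_eq_natCast_iff _ _ _).mpr h1
      simpa using this
    have hd0 : d ≠ 0 := fun h => hNb (Subgroup.card_eq_one.mp (by rw [hd, h, pow_zero]))
    rw [hd]
    exact Nat.pow_le_pow_right hq.pos (Nat.le_of_dvd (Nat.pos_of_ne_zero hd0) (orderOf_dvd_of_pow_eq_one h3))
  have he0 : e ≠ 0 := by
    intro h
    have := orderOf_eq_zero_iff'.mp h (p - 1) (by have := hp.two_le; omega)
    exact this (ZMod.pow_card_sub_one_eq_one hqz)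
  have hcard_le : Nat.card N ≤ q ^ e := by
    open scoped IsMulCommutative in
    let conjx : AddMonoid.End (Additive N) :=
      MonoidHom.toAdditive
        { toFun := fun r => (⟨x * r * x⁻¹, hN.conj_mem _ r.2 _⟩ : N)
          map_one' := Subtype.ext (by simp)
          map_mul' := fun a b => Subtype.ext (by
            show x * (a * b : G) * x⁻¹ = (x * a * x⁻¹) * (x * b * x⁻¹)
            group) }
    rw [Nat.card_congr (Additive.ofMul : N ≃ Additive N)]
    open scoped IsMulCommutative in
    refine card_le_of_irreducible_end (p := p) conjx ?_ ?_ ?_ he0 ?_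
    · refine AddMonoidHom.ext fun v => ?_
      have hpow : ∀ n : ℕ, (((conjx ^ n) v).toMul : G) = x ^ n * (v.toMul : G) * (x ^ n)⁻¹ := by
        intro n
        induction n with
        | zero => simp
        | succ n ih =>
          rw [pow_succ']
          show x * (((conjx ^ n) v).toMul : G) * x⁻¹ = _
          rw [ih, pow_succ']
          group
      apply Additive.toMul.injective
      apply Subtype.ext
      refine (hpow p).trans ?_
      rw [hxp]
      simp
      rfl
    · intro v
      apply Additive.toMul.injective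
      apply Subtype.ext
      show ((v.toMul ^ q : N) : G) = 1
      rw [SubgroupClass.coe_pow, hexp _ (SetLike.coe_mem _)]
    · have h1 : ((q : ZMod p)) ^ e = 1 := pow_orderOf_eq_one _
      have h2 : (((q : ℤ) ^ e - 1 : ℤ) : ZMod p) = 0 := by push_cast; rw [h1, sub_self]
      exact (ZMod.intCast_zmod_eq_zero_iff_dvd _ _).mp h2
    · intro W hW
      set B : Subgroup G := W.toSubgroup'.map N.subtype with hB
      have hBn : B.Normal := by
        rw [← Subgroup.normalizer_eq_top_iff, eq_top_iff, ← hPN, ← hzp]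
        refine sup_le ?_ ?_
        · rw [Subgroup.zpowers_le, Subgroup.mem_normalizer_iff_map_conj_eq]
          refine Subgroup.eq_of_le_of_card_ge ?_
            (le_of_eq (Subgroup.card_map_of_injective (MulAut.conj x).injective).symm)
          rintro _ ⟨_, ⟨w, hw, rfl⟩, rfl⟩
          exact ⟨⟨x * (w : G) * x⁻¹, hN.conj_mem _ w.2 _⟩, hW _ hw, rfl⟩
        · intro y hy
          refine Subgroup.centralizer_le_normalizer _ (Subgroup.mem_centralizer_iff.mpr fun w hw => ?_)
          exact congrArg Subtype.val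
            (hNab.is_comm.comm (⟨w, Subgroup.map_subtype_le _ hw⟩ : N) ⟨y, hy⟩)
      rcases hmin B hBn (Subgroup.map_subtype_le _) with h | h
      · left
        ext v
        constructor
        · intro hv
          have : ((v.toMul : N) : G) ∈ B := ⟨v.toMul, hv, rfl⟩
          rw [h, Subgroup.mem_bot, OneMemClass.coe_eq_one] at this
          exact this
        · intro hv
          rw [AddSubgroup.mem_bot] at hv
          rw [hv]; exact zero_mem _
      · right
        rw [eq_top_iff]
        intro v _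
        obtain ⟨w, hw, hwv⟩ : ((v.toMul : N) : G) ∈ B := h.ge (v.toMul).2
        have : w = v.toMul := Subtype.ext hwv
        subst this
        exact hw
  have hNcard : Nat.card N = q ^ e := le_antisymm hcard_le hcard_ge
  exact ⟨q, hq, hqp, by rw [hcardG, hcardP, hNcard], N, hN, hNcard, ⟨hNab, hexp⟩, hmin⟩

end H32
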