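import Cfsg.Agent.H10.QuadGroup
import Cfsg.Agent.H89.PSL2Inv

/-!
A quadratic element outside the `p`-core, `p` odd, yields a `2`-subgroup with a noncommutative image
in two dimensions.
-/

set_option autoImplicit false
set_option linter.style.haveILetI false

open Cfsg

namespace H32.Quad

open H10

theorem exists_not_comm_two {Q : Type*} [Group Q] [Finite Q] {p : ℕ} [Fact p.Prime] (hp : p ≠ 2)
    {n : ℕ} {ρ : Q →* Module.End (AlgebraicClosure (ZMod p)) (Fin n → AlgebraicClosure (ZMod p))}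
    (hinj : Function.Injective ρ) {a : Q} (ha : IsQuadEnd ρ a) (hna : a ∉ pCore p Q) :
    ∃ (S : Subgroup Q) (ψ : S →* SL2 (AlgebraicClosure (ZMod p))), IsPGroup 2 S ∧
      ∃ x y : S, ψ x * ψ y ≠ ψ y * ψ x := by
  haveI : Fact (Nat.Prime 2) := ⟨Nat.prime_two⟩
  obtain ⟨g, hg⟩ : ∃ g : Q, ¬ IsPGroup p (Subgroup.closure ({a, g * a * g⁻¹} : Set Q)) := by
    by_contra h
    push Not at h
    exact hna (H65.mem_pCore_of_pairs h)
  set B := Subgroup.closure ({a, g * a * g⁻¹} : Set Q) with hB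
  have hb : g * a * g⁻¹ ∈ ({a, g * a * g⁻¹} : Set Q) :=
    Set.mem_insert_of_mem _ (Set.mem_singleton _)
  let a' : B := ⟨a, Subgroup.subset_closure (Set.mem_insert _ _)⟩
  let b' : B := ⟨g * a * g⁻¹, Subgroup.subset_closure hb⟩
  have hgen : Subgroup.closure ({a', b'} : Set B) = ⊤ := by
    apply Subgroup.map_injective B.subtype_injective
    rw [MonoidHom.map_closure, Set.image_pair, ← MonoidHom.range_eq_map, Subgroup.range_subtype]
    rfl
  obtain ⟨φ, ha', hb', hn⟩ := exists_sl2_of_end_pair (ρ := ρ.comp B.subtype)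
    (hinj.comp B.subtype_injective) hgen (a := a') (b := b') ha (ha.conj g) hg
  by_contra hall
  push Not at hall
  obtain ⟨T⟩ : Nonempty (Sylow 2 B) := inferInstance
  haveI : Finite φ.range := Finite.of_surjective φ.rangeRestrict φ.rangeRestrict_surjective
  set T' : Sylow 2 φ.range := T.mapSurjective φ.rangeRestrict_surjective with hT'
  have hcoe : (T' : Subgroup φ.range) = (T : Subgroup B).map φ.rangeRestrict := rfl
  have hgen' : Subgroup.closure ({φ.rangeRestrict a', φ.rangeRestrict b'} : Set φ.range) = ⊤ := by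
    rw [← Set.image_pair, ← MonoidHom.map_closure, hgen,
      Subgroup.map_top_of_surjective _ φ.rangeRestrict_surjective]
  refine hn fun h => isUnip_of_abelian_sylow_two (p := p) hp φ.range.subtype hgen' ha' hb' T'
    (fun u hu v hv => ?_) (φ.rangeRestrict h)
  rw [hcoe] at hu hv
  obtain ⟨x, hx, rfl⟩ := hu
  obtain ⟨y, hy, rfl⟩ := hv
  let e := (T : Subgroup B).equivMapOfInjective B.subtype B.subtype_injective
  have := hall _ (φ.comp ((T : Subgroup B).subtype.comp e.symm.toMonoidHom))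
    (T.isPGroup'.of_equiv e) (e ⟨x, hx⟩) (e ⟨y, hy⟩)
  simp only [MonoidHom.comp_apply, MulEquiv.coe_toMonoidHom, MulEquiv.symm_apply_apply,
    Subgroup.coe_subtype] at this
  exact Subtype.ext this

variable {K : Type*} [Field K] {p : ℕ} [Fact p.Prime] [CharP K p]

theorem comm_of_mul_self (hp : p ≠ 2) {g : SL2 K} (hg : g * g = 1) (h : SL2 K) :
    g * h = h * g := by
  refine mat_inj ?_
  rcases eq_one_or_neg_one_of_mul_self hp hg with e | e <;> simp [mat_mul, e]

theorem eq_of_mul_self (hp : p ≠ 2) {g h : SL2 K} (hg : g * g = 1) (hg1 : g ≠ 1) (hh : h * h = 1)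
    (hh1 : h ≠ 1) : g = h := by
  rcases eq_one_or_neg_one_of_mul_self hp hg with e | e
  · exact absurd (mat_inj (e.trans mat_one.symm)) hg1
  rcases eq_one_or_neg_one_of_mul_self hp hh with e' | e'
  · exact absurd (mat_inj (e'.trans mat_one.symm)) hh1
  exact mat_inj (e.trans e'.symm)

open H89 in
/-- Images in two dimensions of the `2`-subgroups of `PSL₂` are commutative. -/
theorem comm_psl2 (hp : p ≠ 2) {F : Type*} [Field F] [Finite F] (h2 : (2 : F) ≠ 0)
    {S : Subgroup (Matrix.ProjectiveSpecialLinearGroup (Fin 2) F)} (hS : IsPGroup 2 S)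
    (ψ : S →* SL2 K) (x y : S) : ψ x * ψ y = ψ y * ψ x := by
  haveI : Fact (Nat.Prime 2) := ⟨Nat.prime_two⟩
  cases nonempty_fintype F
  rcases subsingleton_or_nontrivial S with hs | hs
  · rw [Subsingleton.elim x y]
  haveI : Nontrivial (Subgroup.center S) := hS.center_nontrivial
  obtain ⟨k, hk, hk'⟩ := (hS.to_subgroup (Subgroup.center S)).nontrivial_iff_card.mp inferInstance
  obtain ⟨z, hz⟩ := exists_prime_orderOf_dvd_card' (G := Subgroup.center S) 2
    (hk' ▸ dvd_pow_self 2 hk.ne')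
  set zp := ((z : S) : Matrix.ProjectiveSpecialLinearGroup (Fin 2) F) with hzp
  have hzo : orderOf zp = 2 := by rw [hzp, Subgroup.orderOf_coe, Subgroup.orderOf_coe, hz]
  obtain ⟨g, hg⟩ := exists_conj_zEl h2 (x := zp)
    (fun h => by rw [h, orderOf_one] at hzo; omega) (by have h := pow_orderOf_eq_one zp; rw [hzo, pow_two] at h; exact h)
  have hC : ∀ w : S, g⁻¹ * (w : Matrix.ProjectiveSpecialLinearGroup (Fin 2) F) * g ∈
      Subgroup.centralizer ({zEl} : Set (Matrix.ProjectiveSpecialLinearGroup (Fin 2) F)) := by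
    intro w
    have hc : (w : Matrix.ProjectiveSpecialLinearGroup (Fin 2) F) * zp = zp * w :=
      congrArg Subtype.val (Subgroup.mem_center_iff.mp z.2 w)
    rw [← hg] at hc
    rw [Subgroup.mem_centralizer_singleton_iff]
    calc g⁻¹ * (w : Matrix.ProjectiveSpecialLinearGroup (Fin 2) F) * g * zEl
        = g⁻¹ * ((w : Matrix.ProjectiveSpecialLinearGroup (Fin 2) F) * (g * zEl * g⁻¹)) * g := by group
      _ = g⁻¹ * (g * zEl * g⁻¹ * (w : Matrix.ProjectiveSpecialLinearGroup (Fin 2) F)) * g := by rw [hc]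
      _ = zEl * (g⁻¹ * (w : Matrix.ProjectiveSpecialLinearGroup (Fin 2) F) * g) := by group
  have hout : ∀ w : S, g⁻¹ * (w : Matrix.ProjectiveSpecialLinearGroup (Fin 2) F) * g ∉ rotSub →
      ∀ v : SL2 K, ψ w * v = v * ψ w := by
    intro w hw v
    have h := outer_sq h2 (hC w) hw
    refine comm_of_mul_self hp ?_ v
    have hww : w * w = 1 := by
      apply Subtype.ext
      rw [Subgroup.coe_mul, Subgroup.coe_one]
      calc (w : Matrix.ProjectiveSpecialLinearGroup (Fin 2) F) * w
          = g * ((g⁻¹ * (w : Matrix.ProjectiveSpecialLinearGroup (Fin 2) F) * g) * (g⁻¹ * (w : Matrix.ProjectiveSpecialLinearGroup (Fin 2) F) * g)) * g⁻¹ := by group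
        _ = 1 := by rw [h]; group
    rw [← map_mul, hww, map_one]
  by_cases hx : g⁻¹ * (x : Matrix.ProjectiveSpecialLinearGroup (Fin 2) F) * g ∈ rotSub
  swap
  · exact hout x hx _
  by_cases hy : g⁻¹ * (y : Matrix.ProjectiveSpecialLinearGroup (Fin 2) F) * g ∈ rotSub
  swap
  · exact (hout y hy _).symm
  have h := rotSub_comm h2 hx hy
  rw [← map_mul, ← map_mul]
  congr 1
  apply Subtype.ext
  rw [Subgroup.coe_mul, Subgroup.coe_mul]
  calc (x : Matrix.ProjectiveSpecialLinearGroup (Fin 2) F) * y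
      = g * ((g⁻¹ * (x : Matrix.ProjectiveSpecialLinearGroup (Fin 2) F) * g) * (g⁻¹ * (y : Matrix.ProjectiveSpecialLinearGroup (Fin 2) F) * g)) * g⁻¹ := by group
    _ = g * ((g⁻¹ * (y : Matrix.ProjectiveSpecialLinearGroup (Fin 2) F) * g) * (g⁻¹ * (x : Matrix.ProjectiveSpecialLinearGroup (Fin 2) F) * g)) * g⁻¹ := by rw [h]
    _ = (y : Matrix.ProjectiveSpecialLinearGroup (Fin 2) F) * x := by group

end H32.Quad
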