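import Cfsg.Agent.H32.QuadImage
import Cfsg.Agent.H52.ReeOrder
import Cfsg.Agent.H85.BrauerSuzuki

/-!
Images in two dimensions of the `2`-subgroups of the Ree groups are commutative.
-/

set_option autoImplicit false
set_option linter.style.haveILetI false

open Cfsg

namespace H32.Quad

open H10

theorem not_sixteen_dvd_ree (m : ℕ) :
    ¬ 16 ∣ (3 ^ (2 * m + 1)) ^ 3 * (3 ^ (2 * m + 1) - 1) * ((3 ^ (2 * m + 1)) ^ 3 + 1) := by
  have h : 3 ^ (2 * m + 1) % 16 = 3 ∨ 3 ^ (2 * m + 1) % 16 = 11 := by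
    induction m with
    | zero => left; rfl
    | succ m ih =>
      rw [show 2 * (m + 1) + 1 = (2 * m + 1) + 2 by ring, pow_add, Nat.mul_mod]
      rcases ih with h | h <;> simp [h]
  obtain ⟨t, ht⟩ : ∃ t, 3 ^ (2 * m + 1) = 16 * t + 3 ∨ 3 ^ (2 * m + 1) = 16 * t + 11 :=
    ⟨3 ^ (2 * m + 1) / 16, by omega⟩
  intro hd
  rw [← ZMod.natCast_eq_zero_iff] at hd
  rcases ht with ht | ht <;> rw [ht] at hd
  · rw [show 16 * t + 3 - 1 = 16 * t + 2 by omega] at hd
    push_cast at hd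
    rw [show (16 : ZMod 16) = 0 from rfl, zero_mul, zero_add, zero_add] at hd
    revert hd; decide
  · rw [show 16 * t + 11 - 1 = 16 * t + 10 by omega] at hd
    push_cast at hd
    rw [show (16 : ZMod 16) = 0 from rfl, zero_mul, zero_add, zero_add] at hd
    revert hd; decide

theorem card_le_eight {T : Type*} [Group T] [Finite T] {n : ℕ} (hn : ¬ 16 ∣ n)
    (hT : IsPGroup 2 T) (hd : Nat.card T ∣ n) : Nat.card T ∣ 8 := by
  haveI : Fact (Nat.Prime 2) := ⟨Nat.prime_two⟩
  obtain ⟨k, hk⟩ := hT.exists_card_eq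
  rw [hk] at hd ⊢
  rw [show (8 : ℕ) = 2 ^ 3 from rfl]
  refine pow_dvd_pow 2 ?_
  by_contra h
  exact hn ((show (16 : ℕ) = 2 ^ 4 from rfl) ▸ (pow_dvd_pow 2 (by omega : 4 ≤ k)).trans hd)

variable {K : Type*} [Field K] {p : ℕ} [Fact p.Prime] [CharP K p]

theorem comm_of_card_dvd_four {G : Type*} [Group G] [Finite G] (h : Nat.card G ∣ 4) (x y : G) :
    x * y = y * x := by
  haveI : Fact (Nat.Prime 2) := ⟨Nat.prime_two⟩
  rcases (Nat.dvd_prime_pow Nat.prime_two (m := 2)).mp h with ⟨i, hi, he⟩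
  interval_cases i
  · haveI := (Nat.card_eq_one_iff_unique.mp he).1
    rw [Subsingleton.elim x y]
  · haveI : IsCyclic G := isCyclic_of_prime_card (he.trans (pow_one 2))
    exact (IsCyclic.commGroup (α := G)).mul_comm x y
  · exact (IsPGroup.commutative_of_card_eq_prime_sq (p := 2) he) x y

theorem comm_of_simple (hp : p ≠ 2) {Q : Type*} [Group Q] [Finite Q] [IsSimpleGroup Q]
    (hnc : ¬ IsMulCommutative Q) (h16 : ¬ 16 ∣ Nat.card Q) {S : Subgroup Q} (hS : IsPGroup 2 S)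
    (ψ : S →* SL2 K) (x y : S) : ψ x * ψ y = ψ y * ψ x := by
  haveI : Fact (Nat.Prime 2) := ⟨Nat.prime_two⟩
  by_contra hxy
  have hr8 : Nat.card ψ.range ∣ Nat.card S := Subgroup.card_range_dvd ψ
  have hS8 : Nat.card S ∣ 8 := card_le_eight h16 hS S.card_subgroup_dvd_card
  haveI : Finite ψ.range := Finite.of_surjective ψ.rangeRestrict ψ.rangeRestrict_surjective
  have hreq : Nat.card ψ.range = 8 := by
    rcases (Nat.dvd_prime_pow Nat.prime_two (m := 3)).mp (hr8.trans hS8) with ⟨i, hi, he⟩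
    by_contra hne
    have hi2 : i ≤ 2 := by
      by_contra hi2
      exact hne (by rw [he, show i = 3 by omega]; norm_num)
    exact hxy (congrArg Subtype.val (comm_of_card_dvd_four (G := ψ.range)
      (he ▸ pow_dvd_pow 2 hi2) ⟨ψ x, x, rfl⟩ ⟨ψ y, y, rfl⟩))
  have hScard : Nat.card S = 8 := Nat.dvd_antisymm hS8 (hreq ▸ hr8)
  have hinj : Function.Injective ψ := by
    rw [← ψ.rangeRestrict_injective_iff]
    exact ((Nat.bijective_iff_surjective_and_card ψ.rangeRestrict).mpr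
      ⟨ψ.rangeRestrict_surjective, hScard.trans hreq.symm⟩).1
  obtain ⟨P, hP⟩ := hS.exists_le_sylow
  have hPS : (P : Subgroup Q) = S := by
    refine (Subgroup.eq_of_le_of_card_ge hP ?_).symm
    rw [hScard]
    exact Nat.le_of_dvd (by norm_num)
      (card_le_eight h16 P.isPGroup' (P : Subgroup Q).card_subgroup_dvd_card)
  have huniq : ∀ t u : S, orderOf t = 2 → orderOf u = 2 → t = u := by
    intro t u ht hu
    have h1 : ∀ w : S, orderOf w = 2 → ψ w * ψ w = 1 ∧ ψ w ≠ 1 := fun w hw =>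
      ⟨by rw [← map_mul, H66.mul_self_of_orderOf_two hw, map_one], fun h => by
        rw [← map_one ψ] at h
        rw [hinj h, orderOf_one] at hw
        omega⟩
    exact hinj (eq_of_mul_self hp (h1 t ht).1 (h1 t ht).2 (h1 u hu).1 (h1 u hu).2)
  obtain ⟨z, hz⟩ := exists_prime_orderOf_dvd_card' (G := S) 2 (by rw [hScard]; norm_num)
  have hzQ : orderOf (z : Q) = 2 := by rw [Subgroup.orderOf_coe, hz]
  haveI hOn := H1.pPrimeCore_normal' 2 Q
  have hO : Cfsg.pPrimeCore 2 Q = ⊥ := by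
    refine (hOn.eq_bot_or_eq_top).resolve_right fun h => ?_
    have h1 := H1.card_pPrimeCore_coprime 2 Q
    rw [h, Subgroup.card_top] at h1
    have h2 : 2 ∣ Nat.card Q := hzQ ▸ orderOf_dvd_natCard (z : Q)
    exact absurd (Nat.eq_one_of_dvd_coprimes h1 h2 dvd_rfl) (by norm_num)
  have hcase := H85.quaternionCase Q (z : Q) hO hzQ fun t ht htz => by
    have hT : IsPGroup 2 (Subgroup.zpowers t ⊔ Subgroup.zpowers (z : Q) : Subgroup Q) := by
      refine IsPGroup.to_sup_of_normal_right' (IsPGroup.of_card (n := 1) ?_)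
        (IsPGroup.of_card (n := 1) ?_) ?_
      · rw [Nat.card_zpowers, ht, pow_one]
      · rw [Nat.card_zpowers, hzQ, pow_one]
      · refine le_trans ?_ (Subgroup.centralizer_le_normalizer
          (Subgroup.zpowers (z : Q) : Set Q))
        rw [Subgroup.zpowers_le, Subgroup.mem_centralizer_iff]
        intro w hw
        obtain ⟨k, rfl⟩ := Subgroup.mem_zpowers_iff.1 hw
        exact ((htz.zpow_right k).eq).symm
    obtain ⟨R, hR⟩ := hT.exists_le_sylow
    obtain ⟨h, hh⟩ := MulAction.exists_smul_eq Q R P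
    have hmem : ∀ w ∈ (Subgroup.zpowers t ⊔ Subgroup.zpowers (z : Q) : Subgroup Q),
        h * w * h⁻¹ ∈ S := fun w hw => by
      rw [← hPS, ← hh]
      exact Subgroup.smul_mem_pointwise_smul w (MulAut.conj h) _ (hR hw)
    have e := congrArg Subtype.val (huniq
      ⟨_, hmem t (le_sup_left (α := Subgroup Q) (Subgroup.mem_zpowers t))⟩
      ⟨_, hmem (z : Q) (le_sup_right (α := Subgroup Q) (Subgroup.mem_zpowers (z : Q)))⟩
      (by rw [← Subgroup.orderOf_coe]; exact (H20.orderOf_conj' h t).trans ht)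
      (by rw [← Subgroup.orderOf_coe]; exact (H20.orderOf_conj' h (z : Q)).trans hzQ))
    exact mul_left_cancel (mul_right_cancel e)
  have hzc : (z : Q) ∈ Subgroup.center Q := by
    rw [Subgroup.mem_center_iff]
    intro g
    have h := hcase g
    rw [hO, Subgroup.mem_bot, mul_inv_eq_one, mul_inv_eq_iff_eq_mul] at h
    exact h.symm
  have htop : Subgroup.center Q = ⊤ :=
    (Subgroup.instNormalCenter (G := Q)).eq_bot_or_eq_top.resolve_left fun h => by
      rw [h, Subgroup.mem_bot] at hzc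
      rw [hzc, orderOf_one] at hzQ
      omega
  exact hnc ⟨⟨fun u v => (Subgroup.mem_center_iff.mp (htop ▸ Subgroup.mem_top v) u)⟩⟩

theorem comm_ree (hp : p ≠ 2) {Q : Type*} [Group Q] [Finite Q] (hQ : Cfsg.Lie.IsoRee Q)
    {S : Subgroup Q} (hS : IsPGroup 2 S) (ψ : S →* SL2 K) (x y : S) :
    ψ x * ψ y = ψ y * ψ x := by
  obtain ⟨L, _, _, m, hm, hL, ⟨e⟩⟩ := hQ
  obtain ⟨hs, hnc⟩ := H52.Ree2.simple hL hm
  haveI := hs
  haveI : IsSimpleGroup Q := e.isSimpleGroup
  refine comm_of_simple hp (fun h => hnc ⟨⟨fun u v => e.symm.injective ?_⟩⟩) ?_ hS ψ x y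
  · rw [map_mul, map_mul]
    exact h.is_comm.comm _ _
  · rw [Nat.card_congr e.toEquiv, H52.Ree2.card_ree hL]
    exact not_sixteen_dvd_ree m

end H32.Quad
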