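import Mathlib
import Cfsg.Agent.S3861

/-!
# Counting pairs of conjugates in a coset of an abelian Sylow 2-subgroup

For a well chosen real element `x` of odd order, the number of pairs of conjugates of `x`
lying in one left coset of the Sylow subgroup, times the centraliser order of `x`, is an odd
multiple of the order of the Sylow subgroup.
-/

set_option autoImplicit false
set_option linter.all false

namespace H32.RealOdd

variable {G : Type*} [Group G]

/-- A finite set with an action of a group all of whose stabilisers have order dividing `A`. -/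
theorem card_dvd_mul_card {H X : Type*} [Group H] [Finite H] [MulAction H X] [Finite X] {A : ℕ}
    (h : ∀ x : X, Nat.card (MulAction.stabilizer H x) ∣ A) : Nat.card H ∣ A * Nat.card X := by
  classical
  have := Fintype.ofFinite (MulAction.orbitRel.Quotient H X)
  rw [Nat.card_congr (MulAction.selfEquivSigmaOrbits H X), Nat.card_sigma, Finset.mul_sum]
  refine Finset.dvd_sum fun ω _ => ?_
  have hc := Subgroup.index_mul_card (MulAction.stabilizer H ω.out)
  rw [MulAction.index_stabilizer] at hc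
  rw [Nat.card_coe_set_eq, ← hc, mul_comm A]
  exact Nat.mul_dvd_mul_left _ (h _)

/-- The action of `H × ℤˣ` given by an action of `H` and a commuting involution. -/
@[reducible] def involAction {H X : Type*} [Group H] [MulAction H X] (τ : X → X)
    (hτ : ∀ x, τ (τ x) = x) (hc : ∀ (h : H) x, τ (h • x) = h • τ x) :
    MulAction (H × ℤˣ) X where
  smul hu x := hu.1 • if hu.2 = 1 then x else τ x
  one_smul x := by
    show (1 : H) • (if (1 : ℤˣ) = 1 then x else τ x) = x
    rw [if_pos rfl, one_smul]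
  mul_smul a b x := by
    obtain ⟨a, u⟩ := a
    obtain ⟨b, v⟩ := b
    show (a * b) • (if u * v = 1 then x else τ x) =
      a • (if u = 1 then b • (if v = 1 then x else τ x) else τ (b • (if v = 1 then x else τ x)))
    rcases Int.units_eq_one_or u with rfl | rfl <;> rcases Int.units_eq_one_or v with rfl | rfl <;>
      simp [mul_smul, hc, hτ]

/-- A 2-group action with a commuting involution. -/
theorem two_mul_card_dvd {H X : Type*} [Group H] [Finite H] [MulAction H X] [Finite X] {A : ℕ}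
    (τ : X → X) (hτ : ∀ x, τ (τ x) = x) (hc : ∀ (h : H) x, τ (h • x) = h • τ x)
    (h1 : ∀ x : X, Nat.card (MulAction.stabilizer H x) ∣ A)
    (h2 : ∀ x : X, (∃ h : H, h • τ x = x) → 2 * Nat.card (MulAction.stabilizer H x) ∣ A) :
    2 * Nat.card H ∣ A * Nat.card X := by
  have hH2 : Nat.card (H × ℤˣ) = 2 * Nat.card H := by
    rw [Nat.card_prod, Nat.card_eq_fintype_card (α := ℤˣ), Fintype.card_units_int, mul_comm]
  letI := involAction τ hτ hc
  rw [← hH2]
  refine card_dvd_mul_card fun x => ?_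
  set S := MulAction.stabilizer (H × ℤˣ) x
  let f : S →* ℤˣ := (MonoidHom.snd H ℤˣ).comp S.subtype
  have hker : Nat.card f.ker = Nat.card (MulAction.stabilizer H x) := by
    refine Nat.card_congr
      { toFun := fun s => ⟨s.1.1.1, ?_⟩
        invFun := fun h => ⟨⟨(h.1, 1), ?_⟩, ?_⟩
        left_inv := fun s => ?_
        right_inv := fun h => rfl }
    · have hs : s.1.1.1 • (if s.1.1.2 = 1 then x else τ x) = x := s.1.2
      have hu : s.1.1.2 = 1 := s.2
      rw [if_pos hu] at hs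
      exact hs
    · show h.1 • (if (1 : ℤˣ) = 1 then x else τ x) = x
      rw [if_pos rfl]
      exact h.2
    · rfl
    · have hu : s.1.1.2 = 1 := s.2
      exact Subtype.ext (Subtype.ext (Prod.ext rfl hu.symm))
  have hS : Nat.card S = Nat.card f.range * Nat.card (MulAction.stabilizer H x) := by
    rw [← hker, ← Subgroup.index_ker f, Subgroup.index_mul_card]
  by_cases hex : ∃ h : H, h • τ x = x
  · refine dvd_trans (hS ▸ Nat.mul_dvd_mul_right ?_ _) (h2 x hex)
    have := Subgroup.card_subgroup_dvd_card f.range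
    rwa [Nat.card_eq_fintype_card (α := ℤˣ), Fintype.card_units_int] at this
  · have hbot : f.range = ⊥ := by
      rw [eq_bot_iff]
      rintro u ⟨s, rfl⟩
      rw [Subgroup.mem_bot]
      by_contra hne
      refine hex ⟨s.1.1, ?_⟩
      have hs : s.1.1 • (if s.1.2 = 1 then x else τ x) = x := s.2
      rwa [if_neg (show ¬ s.1.2 = 1 from hne)] at hs
    rw [hS, hbot, Subgroup.card_bot, one_mul]
    exact h1 x

theorem eq_one_of_sq_mem {P : Subgroup G} (hP : IsPGroup 2 P) {y : G} (hodd : Odd (orderOf y))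
    (h : y * y ∈ P) : y = 1 := by
  obtain ⟨k, hk⟩ := hP ⟨y * y, h⟩
  have hk' : (y * y) ^ (2 ^ k) = 1 := by simpa using congrArg Subtype.val hk
  rw [← sq, ← pow_mul] at hk'
  rw [← orderOf_eq_one_iff]
  refine Nat.eq_one_of_dvd_coprimes (Nat.Coprime.mul_right ?_ (Nat.Coprime.pow_right k ?_))
    dvd_rfl (orderOf_dvd_of_pow_eq_one hk') <;> exact Nat.coprime_two_right.2 hodd

theorem eq_one_of_mem_two {P : Subgroup G} (hP : IsPGroup 2 P) {y : G} (hodd : Odd (orderOf y))
    (h : y ∈ P) : y = 1 :=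
  eq_one_of_sq_mem hP hodd (P.mul_mem h h)

theorem two_pow_dvd_factorization {n k : ℕ} (hn : n ≠ 0) (h : 2 ^ k ∣ n) :
    2 ^ k ∣ 2 ^ n.factorization 2 :=
  Nat.pow_dvd_pow _ ((Nat.prime_two.pow_dvd_iff_le_factorization hn).1 h)

variable [Finite G]

/-- The number of pairs `(a, p)` with `a x a⁻¹ p` conjugate to `x`. -/
noncomputable def conjPairs (P : Subgroup G) (x : G) : ℕ :=
  Nat.card {yz : G × G // IsConj x yz.1 ∧ IsConj x yz.2 ∧ yz.1⁻¹ * yz.2 ∈ P}

/-- The conjugacy class, as a number. -/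
theorem card_conj_class (x : G) : Nat.card {y : G // IsConj x y} *
    Nat.card (Subgroup.centralizer ({x} : Set G)) = Nat.card G := by
  have h := Subgroup.index_mul_card (MulAction.stabilizer (ConjAct G) x)
  rw [MulAction.index_stabilizer] at h
  have e : (MulAction.orbit (ConjAct G) x).ncard = Nat.card {y : G // IsConj x y} := by
    rw [← Nat.card_coe_set_eq]
    exact Nat.card_congr (Equiv.setCongr (Set.ext fun y => by
      rw [ConjAct.mem_orbit_conjAct]; exact isConj_comm))
  rw [e] at h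
  have e2 : Nat.card (MulAction.stabilizer (ConjAct G) x) =
      Nat.card (Subgroup.centralizer ({x} : Set G)) := by
    rw [Subgroup.centralizer_eq_comap_stabilizer]
    exact (Nat.card_congr (ConjAct.toConjAct (G := G)).toEquiv.subtypeEquivOfSubtype).symm
  rw [e2] at h
  exact h

theorem orderOf_eq_of_isConj {x y : G} (h : IsConj x y) : orderOf y = orderOf x := by
  obtain ⟨c, rfl⟩ := isConj_iff.1 h
  exact (MulEquiv.orderOf_eq (MulAut.conj c) x)

theorem even_card_class {x : G} (hx : x ≠ 1) (hodd : Odd (orderOf x)) (hreal : IsConj x x⁻¹) :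
    Even (Nat.card {y : G // IsConj x y}) := by
  classical
  have := Fintype.ofFinite G
  have hinv : ∀ y, IsConj x y → IsConj x y⁻¹ := fun y hy => by
    obtain ⟨c, rfl⟩ := isConj_iff.1 hy
    rw [show (c * x * c⁻¹)⁻¹ = c * x⁻¹ * c⁻¹ by group]
    exact hreal.trans (isConj_iff.2 ⟨c, rfl⟩)
  let g : Function.End {y : G // IsConj x y} := fun y => ⟨y.1⁻¹, hinv _ y.2⟩
  have hg : g ^ 2 ^ 1 = 1 := by
    rw [pow_one, sq]
    funext y
    exact Subtype.ext (inv_inv _)
  have h := Equiv.Perm.card_fixedPoints_modEq (f := g) hg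
  have h0 : Fintype.card g.fixedPoints = 0 := by
    rw [Fintype.card_eq_zero_iff]
    refine ⟨fun y => ?_⟩
    have hy : y.1.1⁻¹ = y.1.1 := congrArg Subtype.val y.2
    have ho : Odd (orderOf y.1.1) := by rwa [orderOf_eq_of_isConj y.1.2]
    have h2 : y.1.1 * y.1.1 ∈ (⊥ : Subgroup G) := by
      rw [Subgroup.mem_bot]
      nth_rewrite 1 [← hy]
      exact inv_mul_cancel _
    have := eq_one_of_sq_mem IsPGroup.of_bot ho h2
    exact hx (orderOf_eq_one_iff.1 (by rw [← orderOf_eq_of_isConj y.1.2, this, orderOf_one]))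
  rw [h0, ← Nat.card_eq_fintype_card] at h
  exact Nat.even_iff.2 h

/-- Existence of the element `x`. -/
theorem exists_parity_element (P : Sylow 2 G) (hP : IsMulCommutative P)
    (hn : ¬ (P : Subgroup G).Normal) :
    ∃ x : G, x ≠ 1 ∧ Odd (orderOf x) ∧ IsConj x x⁻¹ ∧ Even (Nat.card {y : G // IsConj x y}) ∧
      ∃ n : ℕ, Odd n ∧ Nat.card (Subgroup.centralizer ({x} : Set G)) * conjPairs (P : Subgroup G) x =
        Nat.card (P : Subgroup G) * n := by
  classical
  haveI : Fact (Nat.Prime 2) := ⟨Nat.prime_two⟩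
  have hne : ∃ x : G, x ≠ 1 ∧ Odd (orderOf x) ∧ IsConj x x⁻¹ := by
    by_contra hcon
    push Not at hcon
    exact hn ((Cfsg.Agent.S3861.result P).1 hcon)
  haveI : Nonempty {x : G // x ≠ 1 ∧ Odd (orderOf x) ∧ IsConj x x⁻¹} :=
    let ⟨x, hx⟩ := hne; ⟨⟨x, hx⟩⟩
  obtain ⟨⟨x, hx1, hxo, hxr⟩, hmax⟩ :=
    Finite.exists_max fun x : {x : G // x ≠ 1 ∧ Odd (orderOf x) ∧ IsConj x x⁻¹} =>
      (Nat.card (Subgroup.centralizer ({x.1} : Set G))).factorization 2
  refine ⟨x, hx1, hxo, hxr, even_card_class hx1 hxo hxr, ?_⟩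
  set v := (Nat.card (Subgroup.centralizer ({x} : Set G))).factorization 2 with hv
  set Q := (P : Subgroup G) with hQ
  -- intersections with the other conjugates are small
  have claim : ∀ g : G, g ∉ Subgroup.normalizer (Q : Set G) →
      Nat.card ↥(Q ⊓ Q.map (MulAut.conj g).toMonoidHom) ∣ 2 ^ v := by
    intro g hg
    set R := Q ⊓ Q.map (MulAut.conj g).toMonoidHom with hR
    set C := Subgroup.centralizer (R : Set G) with hC
    have hPC : Q ≤ C := fun p hp => Subgroup.mem_centralizer_iff.2 fun r hr =>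
      congrArg Subtype.val (hP.is_comm.comm (⟨r, hr.1⟩ : Q) ⟨p, hp⟩)
    have hgC : Q.map (MulAut.conj g).toMonoidHom ≤ C := by
      rintro _ ⟨p, hp, rfl⟩
      refine Subgroup.mem_centralizer_iff.2 fun r hr => ?_
      obtain ⟨s, hs, rfl⟩ := hr.2
      rw [← map_mul, ← map_mul]
      exact congrArg _ (congrArg Subtype.val (hP.is_comm.comm (⟨s, hs⟩ : Q) ⟨p, hp⟩))
    have hnn : ¬ ((P.subtype hPC : Sylow 2 C) : Subgroup C).Normal := fun hN => by
      haveI := Sylow.unique_of_normal (P.subtype hPC) hN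
      let P' : Sylow 2 G := g • P
      have hP' : (P' : Subgroup G) ≤ C := hgC
      have he : P.subtype hPC = P'.subtype hP' := Subsingleton.elim _ _
      exact hg (Sylow.smul_eq_iff_mem_normalizer.1 (Sylow.subtype_injective he).symm)
    obtain ⟨z, hz1, hzo, hzr⟩ : ∃ z : C, z ≠ 1 ∧ Odd (orderOf z) ∧ IsConj z z⁻¹ := by
      by_contra hcon
      push Not at hcon
      exact hnn ((Cfsg.Agent.S3861.result (P.subtype hPC)).1 hcon)
    have hle : R ≤ Subgroup.centralizer ({(z : G)} : Set G) := fun r hr =>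
      Subgroup.mem_centralizer_singleton_iff.2 (Subgroup.mem_centralizer_iff.1 z.2 r hr)
    obtain ⟨a, ha⟩ := IsPGroup.iff_card.1 (P.isPGroup'.to_le (inf_le_left : R ≤ Q))
    have hd := Subgroup.card_dvd_of_le hle
    rw [ha] at hd ⊢
    refine Nat.pow_dvd_pow _ (le_trans ((Nat.prime_two.pow_dvd_iff_le_factorization
      Nat.card_pos.ne').1 hd) ?_)
    exact hmax ⟨(z : G), fun e => hz1 (Subtype.ext e), by rwa [Subgroup.orderOf_coe],
      C.subtype.map_isConj hzr⟩
  -- pairs of distinct conjugates in one coset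
  let X := {yz : G × G // IsConj x yz.1 ∧ IsConj x yz.2 ∧ yz.1⁻¹ * yz.2 ∈ Q}
  let D := {yz : X // yz.1.1 ≠ yz.1.2}
  have hconj : ∀ (p : Q) (a b : G), IsConj x a → IsConj x b → a⁻¹ * b ∈ Q →
      IsConj x (p * a * p⁻¹) ∧ IsConj x (p * b * p⁻¹) ∧
        ((p : G) * a * (p : G)⁻¹)⁻¹ * ((p : G) * b * (p : G)⁻¹) ∈ Q := fun p a b ha hb hab => by
    refine ⟨ha.trans (isConj_iff.2 ⟨p, rfl⟩), hb.trans (isConj_iff.2 ⟨p, rfl⟩), ?_⟩
    rw [show ((p : G) * a * (p : G)⁻¹)⁻¹ * (p * b * (p : G)⁻¹) = p * (a⁻¹ * b) * (p : G)⁻¹ by group]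
    exact Q.mul_mem (Q.mul_mem p.2 hab) (Q.inv_mem p.2)
  letI : MulAction Q D :=
    { smul := fun p d => ⟨⟨((p : G) * d.1.1.1 * (p : G)⁻¹, (p : G) * d.1.1.2 * (p : G)⁻¹),
          hconj p _ _ d.1.2.1 d.1.2.2.1 d.1.2.2.2⟩,
        fun e => d.2 (mul_left_cancel (mul_right_cancel e))⟩
      one_smul := fun d => by
        refine Subtype.ext (Subtype.ext (Prod.ext ?_ ?_))
        · show ((1 : Q) : G) * d.1.1.1 * ((1 : Q) : G)⁻¹ = d.1.1.1; simp
        · show ((1 : Q) : G) * d.1.1.2 * ((1 : Q) : G)⁻¹ = d.1.1.2; simp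
      mul_smul := fun p r d => by
        refine Subtype.ext (Subtype.ext (Prod.ext ?_ ?_))
        · show ((p * r : Q) : G) * d.1.1.1 * ((p * r : Q) : G)⁻¹ =
            (p : G) * ((r : G) * d.1.1.1 * (r : G)⁻¹) * (p : G)⁻¹
          push_cast; group
        · show ((p * r : Q) : G) * d.1.1.2 * ((p * r : Q) : G)⁻¹ =
            (p : G) * ((r : G) * d.1.1.2 * (r : G)⁻¹) * (p : G)⁻¹
          push_cast; group }
  set N := Subgroup.normalizer (Q : Set G) with hN
  have hQN : ∀ (p : Q) (a : G), (p : G) * a * (p : G)⁻¹ ∈ N ↔ a ∈ N := fun p a => by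
    rw [Subgroup.mul_mem_cancel_right _ (N.inv_mem (Subgroup.le_normalizer p.2)),
      Subgroup.mul_mem_cancel_left _ (Subgroup.le_normalizer p.2)]
  have hinv : ∀ y, IsConj x y → IsConj x y⁻¹ := fun y hy => by
    obtain ⟨c, rfl⟩ := isConj_iff.1 hy
    rw [show (c * x * c⁻¹)⁻¹ = c * x⁻¹ * c⁻¹ by group]
    exact hxr.trans (isConj_iff.2 ⟨c, rfl⟩)
  have hNmem : ∀ a b : G, a⁻¹ * b ∈ Q → (a ∈ N ↔ b ∈ N) := fun a b h => by
    rw [show b = a * (a⁻¹ * b) by group, Subgroup.mul_mem_cancel_right _ (Subgroup.le_normalizer h)]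
  have hτmem : ∀ a b : G, a⁻¹ * b ∈ Q → a ∈ N → (a⁻¹)⁻¹ * b⁻¹ ∈ Q := fun a b h ha => by
    rw [show (a⁻¹)⁻¹ * b⁻¹ = a * (a⁻¹ * b)⁻¹ * a⁻¹ by group]
    exact (Subgroup.mem_normalizer_iff.1 ha _).1 (Q.inv_mem h)
  let τ : D → D := fun d =>
    if hd : d.1.1.1 ∈ N then
      ⟨⟨(d.1.1.1⁻¹, d.1.1.2⁻¹), hinv _ d.1.2.1, hinv _ d.1.2.2.1, hτmem _ _ d.1.2.2.2 hd⟩,
        fun e => d.2 (inv_injective e)⟩
    else
      ⟨⟨(d.1.1.2, d.1.1.1), d.1.2.2.1, d.1.2.1, by simpa using Q.inv_mem d.1.2.2.2⟩,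
        fun e => d.2 e.symm⟩
  have hτin : ∀ d : D, d.1.1.1 ∈ N → (τ d).1.1 = (d.1.1.1⁻¹, d.1.1.2⁻¹) := fun d hd => by
    simp only [τ, dif_pos hd]
  have hτout : ∀ d : D, d.1.1.1 ∉ N → (τ d).1.1 = (d.1.1.2, d.1.1.1) := fun d hd => by
    simp only [τ, dif_neg hd]
  have hsm : ∀ (p : Q) (d : D),
      (p • d).1.1 = ((p : G) * d.1.1.1 * (p : G)⁻¹, (p : G) * d.1.1.2 * (p : G)⁻¹) :=
    fun _ _ => rfl
  have hdvd : 2 * Nat.card Q ∣ 2 ^ v * Nat.card D := by
    refine two_mul_card_dvd τ (fun d => ?_) (fun p d => ?_) (fun d => ?_) fun d hd => ?_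
    · refine Subtype.ext (Subtype.ext ?_)
      by_cases h : d.1.1.1 ∈ N
      · rw [hτin _ (by rw [hτin d h]; exact N.inv_mem h), hτin d h]; simp
      · rw [hτout _ (by rw [hτout d h]; exact fun e => h ((hNmem _ _ d.1.2.2.2).2 e)), hτout d h]
    · refine Subtype.ext (Subtype.ext ?_)
      by_cases h : d.1.1.1 ∈ N
      · rw [hτin _ (by rw [hsm]; exact (hQN p _).2 h), hsm, hsm, hτin d h]
        simp [mul_assoc]
      · rw [hτout _ (by rw [hsm]; exact fun e => h ((hQN p _).1 e)), hsm, hsm, hτout d h]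
    · -- the stabiliser centralises a conjugate of `x`
      obtain ⟨a, ha⟩ := IsPGroup.iff_card.1
        (P.isPGroup'.to_le (Subgroup.map_subtype_le (MulAction.stabilizer Q d)))
      rw [Subgroup.card_map_of_injective Q.subtype_injective] at ha
      obtain ⟨c, hc⟩ := isConj_iff.1 d.1.2.1
      have hle : ((MulAction.stabilizer Q d).map Q.subtype).map
          (MulAut.conj c⁻¹).toMonoidHom ≤ Subgroup.centralizer ({x} : Set G) := by
        rintro _ ⟨_, ⟨p, hp, rfl⟩, rfl⟩
        have hp' : (p • d).1.1 = d.1.1 := by rw [show p • d = d from hp]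
        rw [hsm] at hp'
        have h1 : (p : G) * d.1.1.1 * (p : G)⁻¹ = d.1.1.1 := congrArg Prod.fst hp'
        rw [Subgroup.mem_centralizer_singleton_iff]
        show c⁻¹ * (p : G) * c⁻¹⁻¹ * x = x * (c⁻¹ * (p : G) * c⁻¹⁻¹)
        rw [← hc] at h1
        calc c⁻¹ * (p : G) * c⁻¹⁻¹ * x
            = c⁻¹ * ((p : G) * (c * x * c⁻¹) * (p : G)⁻¹) * (p : G) * c := by group
          _ = _ := by rw [h1]; group
      have hd := Subgroup.card_dvd_of_le hle
      rw [Subgroup.card_map_of_injective (MulAut.conj c⁻¹).injective,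
        Subgroup.card_map_of_injective Q.subtype_injective, ha] at hd
      rw [ha]
      exact two_pow_dvd_factorization Nat.card_pos.ne' hd
    · obtain ⟨p, hp⟩ := hd
      have hp' : (p • τ d).1.1 = d.1.1 := by rw [hp]
      rw [hsm] at hp'
      by_cases h : d.1.1.1 ∈ N
      · exfalso
        rw [hτin d h] at hp'
        have h1 : (p : G) * d.1.1.1⁻¹ * (p : G)⁻¹ = d.1.1.1 := congrArg Prod.fst hp'
        set y := d.1.1.1
        have ho : Odd (orderOf y) := by rwa [orderOf_eq_of_isConj d.1.2.1]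
        have hy : y * y ∈ Q := by
          nth_rewrite 2 [← h1]
          rw [show y * ((p : G) * y⁻¹ * (p : G)⁻¹) = y * (p : G) * y⁻¹ * (p : G)⁻¹ by group]
          exact Q.mul_mem ((Subgroup.mem_normalizer_iff.1 h _).1 p.2) (Q.inv_mem p.2)
        have hy1 : y = 1 := eq_one_of_sq_mem P.isPGroup' ho hy
        exact hx1 (orderOf_eq_one_iff.1 (by rw [← orderOf_eq_of_isConj d.1.2.1]; simp [y, hy1]))
      · rw [hτout d h] at hp'
        set y := d.1.1.1
        set z := d.1.1.2
        have h1 : (p : G) * z * (p : G)⁻¹ = y := congrArg Prod.fst hp'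
        have hyz : y⁻¹ * z ∈ Q := d.1.2.2.2
        have hin : ∀ s : G, s ∈ Q → y⁻¹ * s * y ∈ Q →
            s ∈ Q ⊓ Q.map (MulAut.conj y).toMonoidHom := fun s h1 h2 =>
          ⟨h1, ⟨y⁻¹ * s * y, h2, by simp [MulAut.conj_apply]; group⟩⟩
        set R := Q ⊓ Q.map (MulAut.conj y).toMonoidHom with hR
        have hpR : (p : G) ∈ R := hin _ p.2 (by
          have e : y⁻¹ * (p : G) * y = y⁻¹ * (p : G) * z * (p : G)⁻¹ * ((p : G) * (z⁻¹ * y)) := by group
          rw [e, show y⁻¹ * (p : G) * z * (p : G)⁻¹ = y⁻¹ * ((p : G) * z * (p : G)⁻¹) by group, h1,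
            inv_mul_cancel, one_mul]
          exact Q.mul_mem p.2 (by simpa using Q.inv_mem hyz))
        set S := (MulAction.stabilizer Q d).map Q.subtype with hS
        have hSR : S < R := by
          refine lt_of_le_of_ne ?_ fun e => ?_
          · rintro _ ⟨r, hr, rfl⟩
            refine hin _ r.2 ?_
            have hr' : (r • d).1.1 = d.1.1 := by rw [show r • d = d from hr]
            rw [hsm] at hr'
            have h3 : (r : G) * y * (r : G)⁻¹ = y := congrArg Prod.fst hr'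
            show y⁻¹ * (r : G) * y ∈ Q
            rw [show y⁻¹ * (r : G) * y = y⁻¹ * ((r : G) * y * (r : G)⁻¹) * r by group, h3,
              inv_mul_cancel, one_mul]
            exact r.2
          · rw [← e] at hpR
            obtain ⟨r, hr, hrp⟩ := hpR
            obtain rfl : r = p := Subtype.ext hrp
            have hr' : (r • d).1.1 = d.1.1 := by rw [show r • d = d from hr]
            rw [hsm] at hr'
            have h3 : (r : G) * z * (r : G)⁻¹ = z := congrArg Prod.snd hr'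
            exact d.2 (h1.symm.trans h3)
        obtain ⟨a, ha⟩ := IsPGroup.iff_card.1 (P.isPGroup'.to_le (hSR.le.trans inf_le_left))
        obtain ⟨b, hb⟩ := IsPGroup.iff_card.1 (P.isPGroup'.to_le (inf_le_left : R ≤ Q))
        have hlt : 2 ^ a < 2 ^ b := by
          rw [← ha, ← hb]
          refine lt_of_le_of_ne (Subgroup.card_le_of_le hSR.le) fun e => hSR.ne ?_
          exact Subgroup.eq_of_le_of_card_ge hSR.le e.ge
        rw [← Subgroup.card_map_of_injective Q.subtype_injective (K := MulAction.stabilizer Q d),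
          ← hS, ha, ← pow_succ']
        refine dvd_trans (Nat.pow_dvd_pow 2 ?_) (hb ▸ claim y h)
        exact (Nat.pow_lt_pow_iff_right (by norm_num)).1 hlt
  -- the total
  have hX : conjPairs Q x = Nat.card {y : G // IsConj x y} + Nat.card D := by
    have e : Nat.card {yz : X // yz.1.1 = yz.1.2} = Nat.card {y : G // IsConj x y} :=
      Nat.card_congr
        { toFun := fun d => ⟨d.1.1.1, d.1.2.1⟩
          invFun := fun y => ⟨⟨(y.1, y.1), y.2, y.2, by simp⟩, rfl⟩
          left_inv := fun d => Subtype.ext (Subtype.ext (Prod.ext rfl d.2))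
          right_inv := fun y => rfl }
    rw [← e, ← Nat.card_sum]
    exact (Nat.card_congr (Equiv.sumCompl (fun yz : X => yz.1.1 = yz.1.2))).symm
  obtain ⟨c, hc, hC⟩ : ∃ c, Odd c ∧
      Nat.card (Subgroup.centralizer ({x} : Set G)) = 2 ^ v * c :=
    ⟨_, Nat.odd_iff.2 (Nat.two_dvd_ne_zero.1 (Nat.not_dvd_ordCompl Nat.prime_two Nat.card_pos.ne')),
      (Nat.ordProj_mul_ordCompl_eq_self _ 2).symm⟩
  obtain ⟨n, hn'⟩ := hdvd
  refine ⟨Q.index + c * (2 * n), ?_, ?_⟩
  · have hidx : Odd Q.index := Nat.odd_iff.2 (Nat.two_dvd_ne_zero.1 P.not_dvd_index)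
    exact hidx.add_even ((even_two_mul n).mul_left c)
  · rw [hX, mul_add, mul_comm (Nat.card (Subgroup.centralizer ({x} : Set G))) (Nat.card {y : G // _}),
      card_conj_class, ← Q.card_mul_index, hC, mul_comm (2 ^ v) c, mul_assoc c, hn']
    ring

end H32.RealOdd
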