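import Cfsg.Agent.H32.RealOddPairs
import Cfsg.Agent.H12.Products
import Cfsg.Agent.H20.Omega
import Cfsg.Agent.H20.Induced
import Cfsg.Agent.H20.OrthConv
import Cfsg.Agent.H20.SecondMainApps
import Cfsg.Prelude.Def_Blocks

/-!
# An irreducible character of even degree fixed by an involution

With abelian, non-normal Sylow 2-subgroup `P`: a degree preserving involution of the irreducible
characters which keeps the values at real elements of odd order and the multiplicity of the
trivial character on `P` fixes a character of even degree.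
-/

set_option autoImplicit false
set_option linter.all false

open Cfsg
open scoped ComplexConjugate

namespace H32.RealOdd

universe u

variable {G : Type u} [Group G] [Fintype G]

/-- The sum formula. -/
theorem conjPairs_formula (P : Subgroup G) [Fintype P] (x : G) :
    (conjPairs P x : ℂ) * (Nat.card (Subgroup.centralizer ({x} : Set G)) : ℂ) =
      ∑ χ : IrrCharacter G, centralChar (χ : G → ℂ) x * conj ((χ : G → ℂ) x) *
        ∑ p : P, (χ : G → ℂ) p := by
  classical
  set C := (Nat.card (Subgroup.centralizer ({x} : Set G)) : ℂ) with hCdef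
  have hC : C ≠ 0 := Nat.cast_ne_zero.2 Nat.card_pos.ne'
  -- count the pairs as a double sum
  let e : {yz : G × G // IsConj x yz.1 ∧ IsConj x yz.2 ∧ yz.1⁻¹ * yz.2 ∈ P} ≃
      {yp : G × P // IsConj x yp.1 ∧ IsConj x (yp.1 * yp.2)} :=
    { toFun := fun d => ⟨(d.1.1, ⟨d.1.1⁻¹ * d.1.2, d.2.2.2⟩), d.2.1, by simpa using d.2.2.1⟩
      invFun := fun d => ⟨(d.1.1, d.1.1 * d.1.2), d.2.1, d.2.2, by simp⟩
      left_inv := fun d => Subtype.ext (Prod.ext rfl (by simp))
      right_inv := fun d => Subtype.ext (Prod.ext rfl (Subtype.ext (by simp))) }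
  have hcount : (conjPairs P x : ℂ) = ∑ p : P,
      ∑ᶠ y ∈ {y : G | IsConj x y}, if IsConj x (y * (p : G)) then (1 : ℂ) else 0 := by
    rw [conjPairs, Nat.card_congr e, Nat.card_eq_fintype_card, Fintype.card_subtype,
      Finset.natCast_card_filter, Fintype.sum_prod_type_right]
    refine Finset.sum_congr rfl fun p _ => ?_
    rw [H20.finsum_mem_eq_sum_ite {y : G | IsConj x y}]
    refine Finset.sum_congr rfl fun y _ => ?_
    simp only [Set.mem_setOf_eq, ite_and]
  have hind : ∀ g : G, C * (if IsConj x g then (1 : ℂ) else 0) =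
      ∑ χ : IrrCharacter G, (χ : G → ℂ) g * conj ((χ : G → ℂ) x) := by
    intro g
    have h := congrArg conj (H12.column_orthogonality x g)
    rw [map_sum] at h
    simp only [map_mul, Complex.conj_conj] at h
    rw [mul_ite, mul_one, mul_zero]
    refine Eq.trans ?_ (h.symm.trans (Finset.sum_congr rfl fun χ _ => mul_comm _ _))
    split_ifs with hg <;> simp [hCdef]
  have hrow : ∀ p : P, C * C *
      (∑ᶠ y ∈ {y : G | IsConj x y}, if IsConj x (y * (p : G)) then (1 : ℂ) else 0) =
      ∑ χ : IrrCharacter G, conj ((χ : G → ℂ) x) *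
        ((Nat.card G : ℂ) * ((χ : G → ℂ) p * (χ : G → ℂ) x) / (χ : G → ℂ) 1) := by
    intro p
    rw [mul_assoc C C, mul_left_comm,
      ← H20.sum_conj_eq_card_mul_sum (fun y => if IsConj x (y * (p : G)) then (1 : ℂ) else 0) x,
      Finset.mul_sum]
    simp only [hind]
    rw [Finset.sum_comm]
    refine Finset.sum_congr rfl fun χ _ => ?_
    rw [← H12.irr_class_product χ (p : G) x, Finset.mul_sum]
    refine Fintype.sum_equiv (Equiv.inv G) _ _ fun a => ?_
    rw [mul_comm (conj _)]
    refine congrArg (· * _) ?_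
    rw [Equiv.inv_apply, inv_inv]
    exact (H12.IsClassFunction.of_isConj (H12.irr_isClassFunction χ)
      (isConj_iff.2 ⟨(p : G), by group⟩))
  refine mul_left_cancel₀ hC ?_
  calc C * ((conjPairs P x : ℂ) * C) = ∑ p : P, C * C *
      ∑ᶠ y ∈ {y : G | IsConj x y}, (if IsConj x (y * (p : G)) then (1 : ℂ) else 0) := by
        rw [hcount, ← Finset.mul_sum]; ring
    _ = C * _ := by
        simp only [hrow]
        rw [Finset.sum_comm, Finset.mul_sum]
        refine Finset.sum_congr rfl fun χ _ => ?_
        have hidx : C * ((Subgroup.centralizer ({x} : Set G)).index : ℂ) = (Nat.card G : ℂ) := by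
          rw [hCdef, ← Nat.cast_mul, Subgroup.card_mul_index]
        rw [Finset.mul_sum, Finset.mul_sum, Cfsg.centralChar, ← hidx]
        refine Finset.sum_congr rfl fun p _ => ?_
        ring

/-- A nonnegative integer: the multiplicity of the trivial character. -/
theorem exists_mult (P : Subgroup G) [Fintype P] (χ : IrrCharacter G) :
    ∃ m : ℕ, ∑ p : P, (χ : G → ℂ) p = (Nat.card P : ℂ) * m := by
  obtain ⟨m, hm⟩ := H12.IsCharacter.classInner_nat
    (H12.IsCharacter.res (H12.isCharacter_irr χ) P) (H12.isCharacter_irr (H12.oneIrr P))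
  refine ⟨m, ?_⟩
  rw [← hm, H12.classInner_def, mul_inv_cancel_left₀ (by exact_mod_cast Nat.card_pos.ne')]
  refine Finset.sum_congr rfl fun p _ => ?_
  rw [H12.oneIrr_apply, map_one, mul_one]

/-- The main lemma. -/
theorem exists_even_fixed (M : Ideal AlgInt) [M.IsPrime] (h2 : (2 : AlgInt) ∈ M)
    (P : Sylow 2 G) (hP : IsMulCommutative P) (hn : ¬ (P : Subgroup G).Normal)
    (T : IrrCharacter G → IrrCharacter G) (hTT : ∀ χ, T (T χ) = χ)
    (hT1 : ∀ χ : IrrCharacter G, (T χ : G → ℂ) 1 = (χ : G → ℂ) 1)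
    (hTreal : ∀ (χ : IrrCharacter G) (g : G), Odd (orderOf g) → IsConj g g⁻¹ → (T χ : G → ℂ) g = (χ : G → ℂ) g)
    (hTP : ∀ (χ : IrrCharacter G) (p : (P : Subgroup G)), (T χ : G → ℂ) p = (χ : G → ℂ) p) :
    ∃ χ : IrrCharacter G, Even (charDegree (χ : G → ℂ)) ∧ T χ = χ := by
  classical
  have := Fintype.ofFinite (P : Subgroup G)
  obtain ⟨x, hx1, hxo, hxr, hK, n, hn', hcount⟩ := exists_parity_element P hP hn
  choose m hm using exists_mult (P : Subgroup G)
  let a : IrrCharacter G → AlgInt := fun χ =>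
    ⟨centralChar (χ : G → ℂ) x, H20.isIntegral_centralChar χ x⟩ *
      ⟨conj ((χ : G → ℂ) x), H20.isIntegral_conj_irr χ x⟩ * (m χ : AlgInt)
  have hq : (Nat.card (P : Subgroup G) : ℂ) ≠ 0 := by exact_mod_cast Nat.card_pos.ne'
  have hsum : ∑ χ, a χ = (n : AlgInt) := by
    apply Subtype.ext
    refine mul_left_cancel₀ hq ?_
    have h := conjPairs_formula (P : Subgroup G) x
    rw [← Nat.cast_mul, mul_comm (conjPairs _ _), hcount, Nat.cast_mul] at h
    refine Eq.trans ?_ (h.symm.trans ?_)
    · simp only [AddSubmonoidClass.coe_finsetSum, Finset.mul_sum]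
      refine Finset.sum_congr rfl fun χ _ => ?_
      rw [← Finset.mul_sum, hm]
      simp only [a, MulMemClass.coe_mul]
      push_cast
      ring
    · simp
  let red := Ideal.Quotient.mk M
  have h20 : red 2 = 0 := Ideal.Quotient.eq_zero_iff_mem.2 h2
  have hpar : ∀ k : ℕ, red (k : AlgInt) = if Even k then 0 else 1 := by
    intro k
    rcases Nat.even_or_odd' k with ⟨j, rfl | rfl⟩
    · rw [if_pos (even_two_mul j), Nat.cast_mul, map_mul, Nat.cast_ofNat, h20, zero_mul]
    · rw [if_neg (Nat.not_even_iff_odd.2 ⟨j, rfl⟩), Nat.cast_add, Nat.cast_mul, map_add, map_mul,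
        Nat.cast_ofNat, h20, zero_mul, zero_add, Nat.cast_one, map_one]
  have hTm : ∀ χ, m (T χ) = m χ := fun χ => by
    have h := hm (T χ)
    simp only [hTP] at h
    rw [hm χ] at h
    exact_mod_cast (mul_left_cancel₀ hq h).symm
  have hTa : ∀ χ, a (T χ) = a χ := fun χ => by
    apply Subtype.ext
    simp only [a, MulMemClass.coe_mul, centralChar, hTreal χ x hxo hxr, hT1, hTm]
  by_contra hcon
  push Not at hcon
  have hfix : ∀ χ, T χ = χ → red (a χ) = 0 := by
    intro χ hχ
    have hd : ¬ Even (charDegree (χ : G → ℂ)) := fun he => hcon χ he hχ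
    have hmul : (charDegree (χ : G → ℂ) : AlgInt) * a χ =
        ((Subgroup.centralizer ({x} : Set G)).index : AlgInt) *
          (⟨(χ : G → ℂ) x, H20.isIntegral_irr χ x⟩ *
            ⟨conj ((χ : G → ℂ) x), H20.isIntegral_conj_irr χ x⟩ * (m χ : AlgInt)) := by
      apply Subtype.ext
      simp only [a, MulMemClass.coe_mul, centralChar]
      push_cast
      rw [show ((charDegree (χ : G → ℂ) : ℕ) : ℂ) = (χ : G → ℂ) 1 from (H12.irr_apply_one χ).symm]
      field_simp [H12.irr_apply_one_ne_zero χ]
    have hidx : Even (Subgroup.centralizer ({x} : Set G)).index := by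
      have h := card_conj_class x
      rw [← Subgroup.card_mul_index (Subgroup.centralizer ({x} : Set G)),
        mul_comm (Nat.card {y : G // _})] at h
      rw [← Nat.eq_of_mul_eq_mul_left Nat.card_pos h]
      exact hK
    have h := congrArg red hmul
    rw [map_mul red (charDegree (χ : G → ℂ) : AlgInt) (a χ),
      map_mul red ((Subgroup.centralizer ({x} : Set G)).index : AlgInt), hpar, hpar, if_neg hd,
      if_pos hidx, one_mul, zero_mul] at h
    exact h
  have h0 : ∑ χ, red (a χ) = 0 := by
    refine Finset.sum_involution (fun χ _ => T χ) (fun χ _ => ?_)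
      (fun χ _ hne hfixed => hne (hfix χ hfixed)) (fun χ _ => Finset.mem_univ _) (fun χ _ => hTT χ)
    rw [hTa, ← two_mul, show (2 : AlgInt ⧸ M) = red 2 from (map_ofNat red 2).symm, h20, zero_mul]
  rw [← map_sum, hsum, hpar, if_neg (Nat.not_even_iff_odd.2 hn')] at h0
  exact one_ne_zero h0

end H32.RealOdd
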