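import Cfsg.Agent.H52.ReeTorusCent
import Cfsg.Agent.H52.ReeTorusAct
import Cfsg.Agent.H52.ReeSylow
import Cfsg.Agent.H53.FieldAut

/-!
Field automorphisms of the small Ree groups.
-/

set_option autoImplicit false
set_option linter.unusedSectionVars false

namespace H32.ReeOut

open Cfsg.Lie H52 H53 H52.Ree2

variable {K : Type*} [Field K] {m : ℕ}

theorem map_wordMat (σ : K ≃+* K) (w : List (ℕ × K)) :
    (chevG2.wordMat K w).map σ = chevG2.wordMat K (w.map fun q => (q.1, σ q.2)) := by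
  induction w with
  | nil => simp [ChevalleyDatum.wordMat]
  | cons a w ih =>
    simp only [ChevalleyDatum.wordMat, List.map_cons, List.prod_cons] at ih ⊢
    rw [Matrix.map_mul, ih, chev_x_map]

theorem glMap_wordRt (σ : K ≃+* K) (w : List (ℕ × K)) :
    glMapEquiv σ (wordRt chevG2 w) = wordRt chevG2 (w.map fun q => (q.1, σ q.2)) := by
  apply Units.ext
  rw [glMapEquiv_coe, checkedG2.coe_wordRt, map_wordMat, checkedG2.coe_wordRt]

theorem map_reeWordU (σ : K ≃+* K) (e : ℕ) (t u v : K) :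
    (reeWordU e t u v).map (fun q => (q.1, σ q.2)) = reeWordU e (σ t) (σ u) (σ v) := by
  simp [reeWordU]

theorem map_reeWordV (σ : K ≃+* K) (e : ℕ) (t u v : K) :
    (reeWordV e t u v).map (fun q => (q.1, σ q.2)) = reeWordV e (σ t) (σ u) (σ v) := by
  simp [reeWordV_eq]

theorem glMap_mEl (σ : K ≃+* K) : glMapEquiv σ (mEl K) = mEl K := by
  rw [mEl, glMap_wordRt, List.map_map]
  congr 1
  refine List.map_congr_left fun q _ => ?_
  simp

theorem glMap_torus (σ : K ≃+* K) (p : Kˣ × Kˣ) :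
    glMapEquiv σ (H54.Ree.torus p) = H54.Ree.torus
      (Units.map (σ : K →* K) p.1, Units.map (σ : K →* K) p.2) := by
  apply Units.ext
  rw [glMapEquiv_coe, H54.Ree.torus_val, H54.Ree.torus_val]
  ext a b
  rcases a with a | a <;> rcases b with b | b <;>
    simp [ChevalleyDatum.charDiag, H54.Ree.chi, Matrix.diagonal_apply, apply_ite σ]

theorem glMap_mem (σ : K ≃+* K) {g : GL chevG2.Idx K} (hg : g ∈ RG K m) :
    glMapEquiv σ g ∈ RG K m := by
  have h : (RG K m).map (glMapEquiv σ).toMonoidHom ≤ RG K m := by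
    rw [RG, twistedG2, ChevalleyDatum.genSubgroup, MonoidHom.map_closure, Subgroup.closure_le]
    rintro _ ⟨g, ⟨w, ⟨t, u, v, hw⟩, e⟩, rfl⟩
    apply Subgroup.subset_closure
    refine ⟨w.map fun q => (q.1, σ q.2), ⟨σ t, σ u, σ v, ?_⟩, ?_⟩
    · rcases hw with rfl | rfl
      exacts [Or.inl (map_reeWordU σ _ t u v), Or.inr (map_reeWordV σ _ t u v)]
    · rw [MulEquiv.coe_toMonoidHom, glMapEquiv_coe, e, map_wordMat]
  exact h (Subgroup.mem_map_of_mem _ hg)

/-- The field automorphism of the small Ree group. -/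
noncomputable def fieldG (m : ℕ) (σ : K ≃+* K) : MulAut ↥(RG K m) where
  toFun g := ⟨glMapEquiv σ g.1, glMap_mem σ g.2⟩
  invFun g := ⟨glMapEquiv σ.symm g.1, glMap_mem σ.symm g.2⟩
  left_inv g := Subtype.ext (Units.ext (Matrix.ext fun _ _ => σ.symm_apply_apply _))
  right_inv g := Subtype.ext (Units.ext (Matrix.ext fun _ _ => σ.apply_symm_apply _))
  map_mul' g h := Subtype.ext (map_mul _ _ _)

theorem fieldG_val (σ : K ≃+* K) (g : ↥(RG K m)) :
    (fieldG m σ g : GL chevG2.Idx K) = glMapEquiv σ g.1 := rfl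

theorem fieldG_mul (σ τ : K ≃+* K) : fieldG m (σ * τ) = fieldG m σ * fieldG m τ :=
  MulEquiv.ext fun _ => Subtype.ext (Units.ext (Matrix.ext fun _ _ => rfl))

/-- The homomorphism to automorphisms. -/
noncomputable def fieldHom (m : ℕ) : (K ≃+* K) →* MulAut ↥(RG K m) :=
  MonoidHom.mk' (fieldG m) fieldG_mul

variable [Fintype K] (hK : Fintype.card K = 3 ^ (2 * m + 1))
include hK

theorem card_field_aut : Nat.card (K ≃+* K) = 2 * m + 1 := by
  haveI := H54.Ree.charP_three hK
  haveI : Fact (Nat.Prime 3) := ⟨Nat.prime_three⟩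
  letI : Algebra (ZMod 3) K := ZMod.algebra K 3
  have hfr : Module.finrank (ZMod 3) K = 2 * m + 1 := by
    have h := Module.card_eq_pow_finrank (K := ZMod 3) (V := K)
    rw [hK, ZMod.card] at h
    exact (Nat.pow_right_injective (by norm_num) h).symm
  rw [← hfr, ← IsGalois.card_aut_eq_finrank (ZMod 3) K]
  exact Nat.card_congr
    { toFun := fun σ => AlgEquiv.ofRingEquiv (f := σ) fun r =>
        DFunLike.congr_fun (Subsingleton.elim ((σ : K →+* K).comp (algebraMap (ZMod 3) K))
          (algebraMap (ZMod 3) K)) r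
      invFun := fun σ => σ.toRingEquiv
      left_inv := fun σ => rfl
      right_inv := fun σ => rfl }

theorem glMap_uW (σ : K ≃+* K) (t u v : K) :
    glMapEquiv σ (uW m t u v) = uW m (σ t) (σ u) (σ v) := by
  rw [uW, glMap_wordRt, map_reeWordU, uW]

theorem glMap_hA (σ : K ≃+* K) (a : Kˣ) :
    glMapEquiv σ (hA hK a) = hA hK (Units.map (σ : K →* K) a) := by
  rw [hA, glMap_torus, hA]
  congr 2
  apply Units.ext
  show σ (H54.Ree.frob hK (a : K)) = H54.Ree.frob hK (σ (a : K))
  rw [H54.Ree.frob_apply, H54.Ree.frob_apply, map_pow]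

end H32.ReeOut
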