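import Cfsg.Agent.H32.ReeOutField
import Cfsg.Agent.H1.SchurZassenhausConj

/-!
Rigidity of the small Ree groups: every automorphism is inner times a field automorphism.
-/

set_option autoImplicit false
set_option linter.unusedSectionVars false

namespace H32.ReeOut

open Cfsg.Lie H52 H53 H52.Ree2
open scoped Pointwise

variable {K : Type*} [Field K] [Fintype K] {m : ℕ} (hK : Fintype.card K = 3 ^ (2 * m + 1))

/-- `U(t,u,v)` in the group. -/
noncomputable def uG (t u v : K) : ↥(RG K m) :=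
  ⟨uW m t u v, (Subgroup.mem_inf.1 (uW_mem_U hK t u v)).2⟩

/-- The torus element in the group. -/
noncomputable def hG (a : Kˣ) : ↥(RG K m) :=
  ⟨hA hK a, (Subgroup.mem_inf.1 (hA_mem hK a)).2⟩

/-- The unipotent group inside the group. -/
abbrev UG (K : Type*) [Field K] (m : ℕ) : Subgroup ↥(RG K m) := (RU K m).subgroupOf (RG K m)

include hK

theorem uG_mem (t u v : K) : uG hK t u v ∈ UG K m := uW_mem_U hK t u v

theorem hG_mem (a : Kˣ) : hG hK a ∈ HG K m := hA_mem hK a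

theorem exists_uG {x : ↥(RG K m)} (hx : x ∈ UG K m) : ∃ t u v, x = uG hK t u v := by
  obtain ⟨t, u, v, e⟩ := exists_uW hK (Subgroup.mem_subgroupOf.1 hx)
  exact ⟨t, u, v, Subtype.ext e⟩

theorem exists_hG {x : ↥(RG K m)} (hx : x ∈ HG K m) : ∃ a, x = hG hK a := by
  obtain ⟨a, e⟩ := exists_hA hK (Subgroup.mem_subgroupOf.1 hx)
  exact ⟨a, Subtype.ext e⟩

theorem uG_inj {t u v t' u' v' : K} : uG hK t u v = uG hK t' u' v' ↔ t = t' ∧ u = u' ∧ v = v' := by
  rw [uG, uG, Subtype.mk.injEq, uW_inj hK]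

theorem uG_mul (t u v t' u' v' : K) : uG hK t u v * uG hK t' u' v' =
    uG hK (t + t') (u + u' - t * t' ^ (3 ^ (m + 1)))
      (v + v' - u * t' + t * t' ^ (3 ^ (m + 1)) * t' - t ^ 2 * t' ^ (3 ^ (m + 1))) :=
  Subtype.ext (uW_mul hK t u v t' u' v')

theorem uG_split (t u v : K) : uG hK t u v = uG hK t 0 0 * uG hK 0 u v := by
  have hr : 3 ^ (m + 1) ≠ 0 := by positivity
  rw [uG_mul hK, uG_inj hK]
  simp [zero_pow hr]

theorem uG_zero : uG hK (0 : K) 0 0 = 1 := Subtype.ext (uW_zero hK)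

theorem hG_mul (a b : Kˣ) : hG hK (a * b) = hG hK a * hG hK b := Subtype.ext (hA_mul hK a b)

theorem hG_one : hG hK (1 : Kˣ) = 1 := Subtype.ext (hA_one hK)

theorem hG_inj {a b : Kˣ} : hG hK a = hG hK b ↔ a = b := by
  rw [hG, hG, Subtype.mk.injEq, hA_inj hK]

theorem hG_comm (a b : Kˣ) : hG hK a * hG hK b = hG hK b * hG hK a := by
  rw [← hG_mul hK, ← hG_mul hK, mul_comm a b]

theorem hG_conj (a : Kˣ) (t u v : K) : hG hK a * uG hK t u v * (hG hK a)⁻¹ =
    uG hK ((a : K) ^ (3 ^ (m + 1)) * t) ((a : K) ^ (3 + 3 ^ (m + 1)) * u)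
      ((a : K) ^ (3 + 2 * 3 ^ (m + 1)) * v) :=
  Subtype.ext (hA_conj hK a t u v)

theorem uG_cube (t u v : K) :
    uG hK t u v * uG hK t u v * uG hK t u v = uG hK 0 0 (-(t ^ (3 ^ (m + 1) + 2))) :=
  Subtype.ext (uW_cube hK t u v)

theorem uG_cube_eq_one {t u v : K} :
    uG hK t u v * uG hK t u v * uG hK t u v = 1 ↔ t = 0 := by
  rw [← uW_sq_ne hK (t := t) (u := u) (v := v), Subtype.ext_iff]
  rfl

theorem uG_sec_ne : uG hK (0 : K) 1 0 ≠ 1 := by
  rw [← uG_zero hK, Ne, uG_inj hK]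
  simp

/-- After an inner automorphism, `U` and `H` are preserved. -/
theorem exists_normalised (α : MulAut ↥(RG K m)) :
    ∃ g : ↥(RG K m), (∀ x ∈ UG K m, (MulAut.conj g * α) x ∈ UG K m) ∧
      ∀ x ∈ HG K m, (MulAut.conj g * α) x ∈ HG K m := by
  classical
  haveI : Fact (Nat.Prime 3) := ⟨Nat.prime_three⟩
  obtain ⟨P0, hP0⟩ := exists_sylow hK
  obtain ⟨s, hs⟩ := MulAction.exists_smul_eq ↥(RG K m) (α • P0) P0
  set α1 := MulAut.conj s * α with hα1
  have hU1 : ∀ x ∈ UG K m, α1 x ∈ UG K m := by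
    intro x hx
    have h2 := congrArg (fun Q : Sylow 3 ↥(RG K m) => (Q : Subgroup ↥(RG K m))) hs
    simp only [Sylow.coe_subgroup_smul] at h2
    have hx' : MulAut.conj s • (α • x) ∈
        MulAut.conj s • (α • (P0 : Subgroup ↥(RG K m))) :=
      Subgroup.smul_mem_pointwise_smul _ _ _
        (Subgroup.smul_mem_pointwise_smul _ _ _ (hP0.symm ▸ hx))
    have hx'' : MulAut.conj s • (α • x) ∈ (P0 : Subgroup ↥(RG K m)) := h2 ▸ hx'
    rw [hP0] at hx''
    exact hx''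
  have hnorm : HG K m ≤ Subgroup.normalizer (UG K m : Set ↥(RG K m)) := by
    intro h hh
    rw [Subgroup.mem_normalizer_iff]
    intro x
    refine ⟨fun hx => ?_, fun hx => ?_⟩
    · exact H_conj_U hK (Subgroup.mem_subgroupOf.1 hh) (Subgroup.mem_subgroupOf.1 hx)
    · have := H_conj_U hK (Subgroup.mem_subgroupOf.1 (inv_mem hh)) (Subgroup.mem_subgroupOf.1 hx)
      rw [show x = h⁻¹ * (h * x * h⁻¹) * h⁻¹⁻¹ by group]
      exact this
  have hle : (HG K m).map α1.toMonoidHom ≤ UG K m ⊔ HG K m := by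
    rintro _ ⟨h, hh, rfl⟩
    have hx : uG hK (0 : K) 1 0 ∈ UG K m := uG_mem hK _ _ _
    have hhx : h * uG hK (0 : K) 1 0 * h⁻¹ ∈ UG K m :=
      (Subgroup.mem_normalizer_iff.1 (hnorm hh) _).1 hx
    have h1 := hU1 _ hhx
    rw [map_mul, map_mul, map_inv] at h1
    have hB : (α1 h : GL chevG2.Idx K) ∈ RB K m :=
      fusion hK (Subgroup.mem_subgroupOf.1 (hU1 _ hx))
        (fun e => uG_sec_ne hK (α1.injective ((Subtype.ext e : α1 (uG hK (0 : K) 1 0) = 1).trans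
          (map_one α1).symm))) (α1 h).2 (Subgroup.mem_subgroupOf.1 h1)
    obtain ⟨u, hu, k, hk, e⟩ := exists_UH hK hB
    have e' : α1 h = (⟨u, (Subgroup.mem_inf.1 hu).2⟩ : ↥(RG K m)) * ⟨k, (Subgroup.mem_inf.1 hk).2⟩ :=
      Subtype.ext e
    show α1 h ∈ _
    rw [e']
    exact mul_mem (Subgroup.mem_sup_left hu) (Subgroup.mem_sup_right hk)
  have hcU : Nat.card ↥(UG K m) = (3 ^ (2 * m + 1)) ^ 3 :=
    (Nat.card_congr (Subgroup.subgroupOfEquivOfLe inf_le_right).toEquiv).trans (card_U hK)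
  obtain ⟨hcyc, hcH⟩ := HG_cyclic hK
  have hcop : (Nat.card ↥(UG K m)).Coprime (Nat.card ↥(HG K m)) := by
    rw [hcU, hcH, ← pow_mul]
    refine ((Nat.Prime.coprime_iff_not_dvd Nat.prime_three).2 ?_).pow_left _
    have h1 : 3 ∣ 3 ^ (2 * m + 1) := dvd_pow_self 3 (by omega)
    have h2 : 1 ≤ 3 ^ (2 * m + 1) := Nat.one_le_pow _ _ (by norm_num)
    omega
  obtain ⟨d, hd, hdH⟩ := H1.exists_conj_eq_of_coprime hnorm hcop
    (Or.inr (haveI := hcyc; inferInstance)) hle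
    (Subgroup.card_map_of_injective α1.injective)
  refine ⟨d⁻¹ * s, fun x hx => ?_, fun x hx => ?_⟩
  · rw [map_mul, mul_assoc, MulAut.mul_apply, MulAut.conj_apply, inv_inv]
    exact mul_mem (mul_mem (inv_mem hd) (hU1 x hx)) hd
  · rw [map_mul, mul_assoc, MulAut.mul_apply, map_inv]
    have h1 : α1 x ∈ MulAut.conj d • HG K m := hdH ▸ ⟨x, hx, rfl⟩
    rw [Subgroup.mem_pointwise_smul_iff_inv_smul_mem] at h1
    exact h1

theorem fieldG_uG (σ : K ≃+* K) (t u v : K) :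
    fieldG m σ (uG hK t u v) = uG hK (σ t) (σ u) (σ v) := Subtype.ext (glMap_uW hK σ t u v)

theorem fieldG_hG (σ : K ≃+* K) (a : Kˣ) :
    fieldG m σ (hG hK a) = hG hK (Units.map (σ : K →* K) a) := Subtype.ext (glMap_hA hK σ a)

theorem fieldG_mG (σ : K ≃+* K) : fieldG m σ (mG hK) = mG hK := Subtype.ext (glMap_mEl σ)

theorem powR_bijective : Function.Bijective fun a : Kˣ => a ^ 3 ^ (m + 1) :=
  Finite.injective_iff_bijective.1 fun _ _ h => units_pow_r_inj hK h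

theorem three_K : (3 : K) = 0 := three_eq_zero hK

/-- A normalised automorphism is a torus element times a field automorphism on `H` and on `U/Z`. -/
theorem exists_semilinear (α : MulAut ↥(RG K m)) (hU : ∀ x ∈ UG K m, α x ∈ UG K m)
    (hH : ∀ x ∈ HG K m, α x ∈ HG K m) :
    ∃ (σ : K ≃+* K) (a0 : Kˣ),
      (∀ a, ((fieldG m σ)⁻¹ * MulAut.conj (hG hK a0) * α) (hG hK a) = hG hK a) ∧
      ∀ t u v, ∃ u' v', ((fieldG m σ)⁻¹ * MulAut.conj (hG hK a0) * α) (uG hK t u v) =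
        uG hK t u' v' := by
  classical
  choose φ hφ using fun a => exists_hG hK (hH _ (hG_mem hK a))
  choose F1 F2 F3 hF using fun t u v => exists_uG hK (hU _ (uG_mem hK t u v))
  have hφmul : ∀ a b, φ (a * b) = φ a * φ b := fun a b => by
    rw [← hG_inj hK, ← hφ, hG_mul hK, map_mul, hφ, hφ, hG_mul hK]
  have hsec : ∀ u v, F1 0 u v = 0 := fun u v => by
    rw [← uG_cube_eq_one hK (u := F2 0 u v) (v := F3 0 u v), ← hF, ← map_mul, ← map_mul,
      (uG_cube_eq_one hK).2 rfl, map_one]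
  have hgen : ∀ t u v, F1 t u v = F1 t 0 0 := fun t u v => by
    have e := hF t u v
    rw [uG_split hK, map_mul, hF, hF, uG_mul hK, uG_inj hK, hsec, add_zero] at e
    exact e.1.symm
  set φ1 : K → K := fun t => F1 t 0 0 with hφ1
  have hadd : ∀ t t', φ1 (t + t') = φ1 t + φ1 t' := fun t t' => by
    have e := congrArg α (uG_mul hK t 0 0 t' 0 0)
    rw [map_mul, hF, hF, hF, uG_mul hK, uG_inj hK] at e
    exact (hgen _ _ _).symm.trans e.1.symm
  have hker : ∀ t, φ1 t = 0 → t = 0 := fun t ht => by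
    have e : α (uG hK t 0 0 * uG hK t 0 0 * uG hK t 0 0) = 1 := by
      rw [map_mul, map_mul, hF, uG_cube_eq_one hK]
      exact ht
    rw [← map_one α] at e
    exact (uG_cube_eq_one hK).1 (α.injective e)
  have hequ : ∀ (a : Kˣ) t,
      φ1 ((a : K) ^ 3 ^ (m + 1) * t) = (φ a : K) ^ 3 ^ (m + 1) * φ1 t := fun a t => by
    have e := congrArg α (hG_conj hK a t 0 0)
    rw [map_mul, map_mul, map_inv, hφ, hF, hG_conj hK, mul_zero, mul_zero, hF, uG_inj hK] at e
    exact e.1.symm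
  have hc : φ1 1 ≠ 0 := fun h => one_ne_zero (hker 1 h)
  set c : Kˣ := Units.mk0 (φ1 1) hc with hcdef
  let σ0 : K → K := fun x => φ1 x / (c : K)
  have hσadd : ∀ x y, σ0 (x + y) = σ0 x + σ0 y := fun x y => by
    simp only [σ0, hadd, add_div]
  have hσ1 : σ0 1 = 1 := div_self hc
  have hσeq : ∀ (a : Kˣ) t,
      σ0 ((a : K) ^ 3 ^ (m + 1) * t) = (φ a : K) ^ 3 ^ (m + 1) * σ0 t := fun a t => by
    simp only [σ0, hequ, mul_div_assoc]
  have hσr : ∀ a : Kˣ, σ0 ((a : K) ^ 3 ^ (m + 1)) = (φ a : K) ^ 3 ^ (m + 1) := fun a => by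
    simpa [hσ1] using hσeq a 1
  have hσ0 : σ0 0 = 0 := by simpa using hσadd 0 0
  have hσmul : ∀ x y, σ0 (x * y) = σ0 x * σ0 y := fun x y => by
    rcases eq_or_ne x 0 with rfl | hx
    · rw [zero_mul, hσ0, zero_mul]
    · obtain ⟨a, ha⟩ := (powR_bijective hK).2 (Units.mk0 x hx)
      have hax : (a : K) ^ 3 ^ (m + 1) = x := by
        rw [← Units.val_pow_eq_pow_val]; exact congrArg Units.val ha
      rw [← hax, hσeq, hσr]
  let σh : K →+* K :=
    { toFun := σ0, map_one' := hσ1, map_mul' := hσmul, map_zero' := hσ0, map_add' := hσadd }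
  let σ : K ≃+* K := RingEquiv.ofBijective σh (Finite.injective_iff_bijective.1 σh.injective)
  have hσ : ∀ x, σ x = φ1 x / (c : K) := fun x => rfl
  have hφσ : ∀ a, φ a = Units.map (σ : K →* K) a := fun a => by
    refine units_pow_r_inj hK (Units.ext ?_)
    rw [Units.val_pow_eq_pow_val, Units.val_pow_eq_pow_val, ← hσr a]
    exact map_pow σh (a : K) _
  obtain ⟨a0, ha0⟩ := (powR_bijective hK).2 c⁻¹
  have ha0' : (a0 : K) ^ 3 ^ (m + 1) = (c : K)⁻¹ := by
    rw [← Units.val_pow_eq_pow_val, ← Units.val_inv_eq_inv_val]; exact congrArg Units.val ha0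
  refine ⟨σ, a0, fun a => ?_, fun t u v => ?_⟩
  · apply (fieldG m σ).injective
    rw [MulAut.mul_apply, MulAut.mul_apply, MulAut.apply_inv_self, MulAut.conj_apply, hφ,
      fieldG_hG hK, hG_comm hK, mul_inv_cancel_right, hφσ]
  · refine ⟨σ.symm ((a0 : K) ^ (3 + 3 ^ (m + 1)) * F2 t u v),
      σ.symm ((a0 : K) ^ (3 + 2 * 3 ^ (m + 1)) * F3 t u v), ?_⟩
    apply (fieldG m σ).injective
    rw [MulAut.mul_apply, MulAut.mul_apply, MulAut.apply_inv_self, MulAut.conj_apply, hF,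
      fieldG_uG hK, hG_conj hK, uG_inj hK, σ.apply_symm_apply, σ.apply_symm_apply, ha0', hgen,
      hσ, div_eq_mul_inv]
    exact ⟨mul_comm _ _, rfl, rfl⟩

/-- An automorphism fixing `H` and `U/Z` fixes `U`. -/
theorem fix_U (hm : 1 ≤ m) (β : MulAut ↥(RG K m)) (hH : ∀ a, β (hG hK a) = hG hK a)
    (hU : ∀ t u v, ∃ u' v', β (uG hK t u v) = uG hK t u' v') (t u v : K) :
    β (uG hK t u v) = uG hK t u v := by
  classical
  have h3 := three_K hK
  have hodd : Odd (3 ^ (m + 1)) := Odd.pow (by decide)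
  have hr0 : 3 ^ (m + 1) ≠ 0 := by positivity
  choose F2 F3 hF using hU
  have hn1 : ((-1 : Kˣ) : K) = -1 := rfl
  have e4 : (-1 : K) ^ (3 + 3 ^ (m + 1)) = 1 := (Odd.add_odd (by decide) hodd).neg_one_pow
  have e5 : (-1 : K) ^ (3 + 2 * 3 ^ (m + 1)) = -1 :=
    (Odd.add_even (by decide) (even_two_mul _)).neg_one_pow
  -- equivariance
  have heq : ∀ (a : Kˣ) t u v,
      F2 ((a : K) ^ 3 ^ (m + 1) * t) ((a : K) ^ (3 + 3 ^ (m + 1)) * u)
          ((a : K) ^ (3 + 2 * 3 ^ (m + 1)) * v) = (a : K) ^ (3 + 3 ^ (m + 1)) * F2 t u v ∧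
      F3 ((a : K) ^ 3 ^ (m + 1) * t) ((a : K) ^ (3 + 3 ^ (m + 1)) * u)
          ((a : K) ^ (3 + 2 * 3 ^ (m + 1)) * v) = (a : K) ^ (3 + 2 * 3 ^ (m + 1)) * F3 t u v := by
    intro a t u v
    have e := congrArg β (hG_conj hK a t u v)
    rw [map_mul, map_mul, map_inv, hH, hF, hF, hG_conj hK, uG_inj hK] at e
    exact ⟨e.2.1.symm, e.2.2.symm⟩
  have hsecadd : ∀ u v u' v', F2 0 (u + u') (v + v') = F2 0 u v + F2 0 u' v' ∧
      F3 0 (u + u') (v + v') = F3 0 u v + F3 0 u' v' := fun u v u' v' => by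
    have h0 : ∀ u v u' v' : K, uG hK 0 u v * uG hK 0 u' v' = uG hK 0 (u + u') (v + v') :=
      fun u v u' v' => by rw [uG_mul hK, uG_inj hK]; simp [zero_pow hr0]
    have e := congrArg β (h0 u v u' v')
    rw [map_mul, hF, hF, hF, h0, uG_inj hK] at e
    exact ⟨e.2.1.symm, e.2.2.symm⟩
  set P : K → K := fun u => F2 0 u 0 with hPdef
  set Q : K → K := fun v => F3 0 0 v with hQdef
  have hF2v : ∀ v, F2 0 0 v = 0 := fun v => by
    have e := (heq (-1) 0 0 v).1
    rw [hn1, e4, e5, mul_zero, one_mul, one_mul, neg_one_mul] at e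
    have e' := (hsecadd 0 v 0 (-v)).1
    rw [add_zero, add_neg_cancel] at e'
    have e0 := (hsecadd 0 0 0 0).1
    rw [add_zero, eq_comm, add_eq_left] at e0
    rw [e0, e] at e'
    linear_combination e' + (F2 0 0 v) * h3
  have hF3u : ∀ u, F3 0 u 0 = 0 := fun u => by
    have e := (heq (-1) 0 u 0).2
    rw [hn1, e4, e5, mul_zero, one_mul, mul_zero, neg_one_mul] at e
    linear_combination (-1 : K) * e + (F3 0 u 0) * h3
  have hsecval : ∀ u v, β (uG hK 0 u v) = uG hK 0 (P u) (Q v) := fun u v => by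
    have e := hsecadd u 0 0 v
    rw [add_zero, zero_add, hF2v, hF3u, add_zero, zero_add] at e
    rw [hF, e.1, e.2]
  have hPadd : ∀ x y, P (x + y) = P x + P y := fun x y => by
    simpa [P] using (hsecadd x 0 y 0).1
  have hQadd : ∀ x y, Q (x + y) = Q x + Q y := fun x y => by
    simpa [Q] using (hsecadd 0 x 0 y).2
  have hPeq : ∀ (a : Kˣ) u,
      P ((a : K) ^ (3 + 3 ^ (m + 1)) * u) = (a : K) ^ (3 + 3 ^ (m + 1)) * P u := fun a u => by
    simpa [P] using (heq a 0 u 0).1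
  have hQeq : ∀ (a : Kˣ) v,
      Q ((a : K) ^ (3 + 2 * 3 ^ (m + 1)) * v) = (a : K) ^ (3 + 2 * 3 ^ (m + 1)) * Q v :=
    fun a v => by simpa [Q] using (heq a 0 0 v).2
  -- `P` and `Q` are linear
  have hQsurj : Function.Surjective fun a : Kˣ => a ^ (3 + 2 * 3 ^ (m + 1)) := by
    refine (Finite.injective_iff_bijective.1 fun a b h => ?_).2
    have := units_pow_v hK (a := a * b⁻¹) (by rw [mul_pow, inv_pow, mul_inv_eq_one]; exact h)
    rwa [mul_inv_eq_one] at this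
  have hQlin : ∀ v, Q v = v * Q 1 := fun v => by
    rcases eq_or_ne v 0 with rfl | hv
    · simpa using hQadd 0 0
    · obtain ⟨a, ha⟩ := hQsurj (Units.mk0 v hv)
      have hav : (a : K) ^ (3 + 2 * 3 ^ (m + 1)) = v := by
        rw [← Units.val_pow_eq_pow_val]; exact congrArg Units.val ha
      have := hQeq a 1
      rwa [mul_one, hav] at this
  have hsq : ∀ y : K, y ≠ 0 → ∃ a : Kˣ, (a : K) ^ (3 + 3 ^ (m + 1)) = y ^ 2 := by
    intro y hy
    obtain ⟨r', hr'⟩ : Even (3 + 3 ^ (m + 1)) := Odd.add_odd (by decide) hodd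
    let S := (powMonoidHom 2 : Kˣ →* Kˣ).range
    let f : S → S := fun s => ⟨(s : Kˣ) ^ r', pow_mem s.2 r'⟩
    have hf : Function.Injective f := by
      rintro ⟨_, a, rfl⟩ ⟨_, b, rfl⟩ h
      have h' : (a ^ 2) ^ r' = (b ^ 2) ^ r' := congrArg Subtype.val h
      have := units_pow_u hK (a := a * b⁻¹) (by
        rw [show 3 + 3 ^ (m + 1) = 2 * r' by omega, pow_mul, mul_pow, inv_pow, mul_pow, inv_pow,
          mul_inv_eq_one]
        exact h')
      rw [mul_pow, inv_pow, mul_inv_eq_one] at this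
      exact Subtype.ext this
    obtain ⟨⟨_, a, rfl⟩, ha⟩ :=
      (Finite.injective_iff_bijective.1 hf).2 ⟨Units.mk0 y hy ^ 2, Units.mk0 y hy, rfl⟩
    refine ⟨a, ?_⟩
    have ha' : (a ^ 2) ^ r' = Units.mk0 y hy ^ 2 := congrArg Subtype.val ha
    have h' := congrArg Units.val ha'
    rw [Units.val_pow_eq_pow_val, Units.val_pow_eq_pow_val, Units.val_pow_eq_pow_val,
      Units.val_mk0, ← pow_mul] at h'
    rw [show 3 + 3 ^ (m + 1) = 2 * r' by omega, h']
  have hP0 : P 0 = 0 := by simpa using hPadd 0 0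
  have hPsq : ∀ y : K, P (y ^ 2) = y ^ 2 * P 1 := fun y => by
    rcases eq_or_ne y 0 with rfl | hy
    · rw [zero_pow two_ne_zero, hP0, zero_mul]
    · obtain ⟨a, ha⟩ := hsq y hy
      have := hPeq a 1
      rwa [mul_one, ha] at this
  have hPlin : ∀ u, P u = u * P 1 := fun u => by
    have h := hPadd u ((u - 1) ^ 2)
    rw [show u + (u - 1) ^ 2 = (u + 1) ^ 2 by linear_combination (-u) * h3, hPsq, hPsq] at h
    linear_combination (-1 : K) * h + (u * P 1) * h3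
  -- the first layer
  set f : K → K := fun t => F2 t 0 0 with hfdef
  set g : K → K := fun t => F3 t 0 0 with hgdef
  have hgen : ∀ t u v, β (uG hK t u v) = uG hK t (f t + P u) (g t + Q v) := fun t u v => by
    rw [uG_split hK, map_mul, hF, hsecval, uG_mul hK, uG_inj hK]
    refine ⟨add_zero t, ?_, ?_⟩ <;> simp [f, g, zero_pow hr0]
  have hprod : ∀ t t' : K,
      f (t + t') + P (-(t * t' ^ 3 ^ (m + 1))) = f t + f t' - t * t' ^ 3 ^ (m + 1) ∧
      g (t + t') + Q (t * t' ^ 3 ^ (m + 1) * t' - t ^ 2 * t' ^ 3 ^ (m + 1)) =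
        g t + g t' - f t * t' + t * t' ^ 3 ^ (m + 1) * t' - t ^ 2 * t' ^ 3 ^ (m + 1) := fun t t' => by
    have e := congrArg β (uG_mul hK t 0 0 t' 0 0)
    rw [map_mul, hF, hF, hgen, uG_mul hK, uG_inj hK] at e
    simp only [add_zero, zero_mul, sub_zero, zero_sub, zero_add] at e
    exact ⟨e.2.1.symm, e.2.2.symm⟩
  obtain ⟨t0, ht0, ht0r⟩ : ∃ t0 : K, t0 ≠ 0 ∧ t0 ^ 3 ^ (m + 1) ≠ t0 := by
    obtain ⟨z, hz⟩ := IsCyclic.exists_monoid_generator (α := Kˣ)
    refine ⟨z, z.ne_zero, fun h => ?_⟩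
    have h1 : z ^ (3 ^ (m + 1) - 1) = 1 := by
      apply Units.ext
      rw [Units.val_pow_eq_pow_val, Units.val_one]
      refine mul_right_cancel₀ z.ne_zero ?_
      rw [← pow_succ, one_mul, Nat.sub_add_cancel (Nat.one_le_pow _ _ (by norm_num))]
      exact h
    have h2 := Nat.le_of_dvd (by
      have : 1 < 3 ^ (m + 1) := Nat.one_lt_pow (by omega) (by norm_num)
      omega) (orderOf_dvd_of_pow_eq_one h1)
    rw [orderOf_eq_card_of_forall_mem_powers hz, Nat.card_units, Nat.card_eq_fintype_card, hK] at h2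
    have h4 : 3 ^ (m + 1) < 3 ^ (2 * m + 1) := Nat.pow_lt_pow_right (by norm_num) (by omega)
    have h5 : 1 ≤ 3 ^ (m + 1) := Nat.one_le_pow _ _ (by norm_num)
    revert h2 h4 h5
    generalize 3 ^ (m + 1) = r
    generalize 3 ^ (2 * m + 1) = q
    omega
  have hP1 : P 1 = 1 := by
    have e1 := (hprod t0 1).1
    have e2 := (hprod 1 t0).1
    rw [one_pow, mul_one, add_comm t0 1, hPlin] at e1
    rw [one_mul, hPlin] at e2
    have : (t0 ^ 3 ^ (m + 1) - t0) * (P 1 - 1) = 0 := by linear_combination e1 - e2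
    rcases mul_eq_zero.1 this with h | h
    · exact absurd (sub_eq_zero.1 h) ht0r
    · exact sub_eq_zero.1 h
  have hP : ∀ u, P u = u := fun u => by rw [hPlin, hP1, mul_one]
  have hfadd : ∀ x y, f (x + y) = f x + f y := fun x y => by
    have := (hprod x y).1
    rw [hP] at this
    linear_combination this
  have hf0 : ∀ x, f x = 0 := fun x => by
    have e00 : f 0 = 0 := by simpa using hfadd 0 0
    have em : f (-1) = f 1 := by
      have e := (heq (-1) 1 0 0).1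
      rw [hn1, e4, hodd.neg_one_pow, mul_one, mul_zero, mul_zero, one_mul] at e
      exact e
    have e1 : f 1 = 0 := by
      have e := hfadd 1 (-1)
      rw [add_neg_cancel, e00, em] at e
      linear_combination e + (f 1) * h3
    rcases eq_or_ne x 0 with rfl | hx
    · exact e00
    · obtain ⟨a, ha⟩ := (powR_bijective hK).2 (Units.mk0 x hx)
      have hax : (a : K) ^ 3 ^ (m + 1) = x := by
        rw [← Units.val_pow_eq_pow_val]; exact congrArg Units.val ha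
      have e := (heq a 1 0 0).1
      rw [hax, mul_one, mul_zero, mul_zero] at e
      show F2 x 0 0 = 0
      rw [e, show F2 (1 : K) 0 0 = 0 from e1, mul_zero]
  have hQ1 : Q 1 = 1 := by
    have e := congrArg β (uG_cube hK (1 : K) 0 0)
    rw [map_mul, map_mul, hF, hsecval, uG_cube hK, uG_inj hK, hQlin] at e
    rw [one_pow] at e
    linear_combination e.2.2
  have hQ : ∀ v, Q v = v := fun v => by rw [hQlin, hQ1, mul_one]
  have hgadd : ∀ x y, g (x + y) = g x + g y := fun x y => by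
    have := (hprod x y).2
    rw [hQ, hf0] at this
    linear_combination this
  have hgv : ∀ x : K, g x = g 1 * (x ^ 3 ^ (m + 1) * x ^ 2) := fun x => by
    rcases eq_or_ne x 0 with rfl | hx
    · rw [zero_pow hr0, zero_mul, mul_zero]; simpa using hgadd 0 0
    · obtain ⟨a, ha⟩ := (powR_bijective hK).2 (Units.mk0 x hx)
      have hax : (a : K) ^ 3 ^ (m + 1) = x := by
        rw [← Units.val_pow_eq_pow_val]; exact congrArg Units.val ha
      have e := (heq a 1 0 0).2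
      rw [mul_one, mul_zero, mul_zero] at e
      rw [← hax, pow_r_r hK]
      show F3 ((a : K) ^ 3 ^ (m + 1)) 0 0 = _
      rw [e]
      show (a : K) ^ (3 + 2 * 3 ^ (m + 1)) * g 1 = _
      ring
  have hg1 : g 1 = 0 := by
    have e := hgadd t0 1
    rw [hgv (t0 + 1), hgv t0] at e
    obtain ⟨φr, hφr⟩ : ∃ φr : K →+* K, ∀ x, φr x = x ^ 3 ^ (m + 1) :=
      ⟨H54.Ree.frob hK, H54.Ree.frob_apply hK⟩
    rw [show (t0 + 1) ^ 3 ^ (m + 1) = t0 ^ 3 ^ (m + 1) + 1 by
      rw [← hφr, map_add, map_one, hφr]] at e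
    have hne : (1 - t0) * (t0 ^ 3 ^ (m + 1) - t0) ≠ 0 := by
      refine mul_ne_zero (fun h => ?_) (sub_ne_zero.2 ht0r)
      rw [sub_eq_zero] at h
      exact ht0r (by rw [← h, one_pow])
    refine (mul_eq_zero.1 (show g 1 * ((1 - t0) * (t0 ^ 3 ^ (m + 1) - t0)) = 0 from ?_)).resolve_right hne
    linear_combination e - (g 1 * t0 ^ 3 ^ (m + 1) * t0) * h3 - (g 1 * t0) * h3
  rw [hgen, hP, hQ, hf0, hgv, hg1, zero_mul, zero_add, zero_add]

/-- An automorphism fixing `U` and `H` fixes the Weyl element. -/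
theorem fix_mG (hm : 1 ≤ m) (β : MulAut ↥(RG K m)) (hH : ∀ a, β (hG hK a) = hG hK a)
    (hU : ∀ t u v, β (uG hK t u v) = uG hK t u v) : β (mG hK) = mG hK := by
  classical
  set n := mG hK with hn
  have hinv : ∀ a, n * hG hK a * n⁻¹ = (hG hK a)⁻¹ := fun a =>
    Subtype.ext (m_conj_H hK (hA_mem hK a))
  have hnH : n ∉ HG K m := fun h =>
    mEl_not_mem_B hK (Subgroup.mem_inf.1 (H_le_B' hK (Subgroup.mem_subgroupOf.1 h))).1
  have hfixH : ∀ x ∈ HG K m, β x = x := fun x hx => by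
    obtain ⟨a, rfl⟩ := exists_hG hK hx
    exact hH a
  have hN : β n ∈ Subgroup.normalizer (HG K m : Set ↥(RG K m)) := by
    have key : ∀ a, β n * hG hK a * (β n)⁻¹ = (hG hK a)⁻¹ := fun a => by
      rw [← hH a, ← map_inv, ← map_mul, ← map_mul, hinv, map_inv]
    rw [Subgroup.mem_normalizer_iff]
    intro x
    refine ⟨fun hx => ?_, fun hx => ?_⟩
    · obtain ⟨a, rfl⟩ := exists_hG hK hx
      rw [key]; exact inv_mem (hG_mem hK a)
    · obtain ⟨a, ha⟩ := exists_hG hK hx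
      have : x = (hG hK a)⁻¹ := by
        rw [show x = (β n)⁻¹ * (β n * x * (β n)⁻¹) * β n by group, ha]
        have := key a⁻¹
        rw [show hG hK a⁻¹ = (hG hK a)⁻¹ from eq_inv_of_mul_eq_one_left (by
          rw [← hG_mul hK, inv_mul_cancel, hG_one hK]), inv_inv] at this
        conv_lhs => rw [← this]
        group
      rw [this]; exact inv_mem (hG_mem hK a)
  rcases normalizer_HG_cases hK hm hN with h | h
  · exact absurd (by
      have := hfixH _ h
      exact (β.injective this) ▸ h) hnH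
  obtain ⟨b, hb⟩ := exists_hG hK h
  have hbn : β n = hG hK b * n := by rw [← hb, inv_mul_cancel_right]
  -- conjugates of the negative root elements
  let vG : K → K → ↥(RG K m) := fun u v =>
    ⟨wordRt chevG2 (reeWordV (3 ^ m) 0 u v), wordV_mem hK 0 u v⟩
  have hV : ∀ u v, ∃ x ∈ UG K m, vG u v = n⁻¹ * x * n := fun u v => by
    refine ⟨n * vG u v * n⁻¹, ?_, by group⟩
    obtain ⟨hzm, hz⟩ := vEl_mem hK 0 u v
    refine Subgroup.mem_inf.2 ⟨?_, (n * vG u v * n⁻¹).2⟩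
    have := (mem_pos_iff checkedG2 weylForG2 _).2 hzm
    show mEl K * wordRt chevG2 (reeWordV (3 ^ m) 0 u v) * (mEl K)⁻¹ ∈ _
    rw [mEl_eq (three_eq_zero hK)]
    exact this
  have hVmap : ∀ u v, β (vG u v) = hG hK b * vG u v * (hG hK b)⁻¹ := fun u v => by
    obtain ⟨x, hx, e⟩ := hV u v
    obtain ⟨t', u', v', rfl⟩ := exists_uG hK hx
    rw [e, map_mul, map_mul, map_inv, hU, hbn]
    have h1 : n * hG hK b = (hG hK b)⁻¹ * n := by rw [← hinv b]; group
    have h2 : n⁻¹ * (hG hK b)⁻¹ = hG hK b * n⁻¹ := by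
      rw [← hinv b]; group
    rw [mul_inv_rev, h2]
    have h3 : n * (hG hK b)⁻¹ = hG hK b * n := by
      calc n * (hG hK b)⁻¹ = (n * hG hK b * n⁻¹)⁻¹ * n := by group
        _ = hG hK b * n := by rw [hinv b, inv_inv]
    rw [show hG hK b * (n⁻¹ * uG hK t' u' v' * n) * (hG hK b)⁻¹ =
      hG hK b * n⁻¹ * uG hK t' u' v' * (n * (hG hK b)⁻¹) by group, h3]
  have hm0 : 3 ^ m ≠ 0 := by positivity
  have eV1 : n = uG hK 0 1 0 * vG 1 0 * uG hK 0 1 0 := by
    apply Subtype.ext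
    show mEl K = uW m 0 1 0 * wordRt chevG2 (reeWordV (3 ^ m) 0 1 0) * uW m 0 1 0
    simp [mEl, mConst, uW, wordRt, reeWordU, reeWordV_eq, zero_pow hm0, mul_assoc, g2a, g2b, g2ab,
      g2aab, g2aaab, g2aaabb]
  have hrefl : ∀ x : GL chevG2.Idx K, x ∈ RU K m → (mEl K)⁻¹ * x * mEl K ∈ RB K m → x = 1 := by
    intro x hx hB
    refine m_U_m_inter_B hK hx ?_
    have hmm := H_le_B' hK (mm_mem_H hK)
    have := mul_mem (mul_mem hmm hB) (inv_mem hmm)
    rw [show mEl K * mEl K * ((mEl K)⁻¹ * x * mEl K) * (mEl K * mEl K)⁻¹ =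
      mEl K * x * (mEl K)⁻¹ by group] at this
    exact (Subgroup.mem_inf.1 this).1
  have hb2 : b ^ 2 = 1 := by
    have e := congrArg β eV1
    rw [hbn, map_mul, map_mul, hU, hVmap] at e
    set U1 := uG hK (0 : K) 1 0 with hU1
    set B := hG hK b with hB
    have h2 : vG 1 0 = U1⁻¹ * n * U1⁻¹ := by rw [eV1]; group
    rw [h2] at e
    have e' : B⁻¹ * U1 * B * U1⁻¹ * n = n * (U1⁻¹ * B * U1) := by
      calc B⁻¹ * U1 * B * U1⁻¹ * n
          = B⁻¹ * (U1 * (B * (U1⁻¹ * n * U1⁻¹) * B⁻¹) * U1) * (U1⁻¹ * B * U1) := by group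
        _ = B⁻¹ * (B * n) * (U1⁻¹ * B * U1) := by rw [← e]
        _ = n * (U1⁻¹ * B * U1) := by group
    have hbi : hG hK b⁻¹ = B⁻¹ := eq_inv_of_mul_eq_one_left (by
      rw [← hG_mul hK, inv_mul_cancel, hG_one hK])
    have hc := hG_conj hK b⁻¹ 0 1 0
    rw [hbi, inv_inv, ← hU1, mul_zero, mul_one, mul_zero] at hc
    have hX : B⁻¹ * U1 * B * U1⁻¹ ∈ UG K m := by
      rw [hc]
      exact mul_mem (uG_mem hK _ _ _) (inv_mem (uG_mem hK _ _ _))
    have h1 : (1 : GL chevG2.Idx K) = ((B⁻¹ * U1 * B * U1⁻¹ : ↥(RG K m)) : GL chevG2.Idx K) := by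
      refine cell_unique hK (one_mem _) (Subgroup.mem_subgroupOf.1 hX) ?_
      have h := congrArg (fun z : ↥(RG K m) => (n : GL chevG2.Idx K)⁻¹ * z.1) e'
      simp only [Subgroup.coe_mul, inv_mul_cancel_left] at h
      rw [one_mul]
      show (n : GL chevG2.Idx K)⁻¹ * ((B⁻¹ * U1 * B * U1⁻¹ : ↥(RG K m)).1 * n.1) ∈ _
      simp only [Subgroup.coe_mul]
      rw [h]
      exact mul_mem (mul_mem (inv_mem ((Subgroup.mem_inf.1 (U_le_B hK (uG_mem hK 0 1 0))).1))
        (Subgroup.mem_inf.1 (H_le_B' hK (hA_mem hK b))).1)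
        (Subgroup.mem_inf.1 (U_le_B hK (uG_mem hK 0 1 0))).1
    have h1' : B⁻¹ * U1 * B * U1⁻¹ = 1 := Subtype.ext h1.symm
    rw [mul_inv_eq_one, hc, uG_inj hK] at h1'
    have hu := units_pow_u hK (a := b⁻¹) (Units.ext (by
      rw [Units.val_pow_eq_pow_val, Units.val_one]; exact h1'.2.1))
    rwa [inv_pow, inv_eq_one] at hu
  rcases eq_or_ne b 1 with rfl | hb1
  · rw [hbn, hG_one hK, one_mul]
  exfalso
  have hbm : b = -1 := by
    have h := congrArg Units.val hb2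
    rw [Units.val_pow_eq_pow_val, Units.val_one, sq_eq_one_iff] at h
    exact Units.ext (h.resolve_left fun e => hb1 (Units.ext e))
  subst hbm
  have hodd : Odd (3 ^ (m + 1)) := Odd.pow (by decide)
  set J := hG hK (-1 : Kˣ) with hJ
  have hJv : (J : GL chevG2.Idx K) = H54.Ree.torus ((-1 : Kˣ), (-1 : Kˣ)) := by
    show H54.Ree.torus (_, _) = _
    congr 2
    apply Units.ext
    show H54.Ree.frob hK ((-1 : Kˣ) : K) = _
    rw [H54.Ree.frob_apply, Units.val_neg, Units.val_one, hodd.neg_one_pow]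
  have ht : H54.Ree.torus ((-1 : Kˣ), (-1 : Kˣ)) =
      wordRt chevG2 (hConst.map fun q => (q.1, (q.2 : K))) := by
    obtain ⟨p1, p2, -, -⟩ := H54.Ree.pairing_pair
    apply Units.ext
    have h := H54.Ree.hMat_eq_torus (K := K) g2ab (by decide) (-1)
    rw [p1, p2] at h
    rw [checkedG2.coe_wordRt]
    rw [show ((-1 : Kˣ), (-1 : Kˣ)) = ((-1 : Kˣ) ^ (-1 : ℤ), (-1 : Kˣ) ^ (3 : ℤ)) by
      refine Prod.ext ?_ ?_
      · simp
      · show (-1 : Kˣ) = (-1) ^ ((3 : ℕ) : ℤ)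
        rw [zpow_natCast, Odd.neg_one_pow (by decide)], ← h]
    simp [ChevalleyDatum.hMat, ChevalleyDatum.hWord, ChevalleyDatum.nWord, hConst,
      show chevG2.neg 8 = 3 from by decide +kernel, g2ab, ChevalleyDatum.wordMat]
  have hJeq : J = uG hK 1 0 0 * (vG (-1) 0 * vG 0 (-1)) * uG hK 0 0 1 * vG (-1) 0 := by
    apply Subtype.ext
    rw [hJv, ht, ← const_eq (three_eq_zero hK) jCert]
    show _ = uW m 1 0 0 * (wordRt chevG2 (reeWordV (3 ^ m) 0 (-1) 0) *
      wordRt chevG2 (reeWordV (3 ^ m) 0 0 (-1))) * uW m 0 0 1 *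
      wordRt chevG2 (reeWordV (3 ^ m) 0 (-1) 0)
    simp [jConst, wordRt, reeWordU, reeWordV_eq, uW,
      zero_pow hm0, neg_one_pow_e hK, mul_assoc, g2a, g2b, g2ab, g2aab, g2aaab, g2aaabb]
  set A := J * (vG (-1) 0 * vG 0 (-1)) * J⁻¹ with hA
  set C := J * vG (-1) 0 * J⁻¹ with hC
  have e1 : J = uG hK 1 0 0 * A * uG hK 0 0 1 * C := by
    have e := congrArg β hJeq
    rw [map_mul, map_mul, map_mul, map_mul, hH, hU, hU, hVmap, hVmap, ← hJ] at e
    refine e.trans ?_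
    rw [hA, hC]
    group
  have hcw := hG_conj hK (-1 : Kˣ) 1 0 0
  have hcu := hG_conj hK (-1 : Kˣ) 0 0 1
  rw [Units.val_neg, Units.val_one, hodd.neg_one_pow, mul_one, mul_zero, mul_zero, ← hJ] at hcw
  rw [Units.val_neg, Units.val_one,
    ((Odd.add_even (show Odd 3 by decide) (even_two_mul _))).neg_one_pow, mul_one, mul_zero,
    mul_zero, ← hJ] at hcu
  have e2 : J = uG hK (-1) 0 0 * A * uG hK 0 0 (-1) * C := by
    rw [← hcw, ← hcu, hA, hC]
    calc J = J * J * J⁻¹ := by group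
      _ = J * (uG hK 1 0 0 * (vG (-1) 0 * vG 0 (-1)) * uG hK 0 0 1 * vG (-1) 0) * J⁻¹ := by
        rw [← hJeq]
      _ = _ := by group
  have e3 : A⁻¹ * ((uG hK (-1) 0 0)⁻¹ * uG hK 1 0 0) * A⁻¹⁻¹ =
      uG hK 0 0 (-1) * (uG hK 0 0 1)⁻¹ := by
    have e4 : uG hK 1 0 0 * A * uG hK 0 0 1 = uG hK (-1) 0 0 * A * uG hK 0 0 (-1) :=
      mul_right_cancel (e1.symm.trans e2)
    calc A⁻¹ * ((uG hK (-1) 0 0)⁻¹ * uG hK 1 0 0) * A⁻¹⁻¹
        = A⁻¹ * (uG hK (-1) 0 0)⁻¹ * (uG hK 1 0 0 * A * uG hK 0 0 1) * (uG hK 0 0 1)⁻¹ := by group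
      _ = A⁻¹ * (uG hK (-1) 0 0)⁻¹ * (uG hK (-1) 0 0 * A * uG hK 0 0 (-1)) *
          (uG hK 0 0 1)⁻¹ := by rw [e4]
      _ = _ := by group
  have hne : (uG hK (-1 : K) 0 0)⁻¹ * uG hK 1 0 0 ≠ 1 := fun h => by
    rw [inv_mul_eq_one, uG_inj hK] at h
    exact one_ne_zero (show (1 : K) = 0 by linear_combination h.1 + three_eq_zero hK)
  have hAB : ((A⁻¹ : ↥(RG K m)) : GL chevG2.Idx K) ∈ RB K m := by
    refine fusion hK (x := (((uG hK (-1) 0 0)⁻¹ * uG hK 1 0 0 : ↥(RG K m)) : GL chevG2.Idx K))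
      ?_ (fun h => hne (Subtype.ext h)) (A⁻¹).2 ?_
    · exact Subgroup.mem_subgroupOf.1 (mul_mem (inv_mem (uG_mem hK _ _ _)) (uG_mem hK _ _ _))
    · have h : A⁻¹ * ((uG hK (-1) 0 0)⁻¹ * uG hK 1 0 0) * A⁻¹⁻¹ ∈ UG K m := by
        rw [e3]; exact mul_mem (uG_mem hK _ _ _) (inv_mem (uG_mem hK _ _ _))
      exact Subgroup.mem_subgroupOf.1 h
  obtain ⟨x1, hx1, ev1⟩ := hV (-1) 0
  obtain ⟨x2, hx2, ev2⟩ := hV 0 (-1)
  have hA1 : A = 1 := by
    have hJB : ((J : ↥(RG K m)) : GL chevG2.Idx K) ∈ RB K m := H_le_B' hK (hA_mem hK _)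
    have h := mul_mem (mul_mem (inv_mem hJB) (inv_mem hAB)) hJB
    have hx : (x1 * x2 : ↥(RG K m)) = 1 := by
      apply Subtype.ext
      refine hrefl _ (Subgroup.mem_subgroupOf.1 (mul_mem hx1 hx2)) ?_
      have hval : (J⁻¹ * A⁻¹⁻¹ * J : ↥(RG K m)) = n⁻¹ * (x1 * x2) * n := by
        rw [hA, ev1, ev2]; group
      have := congrArg Subtype.val hval
      simp only [Subgroup.coe_mul, Subgroup.coe_inv] at this h ⊢
      rw [this] at h
      exact h
    rw [hA, ev1, ev2]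
    calc J * (n⁻¹ * x1 * n * (n⁻¹ * x2 * n)) * J⁻¹ = J * (n⁻¹ * (x1 * x2) * n) * J⁻¹ := by group
      _ = 1 := by rw [hx]; group
  rw [hA1] at e3
  have e5 := congrArg (fun z => uG hK (-1) 0 0 * z * uG hK 0 0 1) e3
  simp only [inv_one, one_mul, mul_one, mul_inv_cancel_left, mul_assoc, inv_mul_cancel] at e5
  rw [uG_mul hK, uG_mul hK, uG_inj hK] at e5
  refine one_ne_zero (show (1 : K) = 0 from ?_)
  linear_combination (-1 : K) * e5.1 + three_eq_zero hK

/-- Every automorphism is inner times a field automorphism. -/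
theorem aut_decomp (hm : 1 ≤ m) (α : MulAut ↥(RG K m)) :
    ∃ (g : ↥(RG K m)) (σ : K ≃+* K), α = MulAut.conj g * fieldG m σ := by
  obtain ⟨g, hU, hH⟩ := exists_normalised hK α
  obtain ⟨σ, a0, hfH, hfU⟩ := exists_semilinear hK (MulAut.conj g * α) hU hH
  set β := (fieldG m σ)⁻¹ * MulAut.conj (hG hK a0) * (MulAut.conj g * α) with hβ
  have hUfix := fix_U hK hm β hfH hfU
  have hnfix := fix_mG hK hm β hfH hUfix
  let S : Subgroup ↥(RG K m) := β.toMonoidHom.eqLocus (MonoidHom.id _)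
  have key : RG K m ≤ S.map (RG K m).subtype := by
    refine (Subgroup.closure_le _).2 ?_
    rintro z ⟨w, ⟨t, u, v, rfl | rfl⟩, e⟩
    · rw [word_eq_wordRt checkedG2 e]
      exact ⟨uG hK t u v, hUfix t u v, rfl⟩
    · rw [word_eq_wordRt checkedG2 e]
      obtain ⟨hzm, -⟩ := vEl_mem hK t u v
      set z : ↥(RG K m) := ⟨wordRt chevG2 (reeWordV (3 ^ m) t u v), wordV_mem hK t u v⟩
      have hconj : mG hK * z * (mG hK)⁻¹ ∈ UG K m := by
        refine Subgroup.mem_inf.2 ⟨?_, (mG hK * z * (mG hK)⁻¹).2⟩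
        have := (mem_pos_iff checkedG2 weylForG2 _).2 hzm
        show mEl K * wordRt chevG2 (reeWordV (3 ^ m) t u v) * (mEl K)⁻¹ ∈ _
        rw [mEl_eq (three_eq_zero hK)]
        exact this
      obtain ⟨t', u', v', e'⟩ := exists_uG hK hconj
      refine ⟨z, ?_, rfl⟩
      have h1 : uG hK t' u' v' ∈ S := hUfix t' u' v'
      have h2 : mG hK ∈ S := hnfix
      have h3 := mul_mem (mul_mem (inv_mem h2) h1) h2
      rw [← e'] at h3
      simpa [mul_assoc] using h3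
  have hβ1 : β = 1 := MulEquiv.ext fun x => by
    obtain ⟨y, hy, e⟩ := key x.2
    obtain rfl : y = x := Subtype.ext e
    exact hy
  refine ⟨g⁻¹ * (hG hK a0)⁻¹ * 1, σ, ?_⟩
  rw [mul_one, map_mul, map_inv, map_inv]
  rw [hβ, mul_assoc, inv_mul_eq_one] at hβ1
  rw [hβ1]
  group

/-- A field automorphism which is inner is trivial. -/
theorem field_not_inner {σ : K ≃+* K} {g : ↥(RG K m)} (h : MulAut.conj g = fieldG m σ) :
    σ = 1 := by
  have hconj : ∀ t u v, g * uG hK t u v * g⁻¹ = uG hK (σ t) (σ u) (σ v) := fun t u v => by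
    rw [← MulAut.conj_apply, h, fieldG_uG hK]
  have hB : (g : GL chevG2.Idx K) ∈ RB K m := by
    refine fusion hK (Subgroup.mem_subgroupOf.1 (uG_mem hK (0 : K) 1 0))
      (fun e => uG_sec_ne hK (Subtype.ext e)) g.2 ?_
    have h2 : g * uG hK (0 : K) 1 0 * g⁻¹ ∈ UG K m := by rw [hconj]; exact uG_mem hK _ _ _
    exact Subgroup.mem_subgroupOf.1 h2
  obtain ⟨u, hu, k, hk, e⟩ := exists_UH hK hB
  obtain ⟨a, rfl⟩ := exists_hA hK hk
  obtain ⟨p, q, w, rfl⟩ := exists_uW hK hu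
  have e' : g = uG hK p q w * hG hK a := Subtype.ext e
  have key : ∀ t, σ t = (a : K) ^ 3 ^ (m + 1) * t := fun t => by
    have h2 := hconj t 0 0
    rw [e', show uG hK p q w * hG hK a * uG hK t 0 0 * (uG hK p q w * hG hK a)⁻¹ =
      uG hK p q w * (hG hK a * uG hK t 0 0 * (hG hK a)⁻¹) * (uG hK p q w)⁻¹ by group,
      hG_conj hK, mul_inv_eq_iff_eq_mul, uG_mul hK, uG_mul hK, uG_inj hK] at h2
    linear_combination (-1 : K) * h2.1
  have h1 := key 1
  rw [map_one, mul_one] at h1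
  ext t
  rw [key t, ← h1, one_mul]
  rfl

end H32.ReeOut
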