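import Cfsg.Agent.H52.ReeHyp
import Cfsg.Agent.H52.Borel

/-!
The small Ree groups are generated by two elements: a generator of the torus, and the product of
an element of the abelian part of the unipotent group with the Weyl element.
-/

set_option autoImplicit false
set_option linter.unusedSectionVars false

namespace H32.Ree

open Cfsg.Lie H52 H53 H52.Ree2

variable {K : Type*} [Field K] [Fintype K] {m : ℕ} (hK : Fintype.card K = 3 ^ (2 * m + 1))
include hK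

/-- The element `U(t,u,v)`. -/
noncomputable abbrev ug (m : ℕ) (t u v : K) : GL chevG2.Idx K :=
  wordRt chevG2 (reeWordU (3 ^ m) t u v)

theorem ug_eq_uWord (t u v : K) : ug m t u v = wordRt chevG2 (H54.Ree.uWord
    ![t ^ 3 ^ m, t, t ^ (3 ^ m + 1) + u ^ 3 ^ m, t ^ (2 * 3 ^ m + 1) + v ^ 3 ^ m, u, v]) := rfl

theorem ug_tail (t u v : K) : ug m t u v = rt chevG2 g2a (t ^ 3 ^ m) * rt chevG2 g2b t *
    tail ![t ^ (3 ^ m + 1) + u ^ 3 ^ m, t ^ (2 * 3 ^ m + 1) + v ^ 3 ^ m, u, v] := by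
  rw [ug_eq_uWord hK, uWord_split (three_eq_zero hK)]
  simp

theorem ug_zero_tail (u v : K) : ug m 0 u v = tail ![u ^ 3 ^ m, v ^ 3 ^ m, u, v] := by
  have he : 3 ^ m ≠ 0 := by positivity
  rw [ug_tail hK]
  simp [zero_pow he, checkedG2.rt_zero]

theorem add_pow_e (x y : K) : (x + y) ^ 3 ^ m = x ^ 3 ^ m + y ^ 3 ^ m := by
  obtain ⟨f, hf⟩ := exists_eAut hK
  simp only [← hf, map_add]

theorem ug_mul_zero (t u v u' v' : K) :
    ug m t u v * ug m 0 u' v' = ug m t (u + u') (v + v') := by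
  rw [ug_tail hK, ug_zero_tail hK, mul_assoc _ (tail _), tail_mul (three_eq_zero hK), ug_tail hK]
  congr 2
  funext i
  fin_cases i <;> simp [add_pow_e hK] <;> ring

theorem ug_zero : ug m (0 : K) 0 0 = 1 := by
  have h := ug_mul_zero hK (0 : K) 0 0 0 0
  rwa [add_zero, mul_eq_left] at h

theorem ug_zero_inv (u v : K) : (ug m 0 u v)⁻¹ = ug m 0 (-u) (-v) :=
  inv_eq_of_mul_eq_one_right (by rw [ug_mul_zero hK, add_neg_cancel, add_neg_cancel, ug_zero hK])

theorem ug_inj {t u v t' u' v' : K} (h : ug m t u v = ug m t' u' v') :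
    t = t' ∧ u = u' ∧ v = v' := by
  rw [ug_eq_uWord hK, ug_eq_uWord hK, uWord_eq_iff (three_eq_zero hK)] at h
  exact ⟨congrFun h 1, congrFun h 4, congrFun h 5⟩

theorem chi_vals (x y : Kˣ) : H54.Ree.chi x y (H54.Ree.uRoot 1) = y ∧
    H54.Ree.chi x y (H54.Ree.uRoot 4) = x ^ 3 * y ∧
    H54.Ree.chi x y (H54.Ree.uRoot 5) = x ^ 3 * y ^ 2 := by
  refine ⟨?_, ?_, ?_⟩ <;>
    simp [H54.Ree.chi, H54.Ree.uRoot, H54.Ree.coefA, H54.Ree.coefB, g2b, g2aaab, g2aaabb]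

/-- Conjugation of `U(t,u,v)` by an element of the torus. -/
theorem conj_ug {h : GL chevG2.Idx K} (hh : h ∈ chevG2.diagonalSubgroup K ⊓ twistedG2 K (3 ^ m))
    {x : Kˣ} (hx : H54.Ree.torus (x, Units.map (H54.Ree.frob hK).toMonoidHom x) = h) (t u v : K) :
    h * ug m t u v * h⁻¹ = ug m ((Units.map (H54.Ree.frob hK).toMonoidHom x : Kˣ) * t)
      ((x ^ 3 * Units.map (H54.Ree.frob hK).toMonoidHom x : Kˣ) * u)
      ((x ^ 3 * Units.map (H54.Ree.frob hK).toMonoidHom x ^ 2 : Kˣ) * v) := by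
  set y := Units.map (H54.Ree.frob hK).toMonoidHom x
  set p : Fin 6 → K :=
    ![t ^ 3 ^ m, t, t ^ (3 ^ m + 1) + u ^ 3 ^ m, t ^ (2 * 3 ^ m + 1) + v ^ 3 ^ m, u, v] with hp
  have e : h * ug m t u v * h⁻¹ = wordRt chevG2 (H54.Ree.uWord fun i =>
      (H54.Ree.chi x y (H54.Ree.uRoot i) : K) * p i) := by
    apply Units.ext
    rw [checkedG2.coe_wordRt, ← H54.Ree.torus_conj_uWord (x, y), ug_eq_uWord hK, ← hp, ← hx,
      ← checkedG2.coe_wordRt, ← map_inv, ← Units.val_mul, ← Units.val_mul]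
  have hU : h * ug m t u v * h⁻¹ ∈ chevG2.posUnipotent K ⊓ twistedG2 K (3 ^ m) := by
    refine Subgroup.mem_inf.2 ⟨?_, mul_mem (mul_mem hh.2 (wordU_mem hK t u v))
      (inv_mem (Subgroup.mem_inf.1 hh).2)⟩
    rw [e]
    refine Subgroup.list_prod_mem _ fun z hz => ?_
    obtain ⟨q, hq, rfl⟩ := List.mem_map.1 hz
    have hr : q.1 ∈ [g2a, g2b, g2ab, g2aab, g2aaab, g2aaabb] := by
      simp only [H54.Ree.uWord, List.mem_cons, List.not_mem_nil, or_false] at hq ⊢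
      rcases hq with rfl | rfl | rfl | rfl | rfl | rfl <;> simp
    exact Subgroup.subset_closure ⟨q.1, q.2, (pos_u _ hr).1, checkedG2.coe_rt _ _⟩
  obtain ⟨t', u', v', e'⟩ := (U_iff hK _).1 hU
  rw [e']
  have h2 := e'.symm.trans e
  rw [← ug.eq_1, ug_eq_uWord hK, uWord_eq_iff (three_eq_zero hK)] at h2
  obtain ⟨c1, c4, c5⟩ := chi_vals hK x y
  have h21 := congrFun h2 1
  have h24 := congrFun h2 4
  have h25 := congrFun h2 5
  rw [c1] at h21; rw [c4] at h24; rw [c5] at h25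
  simp [p] at h21 h24 h25
  simp [ug, h21, h24, h25]

/-- Conjugation by the Weyl element maps `V(0,u,v)` into the tail. -/
theorem conj_vg (u v : K) : ∃ u' v' : K,
    mEl K * wordRt chevG2 (reeWordV (3 ^ m) 0 u v) * (mEl K)⁻¹ = ug m 0 u' v' := by
  have he : 3 ^ m ≠ 0 := by positivity
  have key : ∀ (r : Fin chevG2.nroots) (s : K), ∃ s',
      mEl K * rt chevG2 r.val s * (mEl K)⁻¹ = rt chevG2 (spec.wact weylForG2 0 r).val s' := by
    intro r s
    have h : mRep K 0 * (matSys chevG2 K).x r s * (mRep K 0)⁻¹ ∈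
        (grpSys weylForG2 K).U (spec.wperm weylForG2 0 r) :=
      RootGroupSys.acts_conj_mem (nWordProd_acts checkedG2 weylForG2 ok spec 0)
        (Subgroup.subset_closure ⟨s, rfl⟩)
    rw [spec.wperm_apply weylForG2] at h
    obtain ⟨s', hs'⟩ := (ChevSys.mem_Usub (chainOK_checked checkedG2 weylForG2 ok)).1 h
    refine ⟨s', ?_⟩
    rw [mEl_eq (three_eq_zero hK)]
    exact congrArg Subtype.val hs'
  obtain ⟨a, ha⟩ := key ⟨3, by decide⟩ (-((0 : K) ^ (3 ^ m + 1) + u ^ 3 ^ m))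
  obtain ⟨b, hb⟩ := key ⟨2, by decide⟩ (-((0 : K) ^ (2 * 3 ^ m + 1) + v ^ 3 ^ m))
  obtain ⟨c, hc⟩ := key ⟨1, by decide⟩ (-u)
  obtain ⟨d, hd⟩ := key ⟨0, by decide⟩ (-v)
  have hw : (spec.wact weylForG2 0 ⟨3, by decide⟩).val = g2ab ∧
      (spec.wact weylForG2 0 ⟨2, by decide⟩).val = g2aab ∧
      (spec.wact weylForG2 0 ⟨1, by decide⟩).val = g2aaab ∧
      (spec.wact weylForG2 0 ⟨0, by decide⟩).val = g2aaabb := by decide +kernel
  obtain ⟨w3, w2, w1, w0⟩ := hw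
  rw [w3] at ha; rw [w2] at hb; rw [w1] at hc; rw [w0] at hd
  have e : mEl K * wordRt chevG2 (reeWordV (3 ^ m) 0 u v) * (mEl K)⁻¹ = tail ![a, b, c, d] := by
    rw [reeWordV_eq]
    simp only [tail, wordRt, List.map_cons, List.map_nil, List.prod_cons, List.prod_nil, mul_one,
      zero_pow he, neg_zero, checkedG2.rt_zero, one_mul]
    simp only [Matrix.cons_val_zero, Matrix.cons_val_one, Matrix.cons_val]
    rw [← ha, ← hb, ← hc, ← hd]
    group
  have hU : mEl K * wordRt chevG2 (reeWordV (3 ^ m) 0 u v) * (mEl K)⁻¹ ∈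
      chevG2.posUnipotent K ⊓ twistedG2 K (3 ^ m) := by
    refine Subgroup.mem_inf.2 ⟨?_, mul_mem (mul_mem (mEl_mem hK) (wordV_mem hK _ _ _))
      (inv_mem (mEl_mem hK))⟩
    rw [e]
    refine Subgroup.list_prod_mem _ fun z hz => ?_
    obtain ⟨q, hq, rfl⟩ := List.mem_map.1 hz
    have hr : q.1 ∈ [g2a, g2b, g2ab, g2aab, g2aaab, g2aaabb] := by
      simp only [List.mem_cons, List.not_mem_nil, or_false] at hq ⊢
      rcases hq with rfl | rfl | rfl | rfl <;> simp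
    exact Subgroup.subset_closure ⟨q.1, q.2, (pos_u _ hr).1, checkedG2.coe_rt _ _⟩
  obtain ⟨t', u', v', e'⟩ := (U_iff hK _).1 hU
  have h3 := three_eq_zero hK
  have h2 : wordRt chevG2 (H54.Ree.uWord ![t' ^ 3 ^ m, t', t' ^ (3 ^ m + 1) + u' ^ 3 ^ m,
      t' ^ (2 * 3 ^ m + 1) + v' ^ 3 ^ m, u', v']) =
      wordRt chevG2 (H54.Ree.uWord ![0, 0, a, b, c, d]) := by
    rw [← ug_eq_uWord hK]
    refine e'.symm.trans (e.trans ?_)
    rw [uWord_split h3]
    simp [checkedG2.rt_zero]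
  rw [uWord_eq_iff h3] at h2
  have ht : t' = 0 := congrFun h2 1
  exact ⟨u', v', by rw [e', ht]⟩

theorem generator_facts (hm : 1 ≤ m) :
    ∃ k, Odd k ∧ 1 < k ∧ Nat.card Kˣ = 2 * k ∧
      Nat.Coprime (3 ^ (m + 1) + 2) (2 * k) ∧
      ∃ r, 3 ^ (m + 1) + 1 = 2 * r ∧ Nat.Coprime r k := by
  obtain ⟨k, hk, hc, -, hq⟩ := H54.Ree.units_card hK
  have h27 : 3 ^ 3 ≤ 3 ^ (2 * m + 1) := Nat.pow_le_pow_right (by norm_num) (by omega)
  have hodd : Odd (3 ^ (m + 1)) := Odd.pow (by decide)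
  obtain ⟨r, hr⟩ : ∃ r, 3 ^ (m + 1) + 1 = 2 * r := by
    obtain ⟨s, hs⟩ := hodd
    exact ⟨s + 1, by omega⟩
  have ha : (3 : ℤ) ^ (m + 1) * 3 ^ (m + 1) = 3 * (2 * k + 1) := by
    have h : (2 * k + 1 : ℕ) = 3 ^ (2 * m + 1) := by omega
    have h' : (2 * (k : ℤ) + 1) = 3 ^ (2 * m + 1) := by exact_mod_cast h
    rw [h', ← pow_add, ← pow_succ']
    congr 1
    omega
  refine ⟨k, hk, by omega, hc, ?_, r, hr, ?_⟩
  · rw [← Nat.isCoprime_iff_coprime]
    push_cast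
    exact ⟨(2 : ℤ) - 3 ^ (m + 1), 3, by linear_combination (-1 : ℤ) * ha⟩
  · have hr' : (3 : ℤ) ^ (m + 1) + 1 = 2 * r := by exact_mod_cast hr
    rw [← Nat.isCoprime_iff_coprime]
    have h2 : (r : ℤ) * (3 ^ (m + 1) - 1) = 3 * k + 1 := by
      have h4 : 2 * ((r : ℤ) * (3 ^ (m + 1) - 1)) = 2 * (3 * k + 1) := by
        rw [← mul_assoc, ← hr']
        linear_combination ha
      linarith
    exact ⟨(3 : ℤ) ^ (m + 1) - 1, -3, by linear_combination h2⟩

/-- `G` is generated by a generator of the torus and `U(0,1,1) n`. -/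
theorem two_generated (hm : 1 ≤ m) : ∃ a b : GL chevG2.Idx K,
    a ∈ twistedG2 K (3 ^ m) ∧ b ∈ twistedG2 K (3 ^ m) ∧
    twistedG2 K (3 ^ m) ≤ Subgroup.closure {a, b} := by
  classical
  have h3 := three_eq_zero hK
  obtain ⟨k, hkodd, hk1, hc, hcop5, r, hr, hcop4⟩ := generator_facts hK hm
  obtain ⟨f, hf, hfe⟩ := H54.Ree.exists_embedding hK
  have hfb : Function.Bijective f := by
    rw [Nat.bijective_iff_injective_and_card]
    refine ⟨hf, ?_⟩
    rw [card_H hK, Nat.card_units, Nat.card_eq_fintype_card, hK]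
  set F : Kˣ →* Kˣ := Units.map (H54.Ree.frob hK).toMonoidHom
  have hFi : Function.Injective F := fun a b e =>
    Units.ext ((H54.Ree.frob hK).injective (congrArg Units.val e))
  obtain ⟨g, hg⟩ := IsCyclic.exists_monoid_generator (α := Kˣ)
  obtain ⟨x, hFx⟩ := (Finite.injective_iff_surjective.1 hFi) g
  obtain ⟨⟨h, hH⟩, hfh⟩ := hfb.2 x
  have hT : H54.Ree.torus (x, F x) = h := by rw [← hfh]; exact hfe _
  have hog : orderOf g = 2 * k := by
    rw [orderOf_eq_card_of_forall_mem_powers hg, hc]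
  have hgen : ∀ z ∈ chevG2.diagonalSubgroup K ⊓ twistedG2 K (3 ^ m), ∃ i : ℕ, h ^ i = z := by
    intro z hz
    obtain ⟨i, hi⟩ := Submonoid.mem_powers_iff _ _ |>.1 (hg (F (f ⟨z, hz⟩)))
    refine ⟨i, congrArg Subtype.val (hf (a₁ := (⟨h, hH⟩ : ↥(chevG2.diagonalSubgroup K ⊓ twistedG2 K (3 ^ m))) ^ i) (a₂ := ⟨z, hz⟩) ?_)⟩
    rw [map_pow, hfh]
    exact hFi (by rw [map_pow, hFx, hi])
  have hoh : orderOf h = 2 * k := by
    rw [← Subgroup.orderOf_mk h hH, ← orderOf_injective f hf, hfh, ← orderOf_injective F hFi, hFx, hog]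
  have hx3 : x ^ 3 = g ^ 3 ^ (m + 1) := by
    apply Units.ext
    rw [← hFx]
    show (x : K) ^ 3 = (H54.Ree.frob hK (x : K)) ^ 3 ^ (m + 1)
    rw [H54.Ree.frob_apply, ← pow_mul, ← pow_add,
      show m + 1 + (m + 1) = 2 * m + 1 + 1 by omega, pow_succ (3 : ℕ) (2 * m + 1), pow_mul, ← hK,
      FiniteField.pow_card]
  set c4 := x ^ 3 * F x with hc4
  set c5 := x ^ 3 * F x ^ 2 with hc5
  have e4 : c4 = (g ^ 2) ^ r := by rw [hc4, hFx, hx3, ← pow_succ, ← pow_mul, hr]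
  have e5 : c5 = g ^ (3 ^ (m + 1) + 2) := by rw [hc5, hFx, hx3, ← pow_add]
  have hg2 : (g ^ 2) ^ k = 1 := by rw [← pow_mul, ← hog, pow_orderOf_eq_one]
  have hsq : ∀ z : Kˣ, ∃ i : ℕ, c4 ^ i = z ^ 2 := by
    intro z
    obtain ⟨l, hl⟩ := Submonoid.mem_powers_iff _ _ |>.1 (hg z)
    obtain ⟨p, hp⟩ := exists_pow_eq_self_of_coprime (x := g ^ 2)
      (hcop4.coprime_dvd_right (orderOf_dvd_of_pow_eq_one hg2))
    exact ⟨p * l, by rw [e4, pow_mul, hp, ← hl, ← pow_mul, ← pow_mul, mul_comm]⟩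
  have h5gen : ∀ z : Kˣ, ∃ i : ℕ, c5 ^ i = z := by
    intro z
    obtain ⟨l, hl⟩ := Submonoid.mem_powers_iff _ _ |>.1 (hg z)
    obtain ⟨p, hp⟩ := exists_pow_eq_self_of_coprime (x := g) (n := 3 ^ (m + 1) + 2)
      (by rw [hog]; exact hcop5)
    exact ⟨p * l, by rw [e5, pow_mul, hp, hl]⟩
  have h4k : c4 ^ k = 1 := by rw [e4, ← pow_mul, mul_comm, pow_mul, hg2, one_pow]
  have h5k : ((c5 ^ k : Kˣ) : K) = -1 := by
    have h2 : (((c5 ^ k : Kˣ) : K)) ^ 2 = 1 := by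
      rw [← Units.val_pow_eq_pow_val, ← pow_mul, mul_comm k 2, ← hc, pow_card_eq_one',
        Units.val_one]
    refine (sq_eq_one_iff.1 h2).resolve_left fun e => ?_
    have := orderOf_dvd_of_pow_eq_one (show g ^ ((3 ^ (m + 1) + 2) * k) = 1 by
      rw [pow_mul, ← e5]; exact Units.ext e)
    rw [hog] at this
    have := Nat.le_of_dvd (by omega) (hcop5.symm.dvd_of_dvd_mul_left this)
    omega
  -- conjugation by powers of `h`
  have conjP : ∀ (i : ℕ) (t u v : K), h ^ i * ug m t u v * (h ^ i)⁻¹ =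
      ug m ((g ^ i : Kˣ) * t) ((c4 ^ i : Kˣ) * u) ((c5 ^ i : Kˣ) * v) := by
    intro i
    induction i with
    | zero => intro t u v; simp
    | succ i ih =>
      intro t u v
      rw [pow_succ', show h * h ^ i * ug m t u v * (h * h ^ i)⁻¹ =
        h * (h ^ i * ug m t u v * (h ^ i)⁻¹) * h⁻¹ by group, ih, conj_ug hK hH hT]
      simp only [hFx, pow_succ', Units.val_mul, mul_assoc, hc4, hc5, F]
  have conj0 : ∀ (i : ℕ) (u v : K), h ^ i * ug m 0 u v * (h ^ i)⁻¹ =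
      ug m 0 ((c4 ^ i : Kˣ) * u) ((c5 ^ i : Kˣ) * v) := fun i u v => by rw [conjP, mul_zero]
  -- the Weyl element
  set n := mEl K with hn
  have hnM : n ∈ chevG2.monomialSubgroup K := by
    rw [hn, mEl_eq h3]
    exact (mem_monomial_iff checkedG2 weylForG2 ok _).2
      (nWordProd_mem_N checkedG2 weylForG2 ok spec 0)
  have hnT : n ∈ twistedG2 K (3 ^ m) := mEl_mem hK
  have hnh : n * h * n⁻¹ ∈ chevG2.diagonalSubgroup K ⊓ twistedG2 K (3 ^ m) :=
    Subgroup.mem_inf.2 ⟨(Subgroup.mem_normalizer_iff.1 (checkedG2.monomial_le_normalizer hnM) h).1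
      hH.1, mul_mem (mul_mem hnT hH.2) (inv_mem hnT)⟩
  obtain ⟨j, hj⟩ := hgen _ hnh
  have hjcop : Nat.Coprime (2 * k) j := by
    have e : orderOf (h ^ j) = orderOf h := by
      rw [hj]
      exact (MulAut.conj n).orderOf_eq h
    rw [orderOf_pow' h (fun h0 => by
      subst h0
      rw [pow_zero, orderOf_one, hoh] at e
      omega), hoh] at e
    rcases Nat.div_eq_self.1 e with e | e
    · omega
    · exact e
  have hu0 : ((c4 ^ j : Kˣ) : K) ≠ 1 := fun e => by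
    have := orderOf_dvd_of_pow_eq_one (show g ^ (2 * (r * j)) = 1 by
      rw [← mul_assoc, pow_mul, pow_mul, ← e4]; exact Units.ext e)
    rw [hog] at this
    have h1 : k ∣ j := hcop4.symm.dvd_of_dvd_mul_left
      ((Nat.mul_dvd_mul_iff_left (by norm_num : 0 < 2)).1 this)
    have h2 : k ∣ 1 := hjcop.gcd_eq_one ▸ Nat.dvd_gcd (dvd_mul_left k 2) h1
    have := Nat.le_of_dvd one_pos h2
    omega
  have hv0 : ((c5 ^ j : Kˣ) : K) ≠ 1 := fun e => by
    have := orderOf_dvd_of_pow_eq_one (show g ^ ((3 ^ (m + 1) + 2) * j) = 1 by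
      rw [pow_mul, ← e5]; exact Units.ext e)
    rw [hog] at this
    have h1 : 2 * k ∣ 1 :=
      hjcop.gcd_eq_one ▸ Nat.dvd_gcd dvd_rfl (hcop5.symm.dvd_of_dvd_mul_left this)
    have := Nat.le_of_dvd one_pos h1
    omega
  set b := ug m 0 1 1 * n with hb
  set L := Subgroup.closure ({h, b} : Set (GL chevG2.Idx K))
  have hhL : h ∈ L := Subgroup.subset_closure (Or.inl rfl)
  have hbL : b ∈ L := Subgroup.subset_closure (Or.inr rfl)
  have hmemU : ∀ u v : K, ug m 0 u v ∈ L → ∀ i : ℕ,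
      ug m 0 ((c4 ^ i : Kˣ) * u) ((c5 ^ i : Kˣ) * v) ∈ L := fun u v huv i => by
    rw [← conj0]
    exact mul_mem (mul_mem (pow_mem hhL i) huv) (inv_mem (pow_mem hhL i))
  set u0 := 1 - ((c4 ^ j : Kˣ) : K)
  set v0 := 1 - ((c5 ^ j : Kˣ) : K)
  have hA : ug m 0 u0 v0 ∈ L := by
    have e : b * h * b⁻¹ * (h ^ j)⁻¹ = ug m 0 u0 v0 := by
      rw [hb, show ug m 0 1 1 * n * h * (ug m 0 1 1 * n)⁻¹ * (h ^ j)⁻¹ =
        ug m 0 1 1 * (n * h * n⁻¹ * (ug m 0 1 1)⁻¹ * (h ^ j)⁻¹) by group, ← hj,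
        ug_zero_inv hK, conj0, ug_mul_zero hK, mul_neg, mul_neg, mul_one, mul_one,
        ← sub_eq_add_neg, ← sub_eq_add_neg]
    rw [← e]
    exact mul_mem (mul_mem (mul_mem hbL hhL) (inv_mem hbL)) (inv_mem (pow_mem hhL j))
  have hA1 : ug m 0 u0 0 ∈ L := by
    have hA' := hmemU _ _ hA k
    rw [h4k, Units.val_one, one_mul, h5k, neg_one_mul] at hA'
    have := inv_mem (mul_mem hA hA')
    rw [ug_mul_zero hK, ug_zero_inv hK, add_neg_cancel, neg_zero] at this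
    rwa [show u0 = -(u0 + u0) by linear_combination u0 * h3]
  have hA2 : ug m 0 0 v0 ∈ L := by
    have := mul_mem (inv_mem hA1) hA
    rwa [ug_zero_inv hK, ug_mul_zero hK, neg_add_cancel, neg_zero, zero_add] at this
  have hu0' : u0 ≠ 0 := sub_ne_zero.2 hu0.symm
  have hv0' : v0 ≠ 0 := sub_ne_zero.2 hv0.symm
  have hsec : ∀ v : K, ug m 0 0 v ∈ L := by
    intro v
    rcases eq_or_ne v 0 with rfl | hv
    · rw [ug_zero hK]; exact one_mem L
    · obtain ⟨i, hi⟩ := h5gen (Units.mk0 (v / v0) (div_ne_zero hv hv0'))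
      have := hmemU _ _ hA2 i
      rwa [mul_zero, hi, Units.val_mk0, div_mul_cancel₀ v hv0'] at this
  have hfst2 : ∀ s : K, ug m 0 (s ^ 2 * u0) 0 ∈ L := by
    intro s
    rcases eq_or_ne s 0 with rfl | hs
    · rw [zero_pow two_ne_zero, zero_mul, ug_zero hK]; exact one_mem L
    · obtain ⟨i, hi⟩ := hsq (Units.mk0 s hs)
      have := hmemU _ _ hA1 i
      rwa [mul_zero, hi, Units.val_pow_eq_pow_val, Units.val_mk0] at this
  have hfst : ∀ u : K, ug m 0 u 0 ∈ L := by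
    intro u
    have := mul_mem (hfst2 (u / u0 + 1)) (inv_mem (hfst2 (u / u0 - 1)))
    rw [ug_zero_inv hK, ug_mul_zero hK, neg_zero, add_zero] at this
    rwa [show (u / u0 + 1) ^ 2 * u0 + -((u / u0 - 1) ^ 2 * u0) = u by
      linear_combination div_mul_cancel₀ u hu0' + u / u0 * u0 * h3] at this
  have hU0 : ∀ u v : K, ug m 0 u v ∈ L := fun u v => by
    have := mul_mem (hfst u) (hsec v)
    rwa [ug_mul_zero hK, add_zero, zero_add] at this
  have hnL : n ∈ L := by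
    have := mul_mem (inv_mem (hU0 1 1)) hbL
    rwa [hb, inv_mul_cancel_left] at this
  have hV0 : ∀ u v : K, wordRt chevG2 (reeWordV (3 ^ m) 0 u v) ∈ L := fun u v => by
    obtain ⟨u', v', e⟩ := conj_vg hK u v
    have := mul_mem (mul_mem (inv_mem hnL) (hU0 u' v')) hnL
    rw [← e] at this
    simpa [hn, mul_assoc] using this
  -- the element `U(1,0,0)`
  have hU1 : ug m (1 : K) 0 0 ∈ L := by
    have he : 3 ^ m ≠ 0 := by positivity
    obtain ⟨i, hi⟩ := hgen _ ⟨(jEl_mem hK).2, (jEl_mem hK).1⟩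
    have hJ : H54.Ree.torus ((-1 : Kˣ), (-1 : Kˣ)) ∈ L := hi ▸ pow_mem hhL i
    obtain ⟨p1, p2, -, -⟩ := H54.Ree.pairing_pair
    have ht : H54.Ree.torus ((-1 : Kˣ), (-1 : Kˣ)) =
        wordRt chevG2 (hConst.map fun q => (q.1, (q.2 : K))) := by
      apply Units.ext
      have h := H54.Ree.hMat_eq_torus (K := K) g2ab (by decide) (-1)
      rw [p1, p2] at h
      rw [checkedG2.coe_wordRt]
      rw [show ((-1 : Kˣ), (-1 : Kˣ)) = ((-1 : Kˣ) ^ (-1 : ℤ), (-1 : Kˣ) ^ (3 : ℤ)) by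
        refine Prod.ext ?_ ?_
        · simp
        · show (-1 : Kˣ) = (-1) ^ ((3 : ℕ) : ℤ)
          rw [zpow_natCast, Odd.neg_one_pow (by decide)], ← h]
      simp [ChevalleyDatum.hMat, ChevalleyDatum.hWord, ChevalleyDatum.nWord, hConst,
        show chevG2.neg 8 = 3 from by decide +kernel, g2ab, ChevalleyDatum.wordMat]
    rw [ht, ← const_eq h3 jCert, show wordRt chevG2 (jConst.map fun q => (q.1, (q.2 : K))) =
        ug m 1 0 0 * (wordRt chevG2 (reeWordV (3 ^ m) 0 (-1) 0) *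
        wordRt chevG2 (reeWordV (3 ^ m) 0 0 (-1)) * ug m 0 0 1 *
        wordRt chevG2 (reeWordV (3 ^ m) 0 (-1) 0)) by
      simp [jConst, wordRt, reeWordU, reeWordV_eq, ug,
        zero_pow he, neg_one_pow_e hK, mul_assoc, g2a, g2b, g2ab, g2aab, g2aaab, g2aaabb],
      Subgroup.mul_mem_cancel_right _ (mul_mem (mul_mem (mul_mem (hV0 _ _) (hV0 _ _)) (hU0 _ _))
        (hV0 _ _))] at hJ
    exact hJ
  have hU : ∀ t u v : K, ug m t u v ∈ L := by
    intro t u v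
    rcases eq_or_ne t 0 with rfl | ht
    · exact hU0 u v
    · obtain ⟨i, hi⟩ := Submonoid.mem_powers_iff _ _ |>.1 (hg (Units.mk0 t ht))
      have := mul_mem (mul_mem (mul_mem (pow_mem hhL i) hU1) (inv_mem (pow_mem hhL i))) (hU0 u v)
      rw [conjP, ug_mul_zero hK, mul_zero, mul_zero, zero_add, zero_add, mul_one, hi,
        Units.val_mk0] at this
      exact this
  refine ⟨h, b, hH.2, mul_mem (wordU_mem hK _ _ _) hnT, ?_⟩
  refine (Subgroup.closure_le _).2 ?_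
  rintro z ⟨w, ⟨t, u, v, rfl | rfl⟩, e⟩
  · rw [word_eq_wordRt checkedG2 e]
    exact hU t u v
  · rw [word_eq_wordRt checkedG2 e]
    obtain ⟨hzm, hz⟩ := vEl_mem hK t u v
    have hconj : n * wordRt chevG2 (reeWordV (3 ^ m) t u v) * n⁻¹ ∈
        chevG2.posUnipotent K ⊓ twistedG2 K (3 ^ m) := by
      refine Subgroup.mem_inf.2 ⟨?_, mul_mem (mul_mem hnT (wordV_mem hK t u v)) (inv_mem hnT)⟩
      have := (mem_pos_iff checkedG2 weylForG2 _).2 hzm
      rw [hn, mEl_eq h3]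
      exact this
    obtain ⟨t', u', v', e'⟩ := (U_iff hK _).1 hconj
    have := mul_mem (mul_mem (inv_mem hnL) (hU t' u' v')) hnL
    rw [show ug m t' u' v' = n * wordRt chevG2 (reeWordV (3 ^ m) t u v) * n⁻¹ from e'.symm] at this
    simpa [mul_assoc] using this

end H32.Ree
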