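import Cfsg.Prelude.Def_OddOrderLocal
import Cfsg.Agent.H32.InvertedTI
import Cfsg.Agent.H62.Basic
import Cfsg.Agent.H6.Transfer

/-! Abelian Sylow 3-subgroup with small normalizer and centralizer: reduction to `H32.InvertedTI`. -/

set_option autoImplicit false

namespace H32.SmallThree

universe u

variable {G : Type u} [Group G] [Fintype G] [IsSimpleGroup G]

theorem centralizer_ne_top (hna : ¬ IsMulCommutative G) {x : G} (hx : x ≠ 1) :
    Subgroup.centralizer ({x} : Set G) ≠ ⊤ := by
  intro h
  apply hx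
  have : x ∈ Subgroup.center G := Subgroup.mem_center_iff.mpr fun g => by
    have hg : g ∈ Subgroup.centralizer ({x} : Set G) := h ▸ Subgroup.mem_top g
    exact Subgroup.mem_centralizer_singleton_iff.mp hg
  rwa [H62.center_eq_bot_of_simple hna, Subgroup.mem_bot] at this

theorem setup (P : Sylow 3 G) (hab : IsMulCommutative P)
    (hN : Nat.card (Subgroup.normalizer ((P : Subgroup G) : Set G)) = 4 * Nat.card P)
    (hC : Nat.card (Subgroup.centralizer (P : Set G)) = 2 * Nat.card P)
    (hTI : Cfsg.IsTISubset (Subgroup.centralizer (P : Set G) : Set G))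
    (heven : ∀ H : Subgroup G, H ≠ ⊤ → 2 ∣ Nat.card H → Nat.card H ∣ 4 * Nat.card P)
    (hna : ¬ IsMulCommutative G) (hn : 3 ≤ Nat.card P) :
    ∃ S : InvertedTI G, S.n = Nat.card P := by
  classical
  haveI h2 : Fact (Nat.Prime 2) := ⟨Nat.prime_two⟩
  haveI h3 : Fact (Nat.Prime 3) := ⟨Nat.prime_three⟩
  set C := Subgroup.centralizer (P : Set G)
  set N := Subgroup.normalizer ((P : Subgroup G) : Set G) with hNdef
  obtain ⟨a, ha⟩ := IsPGroup.iff_card.mp P.isPGroup'
  have hodd : ¬ 2 ∣ Nat.card P := by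
    rw [ha]; intro h
    exact absurd (Nat.Prime.dvd_of_dvd_pow Nat.prime_two h) (by decide)
  have hCN : C ≤ N := Subgroup.centralizer_le_normalizer _
  have hPC : (P : Subgroup G) ≤ C := by
    intro x hx
    rw [Subgroup.mem_centralizer_iff]
    intro y hy
    exact congrArg Subtype.val (hab.is_comm.comm (⟨y, hy⟩ : (P : Subgroup G)) ⟨x, hx⟩)
  -- the involution of C
  obtain ⟨⟨t, htC⟩, ht⟩ := exists_prime_orderOf_dvd_card' (G := C) 2 (hC ▸ dvd_mul_right 2 _)
  rw [Subgroup.orderOf_mk] at ht
  have ht1 : t ≠ 1 := fun h => by rw [h, orderOf_one] at ht; omega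
  have ht2 : t * t = 1 := by rw [← pow_two, ← ht, pow_orderOf_eq_one]
  -- C is abelian
  have hCgen : C = (P : Subgroup G) ⊔ Subgroup.zpowers t := by
    refine (Subgroup.eq_of_le_of_card_ge (sup_le hPC ((Subgroup.zpowers_le).mpr htC)) ?_).symm
    rw [hC]
    refine Nat.le_of_dvd Nat.card_pos (Nat.Coprime.mul_dvd_of_dvd_of_dvd ?_ ?_ ?_)
    · exact (Nat.coprime_primes Nat.prime_two Nat.prime_three |>.mpr (by decide)).pow_right a |> fun h => ha ▸ h
    · rw [← ht, ← Nat.card_zpowers]; exact Subgroup.card_dvd_of_le le_sup_right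
    · exact Subgroup.card_dvd_of_le le_sup_left
  have hcomm : ∀ x ∈ C, ∀ y ∈ C, x * y = y * x := by
    have h1 : C ≤ Subgroup.centralizer (C : Set G) := by
      conv_lhs => rw [hCgen]
      refine sup_le ?_ ?_
      · intro x hx
        rw [Subgroup.mem_centralizer_iff]
        intro y hy
        exact (Subgroup.mem_centralizer_iff.mp hy x hx).symm
      · rw [Subgroup.zpowers_le, Subgroup.mem_centralizer_iff]
        intro y hy
        rw [SetLike.mem_coe, hCgen] at hy
        have h2 : (P : Subgroup G) ⊔ Subgroup.zpowers t ≤ Subgroup.centralizer ({t} : Set G) := by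
          refine sup_le (fun x hx => ?_) ((Subgroup.zpowers_le).mpr ?_)
          · rw [Subgroup.mem_centralizer_singleton_iff]
            exact Subgroup.mem_centralizer_iff.mp htC x hx
          · rw [Subgroup.mem_centralizer_singleton_iff]
        exact Subgroup.mem_centralizer_singleton_iff.mp (h2 hy)
    intro x hx y hy
    exact Subgroup.mem_centralizer_iff.mp (h1 hy) x hx
  have hPmem : ∀ y ∈ C, y ^ Nat.card P = 1 → y ∈ (P : Subgroup G) := by
    intro y hy hyn
    have hyP : IsPGroup 3 (Subgroup.zpowers y) := by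
      rintro ⟨_, k, rfl⟩
      refine ⟨a, Subtype.ext ?_⟩
      show (y ^ k) ^ 3 ^ a = 1
      rw [← ha, ← zpow_natCast, ← zpow_mul, mul_comm, zpow_mul, zpow_natCast, hyn, one_zpow]
    refine (P.is_maximal' (hyP.to_sup_of_normal_right' P.isPGroup' ?_) le_sup_right).le
      (Subgroup.mem_sup_left (Subgroup.mem_zpowers y))
    exact (Subgroup.zpowers_le).mpr (hCN hy)
  have htuniq : ∀ y ∈ C, y * y = 1 → y = 1 ∨ y = t := by
    intro y hy hy2
    obtain ⟨b, hb, c, hc, rfl⟩ : ∃ b ∈ (P : Subgroup G), ∃ c ∈ Subgroup.zpowers t, b * c = y := by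
      rw [hCgen] at hy
      rw [← SetLike.mem_coe] at hy
      rw [Subgroup.coe_mul_of_left_le_normalizer_right _ _ ?_] at hy
      · exact hy
      · intro x hx
        have : x ∈ Subgroup.centralizer (Subgroup.zpowers t : Set G) := by
          rw [Subgroup.mem_centralizer_iff]
          intro z hz
          exact hcomm z ((Subgroup.zpowers_le).mpr htC hz) x (hPC hx)
        exact Subgroup.centralizer_le_normalizer _ this
    have hc2 : c = 1 ∨ c = t := by
      obtain ⟨k, rfl⟩ := hc
      rcases Int.even_or_odd k with ⟨j, rfl⟩ | ⟨j, rfl⟩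
      · left; show t ^ (j + j) = 1; rw [← two_mul, zpow_mul, zpow_two, ht2, one_zpow]
      · right; show t ^ (2 * j + 1) = t; rw [zpow_add_one, zpow_mul, zpow_two, ht2, one_zpow, one_mul]
    have hcc : c * c = 1 := by rcases hc2 with rfl | rfl <;> simp [ht2]
    have hbb : b * b = 1 := by
      have := hy2
      rw [show b * c * (b * c) = b * (c * b) * c by group, hcomm c ((Subgroup.zpowers_le).mpr htC hc) b (hPC hb),
        show b * (b * c) * c = b * b * (c * c) by group, hcc, mul_one] at this
      exact this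
    have hb1 : b = 1 := by
      rw [← orderOf_eq_one_iff]
      have d1 : orderOf b ∣ 2 := orderOf_dvd_of_pow_eq_one (by rw [pow_two, hbb])
      have d2 : orderOf b ∣ Nat.card P := Subgroup.orderOf_dvd_natCard _ hb
      rcases (Nat.dvd_prime Nat.prime_two).mp d1 with h | h
      · exact h
      · exact absurd (h ▸ d2) hodd
    rcases hc2 with rfl | rfl <;> simp [hb1]
  -- N(C) = N = C(t)
  have hNC : N ≤ Subgroup.normalizer (C : Set G) := by
    intro g hg
    rw [Subgroup.mem_normalizer_iff]
    have key : ∀ g ∈ N, ∀ x ∈ C, g * x * g⁻¹ ∈ C := by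
      intro g hg x hx
      rw [Subgroup.mem_centralizer_iff] at hx ⊢
      intro p hp
      have h := hx (g⁻¹ * p * g) ((Subgroup.mem_normalizer_iff''.mp hg p).mp hp)
      calc p * (g * x * g⁻¹) = g * ((g⁻¹ * p * g) * x) * g⁻¹ := by group
        _ = g * (x * (g⁻¹ * p * g)) * g⁻¹ := by rw [h]
        _ = g * x * g⁻¹ * p := by group
    intro x
    refine ⟨key g hg x, fun h => ?_⟩
    have := key g⁻¹ (N.inv_mem hg) _ h
    rwa [show g⁻¹ * (g * x * g⁻¹) * g⁻¹⁻¹ = x by group] at this
  have hNCt : Subgroup.normalizer (C : Set G) ≤ Subgroup.centralizer ({t} : Set G) := by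
    intro g hg
    rw [Subgroup.mem_centralizer_singleton_iff]
    rcases htuniq (g * t * g⁻¹) ((Subgroup.mem_normalizer_iff.mp hg t).mp htC) (by
      rw [show g * t * g⁻¹ * (g * t * g⁻¹) = g * (t * t) * g⁻¹ by group, ht2]; group) with h | h
    · exact absurd (conj_eq_one_iff.mp h) ht1
    · calc g * t = (g * t * g⁻¹) * g := by group
        _ = t * g := by rw [h]
  have hcent : Subgroup.centralizer ({t} : Set G) = N := by
    refine (Subgroup.eq_of_le_of_card_ge (hNC.trans hNCt) ?_).symm
    refine hN ▸ Nat.le_of_dvd (by omega) (heven _ (centralizer_ne_top hna ht1) ?_)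
    have := Subgroup.orderOf_dvd_natCard (Subgroup.centralizer ({t} : Set G))
      (Subgroup.mem_centralizer_singleton_iff.mpr rfl : t ∈ _)
    rwa [ht] at this
  have hti : ∀ g y, y ∈ C → y ≠ 1 → g * y * g⁻¹ ∈ C → g ∈ N := by
    intro g y hy hy1 hgy
    rw [← hcent]
    refine hNCt ?_
    by_contra hg
    exact hy1 (hTI g hg y hy hgy)
  -- Sylow 2-subgroups have order four and exponent two
  obtain ⟨V, hV⟩ := (IsPGroup.of_card (G := Subgroup.zpowers t) (n := 1)
    (by rw [Nat.card_zpowers, ht, pow_one])).exists_le_sylow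
  haveI : Nontrivial (V : Subgroup G) :=
    ⟨⟨⟨t, hV (Subgroup.mem_zpowers t)⟩, 1, fun h => ht1 (congrArg Subtype.val h)⟩⟩
  have hVcard : Nat.card V = 4 := by
    obtain ⟨⟨z, hz⟩, hz1⟩ : ∃ z : Subgroup.center (V : Subgroup G), z ≠ 1 := by
      haveI := V.isPGroup'.center_nontrivial
      exact exists_ne 1
    have hz1' : (z : G) ≠ 1 := fun h => hz1 (Subtype.ext (Subtype.ext h))
    have hVz : (V : Subgroup G) ≤ Subgroup.centralizer ({(z : G)} : Set G) := by
      intro v hv
      rw [Subgroup.mem_centralizer_singleton_iff]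
      exact congrArg Subtype.val (Subgroup.mem_center_iff.mp hz ⟨v, hv⟩)
    obtain ⟨k, hk⟩ := IsPGroup.iff_card.mp V.isPGroup'
    have h2z : 2 ∣ Nat.card (Subgroup.centralizer ({(z : G)} : Set G)) := by
      have := Subgroup.orderOf_dvd_natCard _ (hVz (hV (Subgroup.mem_zpowers t)))
      rwa [ht] at this
    have hdiv : 2 ^ k ∣ 4 * Nat.card P := hk ▸
      (Subgroup.card_dvd_of_le hVz).trans (heven _ (centralizer_ne_top hna hz1') h2z)
    have hcop : Nat.Coprime (2 ^ k) (Nat.card P) := (Nat.prime_two.coprime_iff_not_dvd.mpr hodd).pow_left k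
    have hd4 : 2 ^ k ∣ 4 := hcop.dvd_of_dvd_mul_right hdiv
    have h4V : 4 ∣ Nat.card V := by
      have h4 : 2 ^ 2 ∣ Nat.card G := dvd_trans (Dvd.intro _ rfl) (hN ▸ Subgroup.card_subgroup_dvd_card N)
      exact V.pow_dvd_card_of_pow_dvd_card h4
    exact Nat.dvd_antisymm (hk ▸ hd4) h4V
  have hmin : (Nat.card G).minFac = 2 :=
    (Nat.minFac_eq_two_iff _).mpr (dvd_trans (dvd_trans (by norm_num : 2 ∣ 4) (Dvd.intro _ rfl))
      (hN ▸ Subgroup.card_subgroup_dvd_card N))
  have hexp : ∀ W : Sylow 2 G, ∀ w ∈ (W : Subgroup G), w * w = 1 := by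
    intro W w hw
    have hWcard : Nat.card W = 4 := by rw [← hVcard, Nat.card_congr (W.equiv V).toEquiv]
    by_contra hw2
    apply H62.not_isCyclic_sylow_minFac hna hmin W
    refine isCyclic_of_orderOf_eq_card (⟨w, hw⟩ : (W : Subgroup G)) ?_
    rw [Subgroup.orderOf_mk]
    have hd : orderOf w ∣ 2 ^ 2 := by
      have := Subgroup.orderOf_dvd_natCard _ hw; rwa [hWcard] at this
    obtain ⟨i, hi, hio⟩ := (Nat.dvd_prime_pow Nat.prime_two).mp hd
    have hi2 : i = 2 := by
      rcases (by omega : i = 0 ∨ i = 1 ∨ i = 2) with h | h | h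
      · exact absurd (by rw [show w = 1 from orderOf_eq_one_iff.mp (by rw [hio, h, pow_zero]), one_mul]) hw2
      · exact absurd (by rw [← pow_two]; have := pow_orderOf_eq_one w; rwa [hio, h, pow_one] at this) hw2
      · exact h
    rw [hio, hi2]; exact hWcard.symm
  -- all involutions are conjugate
  have hconj : ∀ x : G, x ≠ 1 → x * x = 1 → IsConj t x := by
    intro x hx hx2
    have hox : orderOf x = 2 := orderOf_eq_prime (by rw [pow_two, hx2]) hx
    have hQi : (Subgroup.zpowers t).relIndex (V : Subgroup G) = 2 := by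
      have := Subgroup.relIndex_mul_relIndex (⊥ : Subgroup G) _ _ bot_le hV
      rw [Subgroup.relIndex_bot_left, Subgroup.relIndex_bot_left, Nat.card_zpowers, ht, hVcard] at this
      omega
    rcases H6.thompson_transfer V (Subgroup.zpowers t) hV hQi x hox with ⟨M, hM, hMi, hxM⟩ | ⟨g, k, hk⟩
    · rcases IsSimpleGroup.eq_bot_or_eq_top_of_normal M hM with h | h
      · exfalso
        rw [h, Subgroup.index_bot] at hMi
        have := Nat.le_of_dvd Nat.card_pos (hN ▸ Subgroup.card_subgroup_dvd_card N)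
        omega
      · exact absurd (h ▸ Subgroup.mem_top x) hxM
    · have hk' : t ^ k = g * x * g⁻¹ := hk
      rcases Int.even_or_odd k with ⟨j, rfl⟩ | ⟨j, rfl⟩
      · rw [← two_mul, zpow_mul, zpow_two, ht2, one_zpow] at hk'
        exact absurd (conj_eq_one_iff.mp hk'.symm) hx
      · rw [zpow_add_one, zpow_mul, zpow_two, ht2, one_zpow, one_mul] at hk'
        exact isConj_iff.mpr ⟨g⁻¹, by rw [hk']; group⟩
  -- the outside of C in N inverts C
  have hinv : ∀ s ∈ N, s ∉ C → s * s = 1 ∧ ∀ y ∈ C, s * y * s⁻¹ = y⁻¹ := by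
    -- a Sylow 2-subgroup of G through t lies in N
    have hVN : (V : Subgroup G) ≤ N := by
      rw [← hcent]
      intro v hv
      rw [Subgroup.mem_centralizer_singleton_iff]
      have h1 := hexp V v hv
      have h2 := hexp V t (hV (Subgroup.mem_zpowers t))
      have h3 := hexp V (v * t) (mul_mem hv (hV (Subgroup.mem_zpowers t)))
      calc v * t = (v * t)⁻¹ := (inv_eq_of_mul_eq_one_right h3).symm
        _ = t * v := by rw [mul_inv_rev, inv_eq_of_mul_eq_one_right h1, inv_eq_of_mul_eq_one_right h2]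
    obtain ⟨s0, hs0V, hs0C⟩ : ∃ s0 ∈ (V : Subgroup G), s0 ∉ C := by
      by_contra h; push Not at h
      have hd := Subgroup.card_dvd_of_le (show (V : Subgroup G) ≤ C from h)
      rw [hVcard, hC, show (4 : ℕ) = 2 * 2 from rfl] at hd
      exact hodd (Nat.dvd_of_mul_dvd_mul_left (by norm_num) hd)
    have hs1 : s0 ≠ 1 := fun h => hs0C (h ▸ C.one_mem)
    have hs2 : s0 * s0 = 1 := hexp V s0 hs0V
    -- s0 has no fixed point on P
    have hfix : ∀ r ∈ (P : Subgroup G), r * s0 = s0 * r → r = 1 := by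
      intro r hr hrs
      by_contra hr1
      set K := Subgroup.centralizer ({r} : Set G) with hK
      have hKle : ∀ x, x * r = r * x → x ∈ K := fun x hx => Subgroup.mem_centralizer_singleton_iff.mpr hx
      have hCK : C ≤ K := fun x hx => hKle x (hcomm x hx r (hPC hr))
      have hs0K : s0 ∈ K := hKle _ hrs.symm
      have h2K : 2 ∣ Nat.card K := by
        have := Subgroup.orderOf_dvd_natCard K (hCK htC); rwa [ht] at this
      have hd := heven K (centralizer_ne_top hna hr1) h2K
      set J := C ⊔ Subgroup.zpowers s0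
      have hJK : J ≤ K := sup_le hCK ((Subgroup.zpowers_le).mpr hs0K)
      have hJN : J ≤ N := sup_le hCN ((Subgroup.zpowers_le).mpr (hVN hs0V))
      have hJcard : 4 * Nat.card P ≤ Nat.card J := by
        obtain ⟨c, hc⟩ := Subgroup.card_dvd_of_le (le_sup_left : C ≤ J)
        have hc1 : c ≠ 1 := fun h => hs0C (by
          have := Subgroup.eq_of_le_of_card_ge (le_sup_left : C ≤ J) (by rw [hc, h, mul_one])
          rw [this]; exact Subgroup.mem_sup_right (Subgroup.mem_zpowers s0))
        have hc0 : c ≠ 0 := fun h => by rw [h, mul_zero] at hc; exact Nat.card_pos.ne' hc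
        rw [hc, hC]
        calc 4 * Nat.card P = 2 * Nat.card P * 2 := by ring
          _ ≤ 2 * Nat.card P * c := Nat.mul_le_mul_left _ (by omega)
      have hJeqN : J = N := Subgroup.eq_of_le_of_card_ge hJN (hN ▸ hJcard)
      have hKN : K = N := (Subgroup.eq_of_le_of_card_ge (hJeqN ▸ hJK)
        (hN ▸ Nat.le_of_dvd (by omega) hd)).symm
      -- s0 = g t g⁻¹, with centralizer g N g⁻¹
      obtain ⟨g, hg⟩ := isConj_iff.mp (hconj s0 hs1 hs2)
      have hgr : g⁻¹ * r * g ∈ (P : Subgroup G) := by
        have hm : g⁻¹ * r * g ∈ N := by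
          rw [← hcent, Subgroup.mem_centralizer_singleton_iff]
          rw [← hg] at hrs
          calc g⁻¹ * r * g * t = g⁻¹ * (r * (g * t * g⁻¹)) * g := by group
            _ = g⁻¹ * (g * t * g⁻¹ * r) * g := by rw [hrs]
            _ = t * (g⁻¹ * r * g) := by group
        have hp3 : IsPGroup 3 (Subgroup.zpowers (g⁻¹ * r * g)) := by
          rintro ⟨_, k, rfl⟩
          refine ⟨a, Subtype.ext ?_⟩
          show ((g⁻¹ * r * g) ^ k) ^ 3 ^ a = 1
          have hr' : r ^ Nat.card P = 1 := congrArg Subtype.val (pow_card_eq_one' (x := (⟨r, hr⟩ : (P : Subgroup G))))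
          rw [← ha, ← zpow_natCast, ← zpow_mul, mul_comm, zpow_mul, zpow_natCast,
            show g⁻¹ * r * g = MulAut.conj g⁻¹ r by simp, ← map_pow, hr', map_one, one_zpow]
        exact (P.is_maximal' (hp3.to_sup_of_normal_right' P.isPGroup' ((Subgroup.zpowers_le).mpr hm))
          le_sup_right).le (Subgroup.mem_sup_left (Subgroup.mem_zpowers _))
      have hPK : ∀ p ∈ (P : Subgroup G), g * p * g⁻¹ ∈ K := by
        intro p hp
        apply hKle
        have h := hcomm p (hPC hp) _ (hPC hgr)
        calc g * p * g⁻¹ * r = g * (p * (g⁻¹ * r * g)) * g⁻¹ := by group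
          _ = g * ((g⁻¹ * r * g) * p) * g⁻¹ := by rw [h]
          _ = r * (g * p * g⁻¹) := by group
      have hgP : g ∈ N := by
        rw [hNdef, Subgroup.mem_normalizer_iff_map_conj_eq]
        refine Subgroup.eq_of_le_of_card_ge ?_ (by rw [Subgroup.card_map_of_injective (MulAut.conj g).injective])
        rintro _ ⟨p, hp, rfl⟩
        show g * p * g⁻¹ ∈ (P : Subgroup G)
        have hp3 : IsPGroup 3 (Subgroup.zpowers (g * p * g⁻¹)) := by
          rintro ⟨_, k, rfl⟩
          refine ⟨a, Subtype.ext ?_⟩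
          show ((g * p * g⁻¹) ^ k) ^ 3 ^ a = 1
          have hp' : p ^ Nat.card P = 1 := congrArg Subtype.val (pow_card_eq_one' (x := (⟨p, hp⟩ : (P : Subgroup G))))
          rw [← ha, ← zpow_natCast, ← zpow_mul, mul_comm, zpow_mul, zpow_natCast,
            show g * p * g⁻¹ = MulAut.conj g p by simp, ← map_pow, hp', map_one, one_zpow]
        exact (P.is_maximal' (hp3.to_sup_of_normal_right' P.isPGroup' ((Subgroup.zpowers_le).mpr (hKN.le (hPK p hp))))
          le_sup_right).le (Subgroup.mem_sup_left (Subgroup.mem_zpowers _))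
      rw [← hcent, Subgroup.mem_centralizer_singleton_iff] at hgP
      exact hs0C (by rw [← hg, hgP, mul_inv_cancel_right]; exact htC)
    have hs0inv : ∀ y ∈ C, s0 * y * s0⁻¹ = y⁻¹ := by
      intro y hy
      have hs0' : s0⁻¹ = s0 := inv_eq_of_mul_eq_one_right hs2
      have hsy : s0 * y * s0⁻¹ ∈ C := (Subgroup.mem_normalizer_iff.mp (hNC (hVN hs0V)) y).mp hy
      set b := y * (s0 * y * s0⁻¹) with hb
      have hbC : b ∈ C := C.mul_mem hy hsy
      have hbs : s0 * b * s0⁻¹ = b := by
        have e : s0 * b * s0⁻¹ = (s0 * y * s0⁻¹) * (s0 * s0) * y * (s0 * s0)⁻¹ := by rw [hb]; group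
        rw [e, hs2, mul_one, inv_one, mul_one, hb, hcomm _ hsy _ hy]
      -- b^n is 1 or t, b^(n) ... split off the P-part
      have hb2 : (b * b) = 1 := by
        apply hfix
        · apply hPmem _ (C.mul_mem hbC hbC)
          rw [← pow_two, ← pow_mul]
          have := pow_card_eq_one' (x := (⟨b, hbC⟩ : C))
          rw [hC] at this
          exact congrArg Subtype.val this
        · calc b * b * s0 = (s0 * b * s0⁻¹) * (s0 * b * s0⁻¹) * s0 := by rw [hbs]
            _ = s0 * (b * b) := by group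
      rcases htuniq b hbC hb2 with h | h
      · exact eq_inv_of_mul_eq_one_right h
      · exfalso
        have h1 : b ^ Nat.card P = 1 := by
          have hyn : (y ^ Nat.card P) * (y ^ Nat.card P) = 1 := by
            rw [← pow_add, ← two_mul, ← hC]
            exact congrArg Subtype.val (pow_card_eq_one' (x := (⟨y, hy⟩ : C)))
          have hbn : b ^ Nat.card P = y ^ Nat.card P * (s0 * y ^ Nat.card P * s0⁻¹) := by
            rw [hb, Commute.mul_pow (hcomm _ hy _ hsy), conj_pow]
          rw [hbn]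
          rcases htuniq _ (C.pow_mem hy _) hyn with e | e
          · rw [e]; simp
          · rw [e]
            have : s0 * t = t * s0 := Subgroup.mem_centralizer_singleton_iff.mp (hcent ▸ hVN hs0V)
            rw [this, mul_inv_cancel_right, ht2]
        obtain ⟨j, hj⟩ := Nat.odd_iff.mpr (by omega : Nat.card P % 2 = 1)
        rw [h, hj, pow_succ, pow_mul, pow_two, ht2, one_pow, one_mul] at h1
        exact ht1 h1
    intro s hsN hsC
    -- s ∈ s0 C
    have hrel : ∀ x ∈ N, x ∈ C ∨ s0⁻¹ * x ∈ C := by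
      intro x hx
      by_contra hcon
      push Not at hcon
      have hidx : (C.subgroupOf N).index = 2 := by
        have := (C.subgroupOf N).card_mul_index
        rw [Nat.card_congr (Subgroup.subgroupOfEquivOfLe hCN).toEquiv, hC, hN] at this
        have : 2 * Nat.card P * (C.subgroupOf N).index = 2 * Nat.card P * 2 := by rw [this]; ring
        exact Nat.eq_of_mul_eq_mul_left (by omega) this
      have := Subgroup.mul_mem_iff_of_index_two hidx (a := (⟨s0⁻¹, N.inv_mem (hVN hs0V)⟩ : N)) (b := ⟨x, hx⟩)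
      simp only [Subgroup.mem_subgroupOf, Subgroup.coe_mul, inv_mem_iff] at this
      exact hcon.2 (this.mpr ⟨fun h => absurd h hs0C, fun h => absurd h hcon.1⟩)
    obtain h | h := hrel s hsN
    · exact absurd h hsC
    set c := s0⁻¹ * s with hc
    have hs : s = s0 * c := by rw [hc, mul_inv_cancel_left]
    constructor
    · rw [hs, show s0 * c * (s0 * c) = s0 * c * s0⁻¹ * (s0 * s0) * c by group, hs2, mul_one,
        hs0inv c h, inv_mul_cancel]
    · intro y hy
      rw [hs, show s0 * c * y * (s0 * c)⁻¹ = s0 * (c * y * c⁻¹) * s0⁻¹ by group,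
        hcomm c h y hy, mul_inv_cancel_right, hs0inv y hy]
  -- products of two involutions
  have hcover : ∀ s x : G, s ≠ 1 → s * s = 1 → s * x ≠ 1 → (s * x) * (s * x) = 1 → x ≠ 1 →
      ∃ g, g * x * g⁻¹ ∈ C := by
    intro s x hs1 hs2 hsx1 hsx2 hx1
    by_cases hx2 : x * x = 1
    · obtain ⟨g, hg⟩ := isConj_iff.mp (hconj x hx1 hx2)
      exact ⟨g⁻¹, by rw [← hg]; simpa [mul_assoc] using htC⟩
    have hsinv : s⁻¹ = s := inv_eq_of_mul_eq_one_right hs2
    have hsxs : s * x * s⁻¹ = x⁻¹ := by
      rw [hsinv]; apply eq_inv_of_mul_eq_one_left; rw [mul_assoc, hsx2]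
    set E := Subgroup.normalizer ((Subgroup.zpowers x : Subgroup G) : Set G) with hE
    have hxE : x ∈ E := Subgroup.le_normalizer (Subgroup.mem_zpowers x)
    have hsE : s ∈ E := by
      rw [hE, Subgroup.mem_normalizer_iff_map_conj_eq, MonoidHom.map_zpowers]
      show Subgroup.zpowers (s * x * s⁻¹) = _
      rw [hsxs, Subgroup.zpowers_inv]
    have hEne : E ≠ ⊤ := by
      intro h
      rcases IsSimpleGroup.eq_bot_or_eq_top_of_normal _ (Subgroup.normalizer_eq_top_iff.mp h) with h' | h'
      · exact hx1 (Subgroup.zpowers_eq_bot.mp h')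
      · exact hna ⟨⟨fun p q => by
          obtain ⟨i, rfl⟩ : p ∈ Subgroup.zpowers x := h' ▸ Subgroup.mem_top p
          obtain ⟨j, rfl⟩ : q ∈ Subgroup.zpowers x := h' ▸ Subgroup.mem_top q
          exact zpow_mul_comm x i j⟩⟩
    have hdvd : orderOf x ∣ 4 * Nat.card P := by
      refine (Subgroup.orderOf_dvd_natCard E hxE).trans (heven E hEne ?_)
      have hos : orderOf s = 2 := orderOf_eq_prime (by rw [pow_two, hs2]) hs1
      have := Subgroup.orderOf_dvd_natCard E hsE
      rwa [hos] at this
    by_cases h3 : 3 ∣ orderOf x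
    · set w := x ^ (orderOf x / 3) with hw
      have how : orderOf w = 3 := by
        rw [hw, orderOf_pow_of_dvd (by
          have := orderOf_pos x
          exact (Nat.div_pos (Nat.le_of_dvd this h3) (by norm_num)).ne') (Nat.div_dvd_of_dvd h3),
          Nat.div_div_self h3 (orderOf_pos x).ne']
      obtain ⟨R, hR⟩ := (IsPGroup.of_card (G := Subgroup.zpowers w) (n := 1)
        (by rw [Nat.card_zpowers, how, pow_one])).exists_le_sylow
      obtain ⟨g, hg⟩ := MulAction.exists_smul_eq G R P
      have hgw : g * w * g⁻¹ ∈ (P : Subgroup G) := by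
        have hmem : w ∈ (R : Subgroup G) := hR (Subgroup.mem_zpowers w)
        rw [← hg, Sylow.coe_subgroup_smul, Subgroup.mem_pointwise_smul_iff_inv_smul_mem]
        simpa [MulAut.smul_def, mul_assoc] using hmem
      refine ⟨g, ?_⟩
      have hgw1 : g * w * g⁻¹ ≠ 1 := by
        rw [ne_eq, conj_eq_one_iff]; intro h; rw [h, orderOf_one] at how; omega
      have hcw : (g * x * g⁻¹) * (g * w * g⁻¹) * (g * x * g⁻¹)⁻¹ = g * w * g⁻¹ := by
        rw [hw, show g * x * g⁻¹ * (g * x ^ (orderOf x / 3) * g⁻¹) * (g * x * g⁻¹)⁻¹ =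
          g * (x * x ^ (orderOf x / 3) * x⁻¹) * g⁻¹ by group]
        rw [(Commute.refl x).pow_right _ |>.eq, mul_inv_cancel_right]
      have hN' := hti (g * x * g⁻¹) _ (hPC hgw) hgw1 (by rw [hcw]; exact hPC hgw)
      by_contra hnC
      have := (hinv _ hN' hnC).2 _ (hPC hgw)
      rw [hcw] at this
      have hsq : (g * w * g⁻¹) * (g * w * g⁻¹) = 1 := by nth_rewrite 1 [this]; exact inv_mul_cancel _
      rcases htuniq _ (hPC hgw) hsq with e | e
      · exact hgw1 e
      · apply hodd
        have htP : t ∈ (P : Subgroup G) := e ▸ hgw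
        have := Subgroup.orderOf_dvd_natCard _ htP
        rwa [ht] at this
    · exfalso
      have hd4 : orderOf x ∣ 4 := by
        refine Nat.Coprime.dvd_of_dvd_mul_right ?_ hdvd
        rw [ha]; exact (Nat.prime_three.coprime_iff_not_dvd.mpr h3).symm.pow_right a
      obtain ⟨W, hW⟩ := (show IsPGroup 2 (Subgroup.zpowers x) by
        obtain ⟨i, hi, hio⟩ := (Nat.dvd_prime_pow Nat.prime_two).mp (show orderOf x ∣ 2 ^ 2 from hd4)
        exact IsPGroup.of_card (n := i) (by rw [Nat.card_zpowers, hio])).exists_le_sylow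
      exact hx2 (hexp W x (hW (Subgroup.mem_zpowers x)))
  exact ⟨{ C := C, N := N, t := t, n := Nat.card P, le := hCN, cardC := hC, cardN := hN,
           commC := hcomm, tC := htC, tne := ht1, tsq := ht2, tuniq := htuniq, ti := hti,
           inv := hinv, centr := hcent, isConjT := hconj, cover := hcover }, rfl⟩

end H32.SmallThree
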