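import Mathlib
import Cfsg.Prelude.Def_LocalEven

/-!
A section isomorphic to the wreath product of two groups of prime order, from an element with a
free orbit on an elementary abelian subgroup.
-/

set_option autoImplicit false
set_option linter.style.haveILetI false

namespace H32.Wreath

variable {p : ℕ} [Fact p.Prime]

theorem sub_one_pow_eq' {R : Type*} [Ring R] [Algebra (ZMod p) R] (a : R) :
    (a - 1) ^ p = a ^ p - 1 := by
  have h : (Polynomial.X - 1 : Polynomial (ZMod p)) ^ p = Polynomial.X ^ p - 1 := by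
    rw [sub_pow_char, one_pow]
  simpa using congrArg (Polynomial.aeval a) h

theorem geom_sum' {R : Type*} [Ring R] [Algebra (ZMod p) R] (a : R) :
    ∑ i ∈ Finset.range p, a ^ i = (a - 1) ^ (p - 1) := by
  have h : (∑ i ∈ Finset.range p, (Polynomial.X : Polynomial (ZMod p)) ^ i) =
      (Polynomial.X - 1) ^ (p - 1) := by
    refine mul_right_cancel₀ (b := (Polynomial.X - 1 : Polynomial (ZMod p))) ?_ ?_
    · simpa using Polynomial.X_sub_C_ne_zero (1 : ZMod p)
    · rw [geom_sum_mul, ← pow_succ, Nat.sub_add_cancel (Fact.out : p.Prime).pos, sub_pow_char,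
        one_pow]
  simpa [map_sum] using congrArg (Polynomial.aeval a) h

/-- A nilpotent operator of index `p` has a free cyclic submodule. -/
theorem exists_free_submodule {M : Type*} [AddCommGroup M] [Module (ZMod p) M]
    (N : Module.End (ZMod p) M) (hN : N ^ p = 0) (v : M) (hv : (N ^ (p - 1)) v ≠ 0) :
    ∃ W : Submodule (ZMod p) M, Nat.card W = p ^ p ∧ (∀ w ∈ W, N w ∈ W) ∧
      Nat.card (W ⊓ LinearMap.ker N : Submodule (ZMod p) M) = p ∧ (N ^ (p - 1)) v ∈ W ∧ v ∈ W := by
  classical
  have hp := (Fact.out : p.Prime)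
  have hp1 : 1 ≤ p := hp.pos
  set b : Fin p → M := fun i => (N ^ (i : ℕ)) v with hb
  have hzero : ∀ j, p ≤ j → (N ^ j) v = 0 := fun j hj => by
    rw [show j = (j - p) + p by omega, pow_add, hN, mul_zero, LinearMap.zero_apply]
  have key : ∀ c : Fin p → ZMod p, ∀ j : Fin p, (∀ i : Fin p, i < j → c i = 0) →
      (N ^ (p - 1 - (j : ℕ))) (∑ i, c i • b i) = c j • (N ^ (p - 1)) v := by
    intro c j hj
    rw [map_sum, Finset.sum_eq_single j]
    · rw [map_smul, hb, ← Module.End.mul_apply, ← pow_add,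
        show p - 1 - (j : ℕ) + (j : ℕ) = p - 1 by omega]
    · intro i _ hij
      rcases lt_or_gt_of_ne hij with h | h
      · rw [hj i h, zero_smul, map_zero]
      · rw [map_smul, hb, ← Module.End.mul_apply, ← pow_add,
          hzero _ (by have : (j : ℕ) < i := h; omega), smul_zero]
    · intro h; exact absurd (Finset.mem_univ _) h
  have hli : LinearIndependent (ZMod p) b := by
    rw [Fintype.linearIndependent_iff]
    intro c hc
    by_contra hne
    push Not at hne
    obtain ⟨j, hj, hmin⟩ := Finset.exists_min_image (Finset.univ.filter fun i => c i ≠ 0)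
      (fun i => i) (by obtain ⟨i, hi⟩ := hne; exact ⟨i, by simpa using hi⟩)
    have h0 : ∀ i : Fin p, i < j → c i = 0 := fun i hi => by
      by_contra hci
      exact absurd (hmin i (by simpa using hci)) (not_le.mpr hi)
    have := key c j h0
    rw [hc, map_zero] at this
    rcases smul_eq_zero.mp this.symm with h | h
    · exact (Finset.mem_filter.mp hj).2 h
    · exact hv h
  set W := Submodule.span (ZMod p) (Set.range b) with hW
  have hrank : Module.finrank (ZMod p) W = p := by
    rw [hW, finrank_span_eq_card hli, Fintype.card_fin]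
  haveI : Module.Finite (ZMod p) W := Module.Finite.span_of_finite _ (Set.finite_range b)
  have hcard : Nat.card W = p ^ p := by
    rw [Module.natCard_eq_pow_finrank (K := ZMod p), hrank, Nat.card_zmod]
  have hmemb : ∀ j, (N ^ j) v ∈ W := fun j => by
    by_cases h : j < p
    · exact Submodule.subset_span ⟨⟨j, h⟩, rfl⟩
    · rw [hzero j (by omega)]; exact zero_mem _
  have hinv : ∀ w ∈ W, N w ∈ W := by
    intro w hw
    induction hw using Submodule.span_induction with
    | mem x hx =>
      obtain ⟨i, rfl⟩ := hx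
      rw [hb, ← Module.End.mul_apply, ← pow_succ']
      exact hmemb _
    | zero => simp
    | add x y _ _ hx hy => rw [map_add]; exact add_mem hx hy
    | smul a x _ hx => rw [map_smul]; exact Submodule.smul_mem _ a hx
  refine ⟨W, hcard, hinv, ?_, hmemb _, by simpa using hmemb 0⟩
  have hker : W ⊓ LinearMap.ker N = Submodule.span (ZMod p) {(N ^ (p - 1)) v} := by
    refine le_antisymm ?_ ?_
    · rintro w ⟨hw, hNw⟩
      obtain ⟨c, rfl⟩ := (Submodule.mem_span_range_iff_exists_fun _).mp hw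
      rw [Submodule.mem_span_singleton]
      have hsmall : ∀ j : Fin p, (j : ℕ) + 1 < p → c j = 0 := by
        intro j
        induction hjn : (j : ℕ) using Nat.strong_induction_on generalizing j with
        | _ k ih =>
          intro hlt
          have h0 : ∀ i : Fin p, i < j → c i = 0 := fun i hi =>
            ih i (by rw [← hjn]; exact hi) i rfl (by have : (i : ℕ) < j := hi; omega)
          have := key c j h0
          rw [show p - 1 - (j : ℕ) = (p - 2 - (j : ℕ)) + 1 by omega, pow_succ,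
            Module.End.mul_apply, LinearMap.mem_ker.mp hNw, map_zero] at this
          exact (smul_eq_zero.mp this.symm).resolve_right hv
      refine ⟨c ⟨p - 1, by omega⟩, ?_⟩
      rw [Finset.sum_eq_single (⟨p - 1, by omega⟩ : Fin p)]
      · intro i _ hi
        rw [hsmall i ?_, zero_smul]
        have : (i : ℕ) ≠ p - 1 := fun h => hi (Fin.ext h)
        omega
      · intro h; exact absurd (Finset.mem_univ _) h
    · rw [Submodule.span_le, Set.singleton_subset_iff]
      refine ⟨hmemb _, LinearMap.mem_ker.mpr ?_⟩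
      rw [← Module.End.mul_apply, ← pow_succ', Nat.sub_add_cancel hp1, hN, LinearMap.zero_apply]
  rw [hker, Module.natCard_eq_pow_finrank (K := ZMod p), Nat.card_zmod,
    finrank_span_singleton hv, pow_one]

/-- The group form: a free orbit sum gives a free invariant subgroup. -/
theorem exists_free_subgroup {X : Type*} [Group X] [Finite X] (V : Subgroup X) [V.Normal]
    (hV : Cfsg.IsElementaryAbelian p V) (c : X) (hc : c ^ p ∈ Subgroup.centralizer (V : Set X))
    (v : X) (hv : v ∈ V) (hne : (v * c) ^ p ≠ c ^ p) :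
    ∃ W : Subgroup X, W ≤ V ∧ Nat.card W = p ^ p ∧ (∀ w ∈ W, c * w * c⁻¹ ∈ W) ∧
      Nat.card ↥(W ⊓ Subgroup.centralizer ({c} : Set X)) = p ∧ (v * c) ^ p * (c ^ p)⁻¹ ∈ W ∧
      v ∈ W := by
  classical
  letI : CommGroup V := { (inferInstance : Group V) with mul_comm := hV.1.is_comm.comm }
  haveI : Module (ZMod p) (Additive V) :=
    AddCommGroup.zmodModule (fun x => by
      apply Additive.toMul.injective
      exact Subtype.ext (by simpa using hV.2 _ (Additive.toMul x).2))
  let L : Module.End (ZMod p) (Additive V) :=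
    (MonoidHom.toAdditive (MulAut.conjNormal c : MulAut V).toMonoidHom).toZModLinearMap p
  have hL : ∀ x : Additive V, ((Additive.toMul (L x) : V) : X) =
      c * (Additive.toMul x : V) * c⁻¹ := fun x => rfl
  have hLpow : ∀ (j : ℕ) (x : Additive V), ((Additive.toMul ((L ^ j) x) : V) : X) =
      c ^ j * (Additive.toMul x : V) * (c ^ j)⁻¹ := by
    intro j
    induction j with
    | zero => intro x; simp
    | succ j ih => intro x; rw [pow_succ', Module.End.mul_apply, hL, ih, pow_succ']; group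
  have hN : (L - 1) ^ p = 0 := by
    have : L ^ p = 1 := LinearMap.ext fun x => Additive.toMul.injective (Subtype.ext (by
      rw [hLpow, ← (Subgroup.mem_centralizer_iff.mp hc) _ (Additive.toMul x).2,
        mul_inv_cancel_right]
      rfl))
    rw [H32.Wreath.sub_one_pow_eq', this, sub_self]
  set x₀ : Additive V := Additive.ofMul ⟨v, hv⟩
  have hsum : ∀ j : ℕ, (v * c) ^ j =
      ((Additive.toMul ((∑ i ∈ Finset.range j, L ^ i) x₀) : V) : X) * c ^ j := by
    intro j
    induction j with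
    | zero => simp
    | succ j ih =>
      rw [pow_succ, ih, Finset.sum_range_succ, LinearMap.add_apply, toMul_add, Subgroup.coe_mul,
        hLpow, pow_succ]
      show _ = _ * (c ^ j * v * (c ^ j)⁻¹) * (c ^ j * c)
      group
  have hgeom : ∑ i ∈ Finset.range p, L ^ i = (L - 1) ^ (p - 1) := H32.Wreath.geom_sum' L
  have hsp := hsum p
  rw [hgeom] at hsp
  have hv' : ((L - 1) ^ (p - 1)) x₀ ≠ 0 := by
    intro h
    rw [h] at hsp
    exact hne (by simpa using hsp)
  obtain ⟨W, hWc, hWi, hWk, hWn, hWv⟩ := exists_free_submodule (L - 1) hN x₀ hv'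
  let W' : Subgroup X := (W.toAddSubgroup.toSubgroup').map V.subtype
  have hmem : ∀ y, y ∈ W' ↔ ∃ w ∈ W, ((Additive.toMul w : V) : X) = y := fun y =>
    ⟨fun ⟨a, ha, he⟩ => ⟨Additive.ofMul a, ha, he⟩, fun ⟨w, hw, he⟩ => ⟨Additive.toMul w, hw, he⟩⟩
  have hWinv : ∀ w ∈ W, L w ∈ W := fun w hw => by
    have := add_mem (hWi w hw) hw
    simpa using this
  refine ⟨W', Subgroup.map_subtype_le _, ?_, ?_, ?_, ?_, ?_⟩
  · rw [Subgroup.card_subtype]
    exact hWc
  · intro y hy
    obtain ⟨w, hw, rfl⟩ := (hmem y).mp hy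
    exact (hmem _).mpr ⟨L w, hWinv w hw, hL w⟩
  · have e : W' ⊓ Subgroup.centralizer ({c} : Set X) =
        ((W ⊓ LinearMap.ker (L - 1)).toAddSubgroup.toSubgroup').map V.subtype := by
      ext y
      rw [Subgroup.mem_inf, Subgroup.mem_centralizer_singleton_iff]
      constructor
      · rintro ⟨hy, hcy⟩
        obtain ⟨w, hw, rfl⟩ := (hmem y).mp hy
        refine ⟨Additive.toMul w, ⟨hw, LinearMap.mem_ker.mpr ?_⟩, rfl⟩
        rw [LinearMap.sub_apply, sub_eq_zero]
        apply Additive.toMul.injective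
        apply Subtype.ext
        rw [hL, mul_inv_eq_iff_eq_mul]
        exact hcy.symm
      · rintro ⟨a, ⟨haW, hak⟩, rfl⟩
        refine ⟨⟨a, haW, rfl⟩, ?_⟩
        have h1 := LinearMap.mem_ker.mp hak
        rw [LinearMap.sub_apply, sub_eq_zero] at h1
        have h2 := congrArg (fun z : Additive V => ((Additive.toMul z : V) : X)) h1
        simp only [hL] at h2
        exact (mul_inv_eq_iff_eq_mul.mp h2).symm
    rw [e, Subgroup.card_subtype]
    exact hWk
  · rw [hsp, mul_inv_cancel_right]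
    exact (hmem _).mpr ⟨_, hWn, rfl⟩
  · exact (hmem _).mpr ⟨x₀, hWv, rfl⟩

/-- A surjection from a subgroup gives involvement. -/
theorem involves_of_surjective {G : Type*} [Group G] {H : Type*} [Group H] {K : Subgroup G}
    (f : K →* H) (hf : Function.Surjective f) : Cfsg.Involves H G := by
  refine ⟨K, f.ker.map K.subtype, ?_⟩
  have e : (f.ker.map K.subtype).subgroupOf K = f.ker :=
    Subgroup.comap_map_eq_self_of_injective K.subtype_injective _
  haveI : ((f.ker.map K.subtype).subgroupOf K).Normal := by rw [e]; infer_instance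
  exact ⟨this, ⟨(QuotientGroup.quotientMulEquivOfEq e).trans
    (QuotientGroup.quotientKerEquivOfSurjective f hf)⟩⟩

theorem mem_normalizer_of_finite {X : Type*} [Group X] [Finite X] (W : Subgroup X) (c : X)
    (h : ∀ w ∈ W, c * w * c⁻¹ ∈ W) : c ∈ Subgroup.normalizer (W : Set X) := by
  have hle : W.map (MulAut.conj c).toMonoidHom ≤ W := by
    rintro _ ⟨w, hw, rfl⟩; exact h w hw
  have heq := Subgroup.eq_of_le_of_card_ge hle
    (le_of_eq (Subgroup.card_map_of_injective (MulAut.conj c).injective).symm)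
  rw [Subgroup.mem_normalizer_iff]
  refine fun w => ⟨h w, fun hw => ?_⟩
  rw [← heq] at hw
  obtain ⟨a, ha, he⟩ := hw
  exact (MulAut.conj c).injective he ▸ ha

theorem card_map_of_injOn {X Y : Type*} [Group X] [Group Y] (H : Subgroup X) (f : X →* Y)
    (h : Function.Injective fun a : H => f a) : Nat.card (H.map f) = Nat.card H := by
  refine (Nat.card_congr (Equiv.ofBijective (fun a : H => (⟨f a, Subgroup.mem_map_of_mem f a.2⟩ : H.map f))
    ⟨fun a b e => h (congrArg Subtype.val e), ?_⟩)).symm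
  rintro ⟨_, a, ha, rfl⟩
  exact ⟨⟨a, ha⟩, rfl⟩

/-- The shape of `C_p ≀ C_p`. -/
def IsShape (p : ℕ) (W : Type*) [Group W] : Prop :=
  ∃ (B : Subgroup W) (t : W), B.Normal ∧ IsMulCommutative B ∧ (∀ b ∈ B, b ^ p = 1) ∧
    Nat.card B = p ^ p ∧ orderOf t = p ∧ t ∉ B ∧ Nat.card W = p ^ (p + 1) ∧
    Nat.card ↥(B ⊓ Subgroup.centralizer ({t} : Set W)) = p

theorem isShape_congr {W W' : Type*} [Group W] [Group W'] (e : W ≃* W') (h : IsShape p W) :
    IsShape p W' := by
  obtain ⟨B, t, hBn, hBc, hBp, hBcard, ht, htB, hWcard, hfix⟩ := h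
  refine ⟨B.map e.toMonoidHom, e t, hBn.map _ e.surjective, ⟨⟨?_⟩⟩, ?_, ?_, ?_, ?_, ?_, ?_⟩
  · rintro ⟨_, a, ha, rfl⟩ ⟨_, b, hb, rfl⟩
    exact Subtype.ext ((Commute.map (congrArg Subtype.val (hBc.is_comm.comm ⟨a, ha⟩ ⟨b, hb⟩))
      e.toMonoidHom).eq)
  · rintro _ ⟨b, hb, rfl⟩
    rw [← map_pow, hBp b hb, map_one]
  · rw [Subgroup.card_map_of_injective e.injective, hBcard]
  · rw [MulEquiv.orderOf_eq, ht]
  · rintro ⟨b, hb, hbe⟩
    exact htB (e.injective hbe ▸ hb)
  · rw [← Nat.card_congr e.toEquiv, hWcard]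
  · rw [← hfix, ← Subgroup.card_map_of_injective (f := e.toMonoidHom) e.injective]
    congr 2
    ext y
    simp only [Subgroup.mem_inf, Subgroup.mem_map, Subgroup.mem_centralizer_singleton_iff]
    constructor
    · rintro ⟨⟨b, hb, rfl⟩, hc⟩
      exact ⟨b, ⟨hb, e.injective (by simpa using hc)⟩, rfl⟩
    · rintro ⟨b, ⟨hb, hc⟩, rfl⟩
      exact ⟨⟨b, hb, rfl⟩, by simpa using congrArg e hc⟩

/-- The section. -/
theorem exists_shape {X : Type*} [Group X] [Finite X] (T W : Subgroup X) (hWT : W ≤ T) (c : X)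
    (hcT : c ∈ T) (hWc : ∀ a ∈ W, ∀ b ∈ W, Commute a b) (hWp : ∀ a ∈ W, a ^ p = 1)
    (hWcard : Nat.card W = p ^ p) (hnorm : ∀ w ∈ W, c * w * c⁻¹ ∈ W)
    (hfix : Nat.card ↥(W ⊓ Subgroup.centralizer ({c} : Set X)) = p)
    (hz : ∀ w ∈ W, Commute (c ^ p) w) (hdisj : W ⊓ Subgroup.zpowers (c ^ p) = ⊥) :
    ∃ (H : Type) (_ : Group H) (_ : Finite H), IsShape p H ∧ Cfsg.Involves H T := by
  classical
  have hp := (Fact.out : p.Prime)
  set T₁ := W ⊔ Subgroup.zpowers c with hT₁
  have hT₁T : T₁ ≤ T := sup_le hWT (Subgroup.zpowers_le.mpr hcT)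
  have hcT₁ : c ∈ T₁ := le_sup_right (a := W) (Subgroup.mem_zpowers c)
  have hWT₁ : W ≤ T₁ := le_sup_left
  set R : Subgroup T₁ := (Subgroup.zpowers (c ^ p)).subgroupOf T₁ with hR
  haveI hRn : R.Normal := by
    rw [hR, Subgroup.normal_subgroupOf_iff_le_normalizer (Subgroup.zpowers_le.mpr (pow_mem hcT₁ p))]
    refine le_trans ?_ (Subgroup.centralizer_le_normalizer _)
    refine sup_le (fun w hw => ?_) (Subgroup.zpowers_le.mpr ?_)
    · rw [Subgroup.mem_centralizer_iff]
      rintro _ ⟨i, rfl⟩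
      exact ((hz w hw).zpow_left i).eq
    · rw [Subgroup.mem_centralizer_iff]
      rintro _ ⟨i, rfl⟩
      exact (((Commute.refl c).pow_left p).zpow_left i).eq
  have hWnorm : Subgroup.zpowers c ≤ Subgroup.normalizer (W : Set X) := by
    rw [Subgroup.zpowers_le]
    exact mem_normalizer_of_finite W c hnorm
  haveI hWn : (W.subgroupOf T₁).Normal := by
    rw [Subgroup.normal_subgroupOf_iff_le_normalizer hWT₁]
    exact sup_le Subgroup.le_normalizer hWnorm
  set q := QuotientGroup.mk' R with hq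
  set B := (W.subgroupOf T₁).map q with hB
  set t := q ⟨c, hcT₁⟩ with ht
  have hinjW : ∀ w : T₁, (w : X) ∈ W → q w = 1 → w = 1 := by
    intro w hw h
    have hwR : w ∈ R := (QuotientGroup.eq_one_iff w).mp h
    exact Subtype.ext ((Subgroup.mem_bot).mp (hdisj.le ⟨hw, Subgroup.mem_subgroupOf.mp hwR⟩))
  have hBn : B.Normal := hWn.map q (QuotientGroup.mk'_surjective R)
  have hBcard : Nat.card B = p ^ p := by
    rw [← hWcard, hB, ← Nat.card_congr (Subgroup.subgroupOfEquivOfLe hWT₁).toEquiv]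
    refine card_map_of_injOn _ q ?_
    rintro ⟨a, ha⟩ ⟨b, hb⟩ h
    refine Subtype.ext ?_
    have := hinjW (a * b⁻¹) (mul_mem (Subgroup.mem_subgroupOf.mp ha)
      (inv_mem (Subgroup.mem_subgroupOf.mp hb))) (by
        rw [map_mul, map_inv, mul_inv_eq_one]; exact h)
    exact mul_inv_eq_one.mp this
  have htp : t ^ p = 1 := by
    rw [ht, ← map_pow]
    refine (QuotientGroup.eq_one_iff _).mpr ?_
    exact Subgroup.mem_subgroupOf.mpr (Subgroup.mem_zpowers _)
  have hfixlt : Nat.card ↥(W ⊓ Subgroup.centralizer ({c} : Set X)) < Nat.card W := by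
    rw [hfix, hWcard]
    calc p = p ^ 1 := (pow_one p).symm
      _ < p ^ p := Nat.pow_lt_pow_right hp.one_lt hp.one_lt
  have htB : t ∉ B := by
    rintro ⟨w, hw, hwt⟩
    apply hfixlt.ne
    congr 2
    refine inf_eq_left.mpr fun a ha => Subgroup.mem_centralizer_singleton_iff.mpr ?_
    have hwR : w⁻¹ * ⟨c, hcT₁⟩ ∈ R := by
      rw [← QuotientGroup.eq_one_iff]
      show q (w⁻¹ * ⟨c, hcT₁⟩) = 1
      rw [map_mul, map_inv, hwt, ht, inv_mul_cancel]
    obtain ⟨i, hi⟩ := Subgroup.mem_subgroupOf.mp hwR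
    have hc_eq : c = (w : X) * (c ^ p) ^ i := by
      simp only [Subgroup.coe_mul, Subgroup.coe_inv] at hi
      rw [hi]; group
    rw [hc_eq]
    exact ((hWc _ ha _ (Subgroup.mem_subgroupOf.mp hw)).mul_right ((hz a ha).symm.zpow_right i)).eq
  have htord : orderOf t = p := by
    refine orderOf_eq_prime htp fun h => htB ?_
    rw [h]; exact one_mem B
  haveI := hBn
  have htop : ∀ x : T₁ ⧸ R, ∃ b ∈ B, ∃ i : ℤ, x = b * t ^ i := by
    intro x
    obtain ⟨⟨x, hx⟩, rfl⟩ := QuotientGroup.mk'_surjective R x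
    have hx' : x ∈ Set.image2 (· * ·) (W : Set X) (Subgroup.zpowers c : Set X) := by
      open scoped Pointwise in
      rw [Set.image2_mul, ← Subgroup.coe_mul_of_right_le_normalizer_left _ _ hWnorm]
      exact hx
    obtain ⟨a, ha, d, ⟨i, rfl⟩, rfl⟩ := hx'
    refine ⟨q ⟨a, hWT₁ ha⟩, ⟨⟨a, hWT₁ ha⟩, Subgroup.mem_subgroupOf.mpr ha, rfl⟩, i, ?_⟩
    rw [ht, ← map_zpow, ← map_mul]
    rfl
  have hidx : B.index = p := by
    have hgen : ∀ y : (T₁ ⧸ R) ⧸ B, y ∈ Subgroup.zpowers (QuotientGroup.mk' B t) := by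
      intro y
      obtain ⟨x, rfl⟩ := QuotientGroup.mk'_surjective B y
      obtain ⟨b, hb, i, rfl⟩ := htop x
      refine ⟨i, ?_⟩
      rw [map_mul, map_zpow, (QuotientGroup.eq_one_iff b).mpr hb |> (fun h => show
        QuotientGroup.mk' B b = 1 from h), one_mul]
    rw [Subgroup.index_eq_card, ← orderOf_eq_card_of_forall_mem_zpowers hgen]
    refine orderOf_eq_prime (by rw [← map_pow, htp, map_one]) fun h => htB ?_
    exact (QuotientGroup.eq_one_iff t).mp h
  have hcard : Nat.card (T₁ ⧸ R) = p ^ (p + 1) := by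
    rw [← B.card_mul_index, hBcard, hidx, pow_succ]
  have hshape : IsShape p (T₁ ⧸ R) := by
    refine ⟨B, t, hBn, ⟨⟨?_⟩⟩, ?_, hBcard, htord, htB, hcard, ?_⟩
    · rintro ⟨_, a, ha, rfl⟩ ⟨_, b, hb, rfl⟩
      refine Subtype.ext ?_
      show q a * q b = q b * q a
      rw [← map_mul, ← map_mul]
      exact congrArg q (Subtype.ext (hWc _ (Subgroup.mem_subgroupOf.mp ha) _
        (Subgroup.mem_subgroupOf.mp hb)).eq)
    · rintro _ ⟨a, ha, rfl⟩
      rw [← map_pow]
      rw [show a ^ p = 1 from Subtype.ext (by simpa using hWp _ (Subgroup.mem_subgroupOf.mp ha)),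
        map_one]
    · rw [← hfix]
      have e : B ⊓ Subgroup.centralizer ({t} : Set (T₁ ⧸ R)) =
          ((W ⊓ Subgroup.centralizer ({c} : Set X)).subgroupOf T₁).map q := by
        refine le_antisymm ?_ ?_
        · rintro _ ⟨⟨a, ha, rfl⟩, hat⟩
          refine ⟨a, Subgroup.mem_subgroupOf.mpr ⟨Subgroup.mem_subgroupOf.mp ha, ?_⟩, rfl⟩
          replace hat : q a * t = t * q a := Subgroup.mem_centralizer_singleton_iff.mp hat
          refine Subgroup.mem_centralizer_singleton_iff.mpr ?_
          have haW := Subgroup.mem_subgroupOf.mp ha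
          set u : T₁ := ⟨c, hcT₁⟩ * a * ⟨c, hcT₁⟩⁻¹ * a⁻¹
          have hu : u = 1 := by
            refine hinjW u ?_ ?_
            · exact mul_mem (hnorm _ haW) (inv_mem haW)
            · simp only [u, map_mul, map_inv]
              rw [← ht, ← hat]
              group
          have := congrArg Subtype.val hu
          simp only [u, Subgroup.coe_mul, Subgroup.coe_inv, Subgroup.coe_one] at this
          exact (mul_inv_eq_iff_eq_mul.mp (mul_inv_eq_one.mp this)).symm
        · rintro _ ⟨a, ha, rfl⟩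
          obtain ⟨haW, hac⟩ := Subgroup.mem_subgroupOf.mp ha
          refine ⟨⟨a, Subgroup.mem_subgroupOf.mpr haW, rfl⟩, ?_⟩
          replace hac : (a : X) * c = c * a := Subgroup.mem_centralizer_singleton_iff.mp hac
          refine Subgroup.mem_centralizer_singleton_iff.mpr ?_
          rw [ht, ← map_mul, ← map_mul]
          exact congrArg q (Subtype.ext hac)
      rw [e, ← Nat.card_congr (Subgroup.subgroupOfEquivOfLe (inf_le_left.trans hWT₁)).toEquiv]
      refine card_map_of_injOn _ q ?_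
      rintro ⟨a, ha⟩ ⟨b, hb⟩ h
      refine Subtype.ext ?_
      have := hinjW (a * b⁻¹) (mul_mem (Subgroup.mem_subgroupOf.mp ha).1
        (inv_mem (Subgroup.mem_subgroupOf.mp hb).1)) (by
          rw [map_mul, map_inv, mul_inv_eq_one]; exact h)
      exact mul_inv_eq_one.mp this
  refine ⟨Shrink.{0} (T₁ ⧸ R), inferInstance, inferInstance,
    isShape_congr Shrink.mulEquiv.symm hshape, ?_⟩
  let f : (T₁.subgroupOf T) →* Shrink.{0} (T₁ ⧸ R) :=
    (Shrink.mulEquiv.symm.toMonoidHom.comp q).comp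
      (Subgroup.subgroupOfEquivOfLe hT₁T).toMonoidHom
  refine involves_of_surjective f ?_
  exact (Shrink.mulEquiv.symm.surjective.comp (QuotientGroup.mk'_surjective R)).comp
    (Subgroup.subgroupOfEquivOfLe hT₁T).surjective

end H32.Wreath
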